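import Cfsg.Agent.TAB.F42.G.PX_m3
import Cfsg.Agent.TAB.F22.FxA_m3
import Cfsg.Agent.DZ3.Spor.Tr_m3
import Cfsg.Agent.Prune
set_option linter.all false
prune_inst 0x7f00000000000000000000000000000000000000000000000000000000000000000000000000000000000000000000000000000000000000000000000000000000000000000000000000000000000000003fffffffffffffffffffffffffffbeffbdffffffff
open scoped Cfsg.Agent.FastGrp
private noncomputable def lq2675025b5c {T : Sort _} (f :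
    ((Int) → (Int)) →
    type_of% (@_root_.List.cons.{0} (Int)) →
    type_of% (@_root_.List.cons.{0}) →
    type_of% (@_root_.Prod.mk.{0, 0}) →
    type_of% (@_root_.List.nil.{0}) →
    type_of% (@_root_.Cfsg.Agent.TAB.Eng.Op.lin) →
    ((Prod Nat Nat) → (Prod Nat Nat)) →
    ((Nat) → (Nat)) →
    type_of% (@_root_.List.cons.{0} (Nat)) →
    type_of% (@_root_.List.cons.{0} (Prod Nat Nat)) →
    type_of% (@_root_.List.cons.{0} (List Int)) →
    type_of% (@_root_.Cfsg.Agent.TAB.Eng.Op.mul) →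
    type_of% (@_root_.Cfsg.Agent.TAB.Eng.Op.gen) →
    ((Cfsg.Agent.TAB.Eng.Op) → (Cfsg.Agent.TAB.Eng.Op)) →
    type_of% (@_root_.List.cons.{0} (Cfsg.Agent.TAB.Eng.Op)) →
    type_of% (@_root_.Cfsg.Agent.TAB.Eng.Cert.mk) →
    type_of% (@_root_.Cfsg.Agent.TAB.Eng.Op.one) →
    type_of% (@_root_.Cfsg.Agent.TAB.F42.okSpan) →
    type_of% (@_root_.Cfsg.Agent.TAB.F42.D) →
    type_of% (@_root_.Cfsg.Agent.TAB.F42.pY) →
    type_of% (@_root_.Cfsg.Agent.TAB.F42.na) →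
    type_of% (@_root_.Cfsg.Agent.TAB.F42.nb) →
    type_of% (@_root_.Cfsg.Agent.TAB.F42.nc) →
    type_of% (@_root_.Cfsg.Agent.TAB.F42.pY') →
    type_of% (@_root_.Cfsg.Agent.TAB.F42.na') →
    type_of% (@_root_.Cfsg.Agent.TAB.F42.nb') →
    type_of% (@_root_.Cfsg.Agent.TAB.F42.nc') → T) : T :=
  f (fun x => x) (@_root_.List.cons.{0} (Int)) (@_root_.List.cons.{0}) (@_root_.Prod.mk.{0, 0}) (@_root_.List.nil.{0}) (@_root_.Cfsg.Agent.TAB.Eng.Op.lin) (fun x => x) (fun x => x) (@_root_.List.cons.{0} (Nat)) (@_root_.List.cons.{0} (Prod Nat Nat)) (@_root_.List.cons.{0} (List Int)) (@_root_.Cfsg.Agent.TAB.Eng.Op.mul) (@_root_.Cfsg.Agent.TAB.Eng.Op.gen) (fun x => x) (@_root_.List.cons.{0} (Cfsg.Agent.TAB.Eng.Op)) (@_root_.Cfsg.Agent.TAB.Eng.Cert.mk) (@_root_.Cfsg.Agent.TAB.Eng.Op.one) (@_root_.Cfsg.Agent.TAB.F42.okSpan) (@_root_.Cfsg.Agent.TAB.F42.D) (@_root_.Cfsg.Agent.TAB.F42.pY) (@_root_.Cfsg.Agent.TAB.F42.na)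 (@_root_.Cfsg.Agent.TAB.F42.nb) (@_root_.Cfsg.Agent.TAB.F42.nc) (@_root_.Cfsg.Agent.TAB.F42.pY') (@_root_.Cfsg.Agent.TAB.F42.na') (@_root_.Cfsg.Agent.TAB.F42.nb') (@_root_.Cfsg.Agent.TAB.F42.nc')

/-!
# The table of `F₄(2)` : rows and certificates (helper15, TAB)

* `rA` : the 89 rational irreducible characters, `rB` : the sums of the three pairs;
* `rows_of`, `tab_of` : the table from `Hyp T`.
-/

set_option autoImplicit false
set_option maxRecDepth 100000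

namespace Cfsg.Agent.TAB.F42

open Cfsg Cfsg.Agent.TAB.Eng Cfsg.Agent.TAB.Use Cfsg.Agent.TAB.Co

/-- degree `1` -/
def r0 : List ℤ := (beta% delta% lq2675025b5c fun a b d _ f _ _ _ _ _ _ _ _ _ _ _ _ _ _ _ _ _ _ _ _ _ _ =>
 (let c:=(let c:=(let c:=(let c:=(b (1 :type_of% (a _))<|b (1 :type_of% (a _))<|b (1 :type_of% (a _))<|b (1 :type_of% (a _))<|b (1 :type_of% (a _))<|b (1 :type_of% (a _))<|f);
 (b (1 :type_of% (a _))<|b (1 :type_of% (a _))<|b (1 :type_of% (a _))<|b (1 :type_of% (a _))<|b (1 :type_of% (a _))<|b (1 :type_of% (a _))<|c));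
 (let c:=(b (1 :type_of% (a _))<|b (1 :type_of% (a _))<|b (1 :type_of% (a _))<|b (1 :type_of% (a _))<|b (1 :type_of% (a _))<|b (1 :type_of% (a _))<|c);
 (b (1 :type_of% (a _))<|b (1 :type_of% (a _))<|b (1 :type_of% (a _))<|b (1 :type_of% (a _))<|b (1 :type_of% (a _))<|c)));
 (let c:=(let c:=(b (1 :type_of% (a _))<|b (1 :type_of% (a _))<|b (1 :type_of% (a _))<|b (1 :type_of% (a _))<|b (1 :type_of% (a _))<|b (1 :type_of% (a _))<|c);
 (b (1 :type_of% (a _))<|b (1 :type_of% (a _))<|b (1 :type_of% (a _))<|b (1 :type_of% (a _))<|b (1 :type_of% (a _))<|b (1 :type_of% (a _))<|c));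
 (let c:=(b (1 :type_of% (a _))<|b (1 :type_of% (a _))<|b (1 :type_of% (a _))<|b (1 :type_of% (a _))<|b (1 :type_of% (a _))<|b (1 :type_of% (a _))<|c);
 (b (1 :type_of% (a _))<|b (1 :type_of% (a _))<|b (1 :type_of% (a _))<|b (1 :type_of% (a _))<|b (1 :type_of% (a _))<|c))));
 (let c:=(let c:=(let c:=(b (1 :type_of% (a _))<|b (1 :type_of% (a _))<|b (1 :type_of% (a _))<|
 b (1 :type_of% (a _))<|b (1 :type_of% (a _))<|b (1 :type_of% (a _))<|c);
 (b (1 :type_of% (a _))<|b (1 :type_of% (a _))<|b (1 :type_of% (a _))<|b (1 :type_of% (a _))<|b (1 :type_of% (a _))<|b (1 :type_of% (a _))<|c));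
 (let c:=(b (1 :type_of% (a _))<|b (1 :type_of% (a _))<|b (1 :type_of% (a _))<|b (1 :type_of% (a _))<|b (1 :type_of% (a _))<|b (1 :type_of% (a _))<|c);
 (b (1 :type_of% (a _))<|b (1 :type_of% (a _))<|b (1 :type_of% (a _))<|b (1 :type_of% (a _))<|b (1 :type_of% (a _))<|c)));
 (let c:=(let c:=(b (1 :type_of% (a _))<|b (1 :type_of% (a _))<|b (1 :type_of% (a _))<|b (1 :type_of% (a _))<|b (1 :type_of% (a _))<|b (1 :type_of% (a _))<|c);
 (b (1 :type_of% (a _))<|b (1 :type_of% (a _))<|b (1 :type_of% (a _))<|b (1 :type_of% (a _))<|b (1 :type_of% (a _))<|b (1 :type_of% (a _))<|c));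
 (let c:=(b (1 :type_of% (a _))<|b (1 :type_of% (a _))<|b (1 :type_of% (a _))<|b (1 :type_of% (a _))<|b (1 :type_of% (a _))<|b (1 :type_of% (a _))<|c);
 (d (1 :type_of% (a _))<|d (1 :type_of% (a _))<|d (1 :type_of% (a _))<|d (1 :type_of% (a _))<|d (1 :type_of% (a _))<|c))))))

/-- degree `833` -/
def r1 : List ℤ := (beta% delta% lq2675025b5c fun a b d _ f _ _ _ _ _ _ _ _ _ _ _ _ _ _ _ _ _ _ _ _ _ _ =>
 (let c:=(let c:=(let c:=(let c:=(b (-2 :type_of% (a _))<|b (0 :type_of% (a _))<|b (0 :type_of% (a _))<|b (0 :type_of% (a _))<|b (-1 :type_of% (a _))<|b (-1 :type_of% (a _))<|f);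
 (b (-2 :type_of% (a _))<|b (0 :type_of% (a _))<|b (0 :type_of% (a _))<|b (0 :type_of% (a _))<|b (0 :type_of% (a _))<|b (-2 :type_of% (a _))<|c));
 (let c:=(b (-1 :type_of% (a _))<|b (1 :type_of% (a _))<|b (1 :type_of% (a _))<|b (0 :type_of% (a _))<|b (0 :type_of% (a _))<|b (0 :type_of% (a _))<|
 c);
 (b (1 :type_of% (a _))<|b (0 :type_of% (a _))<|b (0 :type_of% (a _))<|b (-1 :type_of% (a _))<|b (-1 :type_of% (a _))<|c)));
 (let c:=(let c:=(b (2 :type_of% (a _))<|b (2 :type_of% (a _))<|b (0 :type_of% (a _))<|b (0 :type_of% (a _))<|b (0 :type_of% (a _))<|b (0 :type_of% (a _))<|c);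
 (b (0 :type_of% (a _))<|b (-4 :type_of% (a _))<|b (-4 :type_of% (a _))<|b (0 :type_of% (a _))<|b (2 :type_of% (a _))<|b (2 :type_of% (a _))<|c));
 (let c:=(b (2 :type_of% (a _))<|b (0 :type_of% (a _))<|b (-2 :type_of% (a _))<|b (-2 :type_of% (a _))<|b (-2 :type_of% (a _))<|b (-2 :type_of% (a _))<|c);
 (b (1 :type_of% (a _))<|b (1 :type_of% (a _))<|b (2 :type_of% (a _))<|b (2 :type_of% (a _))<|b (2 :type_of% (a _))<|c))));
 (let c:=(let c:=(let c:=(b (1 :type_of% (a _))<|b (1 :type_of% (a _))<|b (-3 :type_of% (a _))<|b (5 :type_of% (a _))<|b (1 :type_of% (a _))<|b (1 :type_of% (a _))<|c);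
 (b (4 :type_of% (a _))<|
 b (0 :type_of% (a _))<|b (0 :type_of% (a _))<|b (-7 :type_of% (a _))<|b (1 :type_of% (a _))<|b (-3 :type_of% (a _))<|c));
 (let c:=(b (0 :type_of% (a _))<|b (0 :type_of% (a _))<|b (2 :type_of% (a _))<|b (2 :type_of% (a _))<|b (-2 :type_of% (a _))<|b (-2 :type_of% (a _))<|c);
 (b (8 :type_of% (a _))<|b (-6 :type_of% (a _))<|b (-6 :type_of% (a _))<|b (6 :type_of% (a _))<|b (6 :type_of% (a _))<|c)));
 (let c:=(let c:=(b (-3 :type_of% (a _))<|b (-3 :type_of% (a _))<|b (9 :type_of% (a _))<|b (5 :type_of% (a _))<|b (-3 :type_of% (a _))<|b (1 :type_of% (a _))<|c);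
 (b (-7 :type_of% (a _))<|b (5 :type_of% (a _))<|b (-27 :type_of% (a _))<|b (-7 :type_of% (a _))<|b (-7 :type_of% (a _))<|b (1 :type_of% (a _))<|c));
 (let c:=(b (14 :type_of% (a _))<|b (14 :type_of% (a _))<|b (-4 :type_of% (a _))<|b (25 :type_of% (a _))<|b (25 :type_of% (a _))<|b (-7 :type_of% (a _))<|c);
 (d (833 :type_of% (a _))<|d (-63 :type_of% (a _))<|d (-63 :type_of% (a _))<|d (65 :type_of% (a _))<|d (1 :type_of% (a _))<|c))))))

/-- degree `1105` -/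
def r2 : List ℤ := (beta% delta% lq2675025b5c fun a b d _ f _ _ _ _ _ _ _ _ _ _ _ _ _ _ _ _ _ _ _ _ _ _ =>
 (let c:=(let c:=(let c:=(let c:=(b (1 :type_of% (a _))<|b (-1 :type_of% (a _))<|b (0 :type_of% (a _))<|b (-1 :type_of% (a _))<|b (0 :type_of% (a _))<|b (-1 :type_of% (a _))<|f);
 (b (1 :type_of% (a _))<|b (-1 :type_of% (a _))<|b (0 :type_of% (a _))<|b (-1 :type_of% (a _))<|b (-2 :type_of% (a _))<|b (0 :type_of% (a _))<|c));
 (let c:=(b (1 :type_of% (a _))<|b (-1 :type_of% (a _))<|b (-1 :type_of% (a _))<|b (0 :type_of% (a _))<|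
 b (1 :type_of% (a _))<|b (-1 :type_of% (a _))<|c);
 (b (0 :type_of% (a _))<|b (2 :type_of% (a _))<|b (-1 :type_of% (a _))<|b (2 :type_of% (a _))<|b (-1 :type_of% (a _))<|c)));
 (let c:=(let c:=(b (0 :type_of% (a _))<|b (2 :type_of% (a _))<|b (0 :type_of% (a _))<|b (1 :type_of% (a _))<|b (0 :type_of% (a _))<|b (0 :type_of% (a _))<|c);
 (b (0 :type_of% (a _))<|b (4 :type_of% (a _))<|b (1 :type_of% (a _))<|b (-3 :type_of% (a _))<|b (2 :type_of% (a _))<|b (-1 :type_of% (a _))<|c));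
 (let c:=(b (-1 :type_of% (a _))<|b (1 :type_of% (a _))<|b (-2 :type_of% (a _))<|b (3 :type_of% (a _))<|b (0 :type_of% (a _))<|b (-2 :type_of% (a _))<|c);
 (b (1 :type_of% (a _))<|b (1 :type_of% (a _))<|b (1 :type_of% (a _))<|b (1 :type_of% (a _))<|b (3 :type_of% (a _))<|c))));
 (let c:=(let c:=(let c:=(b (1 :type_of% (a _))<|b (-3 :type_of% (a _))<|b (1 :type_of% (a _))<|b (1 :type_of% (a _))<|b (5 :type_of% (a _))<|b (-3 :type_of% (a _))<|c);
 (b (2 :type_of% (a _))<|b (6 :type_of% (a _))<|b (-1 :type_of% (a _))<|b (5 :type_of% (a _))<|b (-3 :type_of% (a _))<|b (5 :type_of% (a _))<|c));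
 (let c:=(b (2 :type_of% (a _))<|b (-2 :type_of% (a _))<|b (6 :type_of% (a _))<|b (3 :type_of% (a _))<|b (2 :type_of% (a _))<|b (-1 :type_of% (a _))<|
 c);
 (b (5 :type_of% (a _))<|b (14 :type_of% (a _))<|b (-5 :type_of% (a _))<|b (10 :type_of% (a _))<|b (-1 :type_of% (a _))<|c)));
 (let c:=(let c:=(b (13 :type_of% (a _))<|b (-3 :type_of% (a _))<|b (9 :type_of% (a _))<|b (5 :type_of% (a _))<|b (-3 :type_of% (a _))<|b (1 :type_of% (a _))<|c);
 (b (-7 :type_of% (a _))<|b (-11 :type_of% (a _))<|b (21 :type_of% (a _))<|b (9 :type_of% (a _))<|b (-7 :type_of% (a _))<|b (1 :type_of% (a _))<|c));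
 (let c:=(b (34 :type_of% (a _))<|b (7 :type_of% (a _))<|b (-2 :type_of% (a _))<|b (9 :type_of% (a _))<|b (25 :type_of% (a _))<|b (41 :type_of% (a _))<|c);
 (d (1105 :type_of% (a _))<|d (209 :type_of% (a _))<|d (-47 :type_of% (a _))<|d (81 :type_of% (a _))<|d (17 :type_of% (a _))<|c))))))

/-- degree `1105` -/
def r3 : List ℤ := (beta% delta% lq2675025b5c fun a b d _ f _ _ _ _ _ _ _ _ _ _ _ _ _ _ _ _ _ _ _ _ _ _ =>
 (let c:=(let c:=(let c:=(let c:=(b (0 :type_of% (a _))<|b (-2 :type_of% (a _))<|b (-1 :type_of% (a _))<|b (0 :type_of% (a _))<|b (-1 :type_of% (a _))<|b (0 :type_of% (a _))<|f);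
 (b (1 :type_of% (a _))<|b (-1 :type_of% (a _))<|b (-1 :type_of% (a _))<|b (0 :type_of% (a _))<|b (-1 :type_of% (a _))<|b (1 :type_of% (a _))<|c));
 (let c:=(b (1 :type_of% (a _))<|b (-1 :type_of% (a _))<|b (-1 :type_of% (a _))<|b (0 :type_of% (a _))<|
 b (-1 :type_of% (a _))<|b (1 :type_of% (a _))<|c);
 (b (0 :type_of% (a _))<|b (-1 :type_of% (a _))<|b (2 :type_of% (a _))<|b (-1 :type_of% (a _))<|b (2 :type_of% (a _))<|c)));
 (let c:=(let c:=(b (2 :type_of% (a _))<|b (0 :type_of% (a _))<|b (1 :type_of% (a _))<|b (0 :type_of% (a _))<|b (0 :type_of% (a _))<|b (0 :type_of% (a _))<|c);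
 (b (-3 :type_of% (a _))<|b (1 :type_of% (a _))<|b (4 :type_of% (a _))<|b (0 :type_of% (a _))<|b (-1 :type_of% (a _))<|b (2 :type_of% (a _))<|c));
 (let c:=(b (3 :type_of% (a _))<|b (1 :type_of% (a _))<|b (3 :type_of% (a _))<|b (-2 :type_of% (a _))<|b (-2 :type_of% (a _))<|b (0 :type_of% (a _))<|c);
 (b (1 :type_of% (a _))<|b (1 :type_of% (a _))<|b (1 :type_of% (a _))<|b (1 :type_of% (a _))<|b (-1 :type_of% (a _))<|c))));
 (let c:=(let c:=(let c:=(b (-3 :type_of% (a _))<|b (1 :type_of% (a _))<|b (5 :type_of% (a _))<|b (1 :type_of% (a _))<|b (-3 :type_of% (a _))<|b (5 :type_of% (a _))<|c);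
 (b (2 :type_of% (a _))<|b (-1 :type_of% (a _))<|b (6 :type_of% (a _))<|b (5 :type_of% (a _))<|b (-3 :type_of% (a _))<|b (1 :type_of% (a _))<|c));
 (let c:=(b (-2 :type_of% (a _))<|b (2 :type_of% (a _))<|b (3 :type_of% (a _))<|b (6 :type_of% (a _))<|b (-1 :type_of% (a _))<|b (2 :type_of% (a _))<|
 c);
 (b (5 :type_of% (a _))<|b (-5 :type_of% (a _))<|b (14 :type_of% (a _))<|b (-1 :type_of% (a _))<|b (10 :type_of% (a _))<|c)));
 (let c:=(let c:=(b (-3 :type_of% (a _))<|b (13 :type_of% (a _))<|b (9 :type_of% (a _))<|b (5 :type_of% (a _))<|b (-3 :type_of% (a _))<|b (1 :type_of% (a _))<|c);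
 (b (41 :type_of% (a _))<|b (-11 :type_of% (a _))<|b (21 :type_of% (a _))<|b (-7 :type_of% (a _))<|b (9 :type_of% (a _))<|b (1 :type_of% (a _))<|c));
 (let c:=(b (7 :type_of% (a _))<|b (34 :type_of% (a _))<|b (-2 :type_of% (a _))<|b (25 :type_of% (a _))<|b (9 :type_of% (a _))<|b (-7 :type_of% (a _))<|c);
 (d (1105 :type_of% (a _))<|d (-47 :type_of% (a _))<|d (209 :type_of% (a _))<|d (81 :type_of% (a _))<|d (17 :type_of% (a _))<|c))))))

/-- degree `1326` -/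
def r4 : List ℤ := (beta% delta% lq2675025b5c fun a b d _ f _ _ _ _ _ _ _ _ _ _ _ _ _ _ _ _ _ _ _ _ _ _ =>
 (let c:=(let c:=(let c:=(let c:=(b (1 :type_of% (a _))<|b (-1 :type_of% (a _))<|b (1 :type_of% (a _))<|b (1 :type_of% (a _))<|b (-1 :type_of% (a _))<|b (-1 :type_of% (a _))<|f);
 (b (-1 :type_of% (a _))<|b (1 :type_of% (a _))<|b (0 :type_of% (a _))<|b (0 :type_of% (a _))<|b (-1 :type_of% (a _))<|b (1 :type_of% (a _))<|c));
 (let c:=(b (0 :type_of% (a _))<|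
 b (-2 :type_of% (a _))<|b (2 :type_of% (a _))<|b (0 :type_of% (a _))<|b (0 :type_of% (a _))<|b (0 :type_of% (a _))<|c);
 (b (0 :type_of% (a _))<|b (-1 :type_of% (a _))<|b (-1 :type_of% (a _))<|b (1 :type_of% (a _))<|b (1 :type_of% (a _))<|c)));
 (let c:=(let c:=(b (-1 :type_of% (a _))<|b (-1 :type_of% (a _))<|b (-1 :type_of% (a _))<|b (-1 :type_of% (a _))<|b (3 :type_of% (a _))<|b (-1 :type_of% (a _))<|c);
 (b (3 :type_of% (a _))<|b (-1 :type_of% (a _))<|b (-1 :type_of% (a _))<|b (3 :type_of% (a _))<|b (1 :type_of% (a _))<|b (1 :type_of% (a _))<|c));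
 (let c:=(b (-1 :type_of% (a _))<|b (1 :type_of% (a _))<|b (5 :type_of% (a _))<|b (5 :type_of% (a _))<|b (-1 :type_of% (a _))<|b (-1 :type_of% (a _))<|c);
 (b (-2 :type_of% (a _))<|b (2 :type_of% (a _))<|b (0 :type_of% (a _))<|b (0 :type_of% (a _))<|b (-1 :type_of% (a _))<|c))));
 (let c:=(let c:=(let c:=(b (-2 :type_of% (a _))<|b (-2 :type_of% (a _))<|b (2 :type_of% (a _))<|b (2 :type_of% (a _))<|b (-2 :type_of% (a _))<|b (-2 :type_of% (a _))<|c);
 (b (3 :type_of% (a _))<|b (3 :type_of% (a _))<|b (3 :type_of% (a _))<|b (-2 :type_of% (a _))<|b (6 :type_of% (a _))<|b (2 :type_of% (a _))<|c));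
 (let c:=(b (3 :type_of% (a _))<|b (3 :type_of% (a _))<|b (1 :type_of% (a _))<|b (1 :type_of% (a _))<|b (-3 :type_of% (a _))<|
 b (-3 :type_of% (a _))<|c);
 (b (1 :type_of% (a _))<|b (9 :type_of% (a _))<|b (9 :type_of% (a _))<|b (-3 :type_of% (a _))<|b (-3 :type_of% (a _))<|c)));
 (let c:=(let c:=(b (2 :type_of% (a _))<|b (2 :type_of% (a _))<|b (6 :type_of% (a _))<|b (-6 :type_of% (a _))<|b (2 :type_of% (a _))<|b (-2 :type_of% (a _))<|c);
 (b (22 :type_of% (a _))<|b (26 :type_of% (a _))<|b (-6 :type_of% (a _))<|b (-10 :type_of% (a _))<|b (-10 :type_of% (a _))<|b (14 :type_of% (a _))<|c));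
 (let c:=(b (21 :type_of% (a _))<|b (21 :type_of% (a _))<|b (3 :type_of% (a _))<|b (-10 :type_of% (a _))<|b (-10 :type_of% (a _))<|b (22 :type_of% (a _))<|c);
 (d (1326 :type_of% (a _))<|d (174 :type_of% (a _))<|d (174 :type_of% (a _))<|d (46 :type_of% (a _))<|d (-18 :type_of% (a _))<|c))))))

/-- degree `1377` -/
def r5 : List ℤ := (beta% delta% lq2675025b5c fun a b d _ f _ _ _ _ _ _ _ _ _ _ _ _ _ _ _ _ _ _ _ _ _ _ =>
 (let c:=(let c:=(let c:=(let c:=(b (-1 :type_of% (a _))<|b (1 :type_of% (a _))<|b (-1 :type_of% (a _))<|b (-1 :type_of% (a _))<|b (0 :type_of% (a _))<|b (0 :type_of% (a _))<|f);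
 (b (0 :type_of% (a _))<|b (2 :type_of% (a _))<|b (-1 :type_of% (a _))<|
 b (-1 :type_of% (a _))<|b (1 :type_of% (a _))<|b (-1 :type_of% (a _))<|c));
 (let c:=(b (-1 :type_of% (a _))<|b (1 :type_of% (a _))<|b (1 :type_of% (a _))<|b (0 :type_of% (a _))<|b (0 :type_of% (a _))<|b (0 :type_of% (a _))<|c);
 (b (-1 :type_of% (a _))<|b (1 :type_of% (a _))<|b (1 :type_of% (a _))<|b (2 :type_of% (a _))<|b (2 :type_of% (a _))<|c)));
 (let c:=(let c:=(b (0 :type_of% (a _))<|b (0 :type_of% (a _))<|b (1 :type_of% (a _))<|b (1 :type_of% (a _))<|b (0 :type_of% (a _))<|b (0 :type_of% (a _))<|c);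
 (b (5 :type_of% (a _))<|b (1 :type_of% (a _))<|b (1 :type_of% (a _))<|b (5 :type_of% (a _))<|b (-1 :type_of% (a _))<|b (-1 :type_of% (a _))<|c));
 (let c:=(b (0 :type_of% (a _))<|b (2 :type_of% (a _))<|b (3 :type_of% (a _))<|b (3 :type_of% (a _))<|b (0 :type_of% (a _))<|b (0 :type_of% (a _))<|c);
 (b (1 :type_of% (a _))<|b (1 :type_of% (a _))<|b (0 :type_of% (a _))<|b (0 :type_of% (a _))<|b (0 :type_of% (a _))<|c))));
 (let c:=(let c:=(let c:=(b (5 :type_of% (a _))<|b (5 :type_of% (a _))<|b (1 :type_of% (a _))<|b (-3 :type_of% (a _))<|b (1 :type_of% (a _))<|b (1 :type_of% (a _))<|c);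
 (b (0 :type_of% (a _))<|b (5 :type_of% (a _))<|b (5 :type_of% (a _))<|
 b (1 :type_of% (a _))<|b (9 :type_of% (a _))<|b (1 :type_of% (a _))<|c));
 (let c:=(b (0 :type_of% (a _))<|b (0 :type_of% (a _))<|b (7 :type_of% (a _))<|b (7 :type_of% (a _))<|b (3 :type_of% (a _))<|b (3 :type_of% (a _))<|c);
 (b (2 :type_of% (a _))<|b (15 :type_of% (a _))<|b (15 :type_of% (a _))<|b (3 :type_of% (a _))<|b (3 :type_of% (a _))<|c)));
 (let c:=(let c:=(b (13 :type_of% (a _))<|b (13 :type_of% (a _))<|b (9 :type_of% (a _))<|b (5 :type_of% (a _))<|b (-3 :type_of% (a _))<|b (1 :type_of% (a _))<|c);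
 (b (41 :type_of% (a _))<|b (37 :type_of% (a _))<|b (5 :type_of% (a _))<|b (9 :type_of% (a _))<|b (9 :type_of% (a _))<|b (1 :type_of% (a _))<|c));
 (let c:=(b (27 :type_of% (a _))<|b (27 :type_of% (a _))<|b (0 :type_of% (a _))<|b (9 :type_of% (a _))<|b (9 :type_of% (a _))<|b (41 :type_of% (a _))<|c);
 (d (1377 :type_of% (a _))<|d (225 :type_of% (a _))<|d (225 :type_of% (a _))<|d (97 :type_of% (a _))<|d (33 :type_of% (a _))<|c))))))

/-- degree `21658` -/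
def r6 : List ℤ := (beta% delta% lq2675025b5c fun a b d _ f _ _ _ _ _ _ _ _ _ _ _ _ _ _ _ _ _ _ _ _ _ _ =>
 (let c:=(let c:=(let c:=(let c:=(b (-1 :type_of% (a _))<|b (1 :type_of% (a _))<|b (0 :type_of% (a _))<|b (0 :type_of% (a _))<|b (1 :type_of% (a _))<|b (1 :type_of% (a _))<|f);
 (b (2 :type_of% (a _))<|b (0 :type_of% (a _))<|b (0 :type_of% (a _))<|b (0 :type_of% (a _))<|b (1 :type_of% (a _))<|b (-1 :type_of% (a _))<|c));
 (let c:=(b (0 :type_of% (a _))<|b (-2 :type_of% (a _))<|b (2 :type_of% (a _))<|b (0 :type_of% (a _))<|b (-1 :type_of% (a _))<|b (-1 :type_of% (a _))<|c);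
 (b (0 :type_of% (a _))<|b (0 :type_of% (a _))<|b (0 :type_of% (a _))<|
 b (-1 :type_of% (a _))<|b (-1 :type_of% (a _))<|c)));
 (let c:=(let c:=(b (0 :type_of% (a _))<|b (0 :type_of% (a _))<|b (-1 :type_of% (a _))<|b (-1 :type_of% (a _))<|b (0 :type_of% (a _))<|b (0 :type_of% (a _))<|c);
 (b (-1 :type_of% (a _))<|b (3 :type_of% (a _))<|b (3 :type_of% (a _))<|b (-1 :type_of% (a _))<|b (1 :type_of% (a _))<|b (1 :type_of% (a _))<|c));
 (let c:=(b (-2 :type_of% (a _))<|b (0 :type_of% (a _))<|b (-3 :type_of% (a _))<|b (-3 :type_of% (a _))<|b (0 :type_of% (a _))<|b (0 :type_of% (a _))<|c);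
 (b (-2 :type_of% (a _))<|b (2 :type_of% (a _))<|b (1 :type_of% (a _))<|b (1 :type_of% (a _))<|b (-2 :type_of% (a _))<|c))));
 (let c:=(let c:=(let c:=(b (2 :type_of% (a _))<|b (2 :type_of% (a _))<|b (-2 :type_of% (a _))<|b (6 :type_of% (a _))<|b (-6 :type_of% (a _))<|b (-6 :type_of% (a _))<|c);
 (b (4 :type_of% (a _))<|b (0 :type_of% (a _))<|b (0 :type_of% (a _))<|b (10 :type_of% (a _))<|b (2 :type_of% (a _))<|b (-2 :type_of% (a _))<|c));
 (let c:=(b (-4 :type_of% (a _))<|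
 b (-4 :type_of% (a _))<|b (5 :type_of% (a _))<|b (5 :type_of% (a _))<|b (1 :type_of% (a _))<|b (1 :type_of% (a _))<|c);
 (b (8 :type_of% (a _))<|b (-19 :type_of% (a _))<|b (-19 :type_of% (a _))<|b (-7 :type_of% (a _))<|b (-7 :type_of% (a _))<|c)));
 (let c:=(let c:=(b (-10 :type_of% (a _))<|b (-10 :type_of% (a _))<|b (18 :type_of% (a _))<|b (-2 :type_of% (a _))<|b (6 :type_of% (a _))<|b (-6 :type_of% (a _))<|c);
 (b (-14 :type_of% (a _))<|b (30 :type_of% (a _))<|b (62 :type_of% (a _))<|b (18 :type_of% (a _))<|b (18 :type_of% (a _))<|b (-6 :type_of% (a _))<|c));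
 (let c:=(b (49 :type_of% (a _))<|b (49 :type_of% (a _))<|b (4 :type_of% (a _))<|b (18 :type_of% (a _))<|b (18 :type_of% (a _))<|b (-14 :type_of% (a _))<|c);
 (d (21658 :type_of% (a _))<|d (-742 :type_of% (a _))<|d (-742 :type_of% (a _))<|d (410 :type_of% (a _))<|d (-38 :type_of% (a _))<|c))))))

/-- degree `22932` -/
def r7 : List ℤ := (beta% delta% lq2675025b5c fun a b d _ f _ _ _ _ _ _ _ _ _ _ _ _ _ _ _ _ _ _ _ _ _ _ =>
 (let c:=(let c:=(let c:=(let c:=(b (1 :type_of% (a _))<|b (1 :type_of% (a _))<|b (0 :type_of% (a _))<|b (0 :type_of% (a _))<|b (0 :type_of% (a _))<|b (0 :type_of% (a _))<|f);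
 (b (-1 :type_of% (a _))<|b (-1 :type_of% (a _))<|b (0 :type_of% (a _))<|b (0 :type_of% (a _))<|b (1 :type_of% (a _))<|b (1 :type_of% (a _))<|c));
 (let c:=(b (0 :type_of% (a _))<|b (0 :type_of% (a _))<|b (0 :type_of% (a _))<|
 b (-1 :type_of% (a _))<|b (0 :type_of% (a _))<|b (0 :type_of% (a _))<|c);
 (b (0 :type_of% (a _))<|b (0 :type_of% (a _))<|b (0 :type_of% (a _))<|b (-2 :type_of% (a _))<|b (-2 :type_of% (a _))<|c)));
 (let c:=(let c:=(b (-1 :type_of% (a _))<|b (-1 :type_of% (a _))<|b (-1 :type_of% (a _))<|b (-1 :type_of% (a _))<|b (1 :type_of% (a _))<|b (1 :type_of% (a _))<|c);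
 (b (3 :type_of% (a _))<|b (3 :type_of% (a _))<|b (3 :type_of% (a _))<|b (3 :type_of% (a _))<|b (3 :type_of% (a _))<|b (3 :type_of% (a _))<|c));
 (let c:=(b (3 :type_of% (a _))<|b (-1 :type_of% (a _))<|b (3 :type_of% (a _))<|b (3 :type_of% (a _))<|b (3 :type_of% (a _))<|b (3 :type_of% (a _))<|c);
 (b (0 :type_of% (a _))<|b (0 :type_of% (a _))<|b (0 :type_of% (a _))<|b (0 :type_of% (a _))<|b (3 :type_of% (a _))<|c))));
 (let c:=(let c:=(let c:=(b (4 :type_of% (a _))<|b (4 :type_of% (a _))<|b (4 :type_of% (a _))<|b (4 :type_of% (a _))<|b (4 :type_of% (a _))<|b (4 :type_of% (a _))<|c);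
 (b (1 :type_of% (a _))<|b (0 :type_of% (a _))<|b (0 :type_of% (a _))<|b (4 :type_of% (a _))<|b (4 :type_of% (a _))<|b (4 :type_of% (a _))<|c));
 (let c:=(b (-3 :type_of% (a _))<|b (-3 :type_of% (a _))<|b (-1 :type_of% (a _))<|
 b (-1 :type_of% (a _))<|b (7 :type_of% (a _))<|b (7 :type_of% (a _))<|c);
 (b (7 :type_of% (a _))<|b (15 :type_of% (a _))<|b (15 :type_of% (a _))<|b (15 :type_of% (a _))<|b (15 :type_of% (a _))<|c)));
 (let c:=(let c:=(b (20 :type_of% (a _))<|b (20 :type_of% (a _))<|b (4 :type_of% (a _))<|b (20 :type_of% (a _))<|b (4 :type_of% (a _))<|b (4 :type_of% (a _))<|c);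
 (b (84 :type_of% (a _))<|b (84 :type_of% (a _))<|b (84 :type_of% (a _))<|b (20 :type_of% (a _))<|b (20 :type_of% (a _))<|b (20 :type_of% (a _))<|c));
 (let c:=(b (63 :type_of% (a _))<|b (63 :type_of% (a _))<|b (9 :type_of% (a _))<|b (84 :type_of% (a _))<|b (84 :type_of% (a _))<|b (84 :type_of% (a _))<|c);
 (d (22932 :type_of% (a _))<|d (1428 :type_of% (a _))<|d (1428 :type_of% (a _))<|d (404 :type_of% (a _))<|d (148 :type_of% (a _))<|c))))))

/-- degree `23205` -/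
def r8 : List ℤ := (beta% delta% lq2675025b5c fun a b d _ f _ _ _ _ _ _ _ _ _ _ _ _ _ _ _ _ _ _ _ _ _ _ =>
 (let c:=(let c:=(let c:=(let c:=(b (1 :type_of% (a _))<|b (1 :type_of% (a _))<|b (-1 :type_of% (a _))<|b (0 :type_of% (a _))<|b (0 :type_of% (a _))<|b (1 :type_of% (a _))<|f);
 (b (-1 :type_of% (a _))<|b (-1 :type_of% (a _))<|b (1 :type_of% (a _))<|b (0 :type_of% (a _))<|b (0 :type_of% (a _))<|b (0 :type_of% (a _))<|c));
 (let c:=(b (-1 :type_of% (a _))<|b (-1 :type_of% (a _))<|b (-1 :type_of% (a _))<|b (0 :type_of% (a _))<|b (0 :type_of% (a _))<|b (0 :type_of% (a _))<|c);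
 (b (0 :type_of% (a _))<|b (-1 :type_of% (a _))<|b (0 :type_of% (a _))<|b (2 :type_of% (a _))<|b (-1 :type_of% (a _))<|
 c)));
 (let c:=(let c:=(b (2 :type_of% (a _))<|b (-2 :type_of% (a _))<|b (0 :type_of% (a _))<|b (1 :type_of% (a _))<|b (0 :type_of% (a _))<|b (0 :type_of% (a _))<|c);
 (b (0 :type_of% (a _))<|b (0 :type_of% (a _))<|b (-3 :type_of% (a _))<|b (-3 :type_of% (a _))<|b (-4 :type_of% (a _))<|b (1 :type_of% (a _))<|c));
 (let c:=(b (1 :type_of% (a _))<|b (1 :type_of% (a _))<|b (-4 :type_of% (a _))<|b (9 :type_of% (a _))<|b (6 :type_of% (a _))<|b (2 :type_of% (a _))<|c);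
 (b (1 :type_of% (a _))<|b (1 :type_of% (a _))<|b (0 :type_of% (a _))<|b (0 :type_of% (a _))<|b (-3 :type_of% (a _))<|c))));
 (let c:=(let c:=(let c:=(b (1 :type_of% (a _))<|b (-3 :type_of% (a _))<|b (-3 :type_of% (a _))<|b (1 :type_of% (a _))<|b (-7 :type_of% (a _))<|b (1 :type_of% (a _))<|c);
 (b (4 :type_of% (a _))<|b (7 :type_of% (a _))<|b (0 :type_of% (a _))<|b (-7 :type_of% (a _))<|b (-7 :type_of% (a _))<|b (1 :type_of% (a _))<|c));
 (let c:=(b (0 :type_of% (a _))<|b (0 :type_of% (a _))<|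
 b (4 :type_of% (a _))<|b (1 :type_of% (a _))<|b (4 :type_of% (a _))<|b (1 :type_of% (a _))<|c);
 (b (5 :type_of% (a _))<|b (36 :type_of% (a _))<|b (-15 :type_of% (a _))<|b (-12 :type_of% (a _))<|b (9 :type_of% (a _))<|c)));
 (let c:=(let c:=(b (13 :type_of% (a _))<|b (-3 :type_of% (a _))<|b (21 :type_of% (a _))<|b (-3 :type_of% (a _))<|b (-3 :type_of% (a _))<|b (5 :type_of% (a _))<|c);
 (b (-43 :type_of% (a _))<|b (-51 :type_of% (a _))<|b (-51 :type_of% (a _))<|b (5 :type_of% (a _))<|b (-11 :type_of% (a _))<|b (-11 :type_of% (a _))<|c));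
 (let c:=(b (84 :type_of% (a _))<|b (57 :type_of% (a _))<|b (12 :type_of% (a _))<|b (69 :type_of% (a _))<|b (-43 :type_of% (a _))<|b (133 :type_of% (a _))<|c);
 (d (23205 :type_of% (a _))<|d (1701 :type_of% (a _))<|d (-603 :type_of% (a _))<|d (421 :type_of% (a _))<|d (37 :type_of% (a _))<|c))))))

/-- degree `23205` -/
def r9 : List ℤ := (beta% delta% lq2675025b5c fun a b d _ f _ _ _ _ _ _ _ _ _ _ _ _ _ _ _ _ _ _ _ _ _ _ =>
 (let c:=(let c:=(let c:=(let c:=(b (0 :type_of% (a _))<|b (0 :type_of% (a _))<|b (0 :type_of% (a _))<|b (-1 :type_of% (a _))<|b (1 :type_of% (a _))<|b (0 :type_of% (a _))<|f);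
 (b (-1 :type_of% (a _))<|b (-1 :type_of% (a _))<|b (0 :type_of% (a _))<|b (1 :type_of% (a _))<|b (1 :type_of% (a _))<|b (1 :type_of% (a _))<|c));
 (let c:=(b (-1 :type_of% (a _))<|b (-1 :type_of% (a _))<|b (-1 :type_of% (a _))<|b (0 :type_of% (a _))<|b (0 :type_of% (a _))<|b (0 :type_of% (a _))<|c);
 (b (0 :type_of% (a _))<|b (0 :type_of% (a _))<|b (-1 :type_of% (a _))<|b (-1 :type_of% (a _))<|b (2 :type_of% (a _))<|
 c)));
 (let c:=(let c:=(b (-2 :type_of% (a _))<|b (2 :type_of% (a _))<|b (1 :type_of% (a _))<|b (0 :type_of% (a _))<|b (0 :type_of% (a _))<|b (0 :type_of% (a _))<|c);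
 (b (-3 :type_of% (a _))<|b (-3 :type_of% (a _))<|b (0 :type_of% (a _))<|b (0 :type_of% (a _))<|b (1 :type_of% (a _))<|b (-4 :type_of% (a _))<|c));
 (let c:=(b (-3 :type_of% (a _))<|b (1 :type_of% (a _))<|b (9 :type_of% (a _))<|b (-4 :type_of% (a _))<|b (2 :type_of% (a _))<|b (6 :type_of% (a _))<|c);
 (b (1 :type_of% (a _))<|b (1 :type_of% (a _))<|b (0 :type_of% (a _))<|b (0 :type_of% (a _))<|b (1 :type_of% (a _))<|c))));
 (let c:=(let c:=(let c:=(b (-3 :type_of% (a _))<|b (1 :type_of% (a _))<|b (1 :type_of% (a _))<|b (1 :type_of% (a _))<|b (1 :type_of% (a _))<|b (-7 :type_of% (a _))<|c);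
 (b (4 :type_of% (a _))<|b (0 :type_of% (a _))<|b (7 :type_of% (a _))<|b (-7 :type_of% (a _))<|b (-7 :type_of% (a _))<|b (-3 :type_of% (a _))<|c));
 (let c:=(b (0 :type_of% (a _))<|b (0 :type_of% (a _))<|
 b (1 :type_of% (a _))<|b (4 :type_of% (a _))<|b (1 :type_of% (a _))<|b (4 :type_of% (a _))<|c);
 (b (5 :type_of% (a _))<|b (-15 :type_of% (a _))<|b (36 :type_of% (a _))<|b (9 :type_of% (a _))<|b (-12 :type_of% (a _))<|c)));
 (let c:=(let c:=(b (-3 :type_of% (a _))<|b (13 :type_of% (a _))<|b (21 :type_of% (a _))<|b (-3 :type_of% (a _))<|b (-3 :type_of% (a _))<|b (5 :type_of% (a _))<|c);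
 (b (133 :type_of% (a _))<|b (-51 :type_of% (a _))<|b (-51 :type_of% (a _))<|b (-11 :type_of% (a _))<|b (5 :type_of% (a _))<|b (-11 :type_of% (a _))<|c));
 (let c:=(b (57 :type_of% (a _))<|b (84 :type_of% (a _))<|b (12 :type_of% (a _))<|b (-43 :type_of% (a _))<|b (69 :type_of% (a _))<|b (-43 :type_of% (a _))<|c);
 (d (23205 :type_of% (a _))<|d (-603 :type_of% (a _))<|d (1701 :type_of% (a _))<|d (421 :type_of% (a _))<|d (37 :type_of% (a _))<|c))))))

/-- degree `44200` -/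
def r10 : List ℤ := (beta% delta% lq2675025b5c fun a b d _ f _ _ _ _ _ _ _ _ _ _ _ _ _ _ _ _ _ _ _ _ _ _ =>
 (let c:=(let c:=(let c:=(let c:=(b (-1 :type_of% (a _))<|b (-1 :type_of% (a _))<|b (1 :type_of% (a _))<|b (1 :type_of% (a _))<|b (0 :type_of% (a _))<|b (0 :type_of% (a _))<|f);
 (b (0 :type_of% (a _))<|b (0 :type_of% (a _))<|b (0 :type_of% (a _))<|b (1 :type_of% (a _))<|b (0 :type_of% (a _))<|b (0 :type_of% (a _))<|c));
 (let c:=(b (0 :type_of% (a _))<|b (0 :type_of% (a _))<|b (0 :type_of% (a _))<|b (0 :type_of% (a _))<|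
 b (-1 :type_of% (a _))<|b (0 :type_of% (a _))<|c);
 (b (0 :type_of% (a _))<|b (1 :type_of% (a _))<|b (-1 :type_of% (a _))<|b (0 :type_of% (a _))<|b (0 :type_of% (a _))<|c)));
 (let c:=(let c:=(b (1 :type_of% (a _))<|b (-1 :type_of% (a _))<|b (2 :type_of% (a _))<|b (1 :type_of% (a _))<|b (-1 :type_of% (a _))<|b (-1 :type_of% (a _))<|c);
 (b (-2 :type_of% (a _))<|b (-2 :type_of% (a _))<|b (1 :type_of% (a _))<|b (1 :type_of% (a _))<|b (2 :type_of% (a _))<|b (1 :type_of% (a _))<|c));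
 (let c:=(b (0 :type_of% (a _))<|b (0 :type_of% (a _))<|b (2 :type_of% (a _))<|b (-7 :type_of% (a _))<|b (5 :type_of% (a _))<|b (-1 :type_of% (a _))<|c);
 (b (0 :type_of% (a _))<|b (0 :type_of% (a _))<|b (1 :type_of% (a _))<|b (-2 :type_of% (a _))<|b (0 :type_of% (a _))<|c))));
 (let c:=(let c:=(let c:=(b (8 :type_of% (a _))<|b (0 :type_of% (a _))<|b (0 :type_of% (a _))<|b (0 :type_of% (a _))<|b (0 :type_of% (a _))<|b (0 :type_of% (a _))<|c);
 (b (-3 :type_of% (a _))<|b (9 :type_of% (a _))<|b (-5 :type_of% (a _))<|b (0 :type_of% (a _))<|b (0 :type_of% (a _))<|b (8 :type_of% (a _))<|c));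
 (let c:=(b (9 :type_of% (a _))<|b (5 :type_of% (a _))<|b (14 :type_of% (a _))<|b (5 :type_of% (a _))<|b (6 :type_of% (a _))<|
 b (-3 :type_of% (a _))<|c);
 (b (0 :type_of% (a _))<|b (30 :type_of% (a _))<|b (5 :type_of% (a _))<|b (14 :type_of% (a _))<|b (-3 :type_of% (a _))<|c)));
 (let c:=(let c:=(b (40 :type_of% (a _))<|b (8 :type_of% (a _))<|b (8 :type_of% (a _))<|b (8 :type_of% (a _))<|b (8 :type_of% (a _))<|b (8 :type_of% (a _))<|c);
 (b (8 :type_of% (a _))<|b (40 :type_of% (a _))<|b (40 :type_of% (a _))<|b (40 :type_of% (a _))<|b (8 :type_of% (a _))<|b (8 :type_of% (a _))<|c));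
 (let c:=(b (190 :type_of% (a _))<|b (-35 :type_of% (a _))<|b (1 :type_of% (a _))<|b (104 :type_of% (a _))<|b (8 :type_of% (a _))<|b (232 :type_of% (a _))<|c);
 (d (44200 :type_of% (a _))<|d (3240 :type_of% (a _))<|d (680 :type_of% (a _))<|d (680 :type_of% (a _))<|d (168 :type_of% (a _))<|c))))))

/-- degree `44200` -/
def r11 : List ℤ := (beta% delta% lq2675025b5c fun a b d _ f _ _ _ _ _ _ _ _ _ _ _ _ _ _ _ _ _ _ _ _ _ _ =>
 (let c:=(let c:=(let c:=(let c:=(b (0 :type_of% (a _))<|b (0 :type_of% (a _))<|b (1 :type_of% (a _))<|b (1 :type_of% (a _))<|b (0 :type_of% (a _))<|b (0 :type_of% (a _))<|f);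
 (b (0 :type_of% (a _))<|b (0 :type_of% (a _))<|b (1 :type_of% (a _))<|b (0 :type_of% (a _))<|b (-1 :type_of% (a _))<|b (-1 :type_of% (a _))<|c));
 (let c:=(b (0 :type_of% (a _))<|b (0 :type_of% (a _))<|b (0 :type_of% (a _))<|b (0 :type_of% (a _))<|
 b (0 :type_of% (a _))<|b (-1 :type_of% (a _))<|c);
 (b (0 :type_of% (a _))<|b (-1 :type_of% (a _))<|b (1 :type_of% (a _))<|b (0 :type_of% (a _))<|b (0 :type_of% (a _))<|c)));
 (let c:=(let c:=(b (-1 :type_of% (a _))<|b (1 :type_of% (a _))<|b (1 :type_of% (a _))<|b (2 :type_of% (a _))<|b (-1 :type_of% (a _))<|b (-1 :type_of% (a _))<|c);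
 (b (1 :type_of% (a _))<|b (1 :type_of% (a _))<|b (-2 :type_of% (a _))<|b (-2 :type_of% (a _))<|b (1 :type_of% (a _))<|b (2 :type_of% (a _))<|c));
 (let c:=(b (0 :type_of% (a _))<|b (0 :type_of% (a _))<|b (-7 :type_of% (a _))<|b (2 :type_of% (a _))<|b (-1 :type_of% (a _))<|b (5 :type_of% (a _))<|c);
 (b (0 :type_of% (a _))<|b (0 :type_of% (a _))<|b (-2 :type_of% (a _))<|b (1 :type_of% (a _))<|b (0 :type_of% (a _))<|c))));
 (let c:=(let c:=(let c:=(b (0 :type_of% (a _))<|b (8 :type_of% (a _))<|b (8 :type_of% (a _))<|b (0 :type_of% (a _))<|b (0 :type_of% (a _))<|b (0 :type_of% (a _))<|c);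
 (b (-3 :type_of% (a _))<|b (-5 :type_of% (a _))<|b (9 :type_of% (a _))<|b (0 :type_of% (a _))<|b (0 :type_of% (a _))<|b (0 :type_of% (a _))<|c));
 (let c:=(b (5 :type_of% (a _))<|b (9 :type_of% (a _))<|b (5 :type_of% (a _))<|b (14 :type_of% (a _))<|b (-3 :type_of% (a _))<|
 b (6 :type_of% (a _))<|c);
 (b (0 :type_of% (a _))<|b (5 :type_of% (a _))<|b (30 :type_of% (a _))<|b (-3 :type_of% (a _))<|b (14 :type_of% (a _))<|c)));
 (let c:=(let c:=(b (8 :type_of% (a _))<|b (40 :type_of% (a _))<|b (8 :type_of% (a _))<|b (8 :type_of% (a _))<|b (8 :type_of% (a _))<|b (8 :type_of% (a _))<|c);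
 (b (232 :type_of% (a _))<|b (40 :type_of% (a _))<|b (40 :type_of% (a _))<|b (8 :type_of% (a _))<|b (40 :type_of% (a _))<|b (8 :type_of% (a _))<|c));
 (let c:=(b (-35 :type_of% (a _))<|b (190 :type_of% (a _))<|b (1 :type_of% (a _))<|b (8 :type_of% (a _))<|b (104 :type_of% (a _))<|b (8 :type_of% (a _))<|c);
 (d (44200 :type_of% (a _))<|d (680 :type_of% (a _))<|d (3240 :type_of% (a _))<|d (680 :type_of% (a _))<|d (168 :type_of% (a _))<|c))))))

/-- degree `63700` -/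
def r12 : List ℤ := (beta% delta% lq2675025b5c fun a b d _ f _ _ _ _ _ _ _ _ _ _ _ _ _ _ _ _ _ _ _ _ _ _ =>
 (let c:=(let c:=(let c:=(let c:=(b (0 :type_of% (a _))<|b (0 :type_of% (a _))<|b (0 :type_of% (a _))<|b (0 :type_of% (a _))<|b (0 :type_of% (a _))<|b (0 :type_of% (a _))<|f);
 (b (0 :type_of% (a _))<|b (0 :type_of% (a _))<|b (0 :type_of% (a _))<|b (0 :type_of% (a _))<|b (0 :type_of% (a _))<|b (0 :type_of% (a _))<|c));
 (let c:=(b (0 :type_of% (a _))<|b (0 :type_of% (a _))<|b (0 :type_of% (a _))<|b (1 :type_of% (a _))<|b (-1 :type_of% (a _))<|b (-1 :type_of% (a _))<|c);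
 (b (0 :type_of% (a _))<|b (0 :type_of% (a _))<|b (0 :type_of% (a _))<|b (0 :type_of% (a _))<|
 b (0 :type_of% (a _))<|c)));
 (let c:=(let c:=(b (-2 :type_of% (a _))<|b (-2 :type_of% (a _))<|b (-2 :type_of% (a _))<|b (-2 :type_of% (a _))<|b (0 :type_of% (a _))<|b (0 :type_of% (a _))<|c);
 (b (2 :type_of% (a _))<|b (2 :type_of% (a _))<|b (2 :type_of% (a _))<|b (2 :type_of% (a _))<|b (2 :type_of% (a _))<|b (2 :type_of% (a _))<|c));
 (let c:=(b (0 :type_of% (a _))<|b (0 :type_of% (a _))<|b (2 :type_of% (a _))<|b (2 :type_of% (a _))<|b (2 :type_of% (a _))<|b (2 :type_of% (a _))<|c);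
 (b (4 :type_of% (a _))<|b (-4 :type_of% (a _))<|b (1 :type_of% (a _))<|b (1 :type_of% (a _))<|b (0 :type_of% (a _))<|c))));
 (let c:=(let c:=(let c:=(b (0 :type_of% (a _))<|b (0 :type_of% (a _))<|b (0 :type_of% (a _))<|b (-4 :type_of% (a _))<|b (4 :type_of% (a _))<|b (4 :type_of% (a _))<|c);
 (b (4 :type_of% (a _))<|b (0 :type_of% (a _))<|b (0 :type_of% (a _))<|b (-4 :type_of% (a _))<|b (-4 :type_of% (a _))<|b (0 :type_of% (a _))<|c));
 (let c:=(b (8 :type_of% (a _))<|b (8 :type_of% (a _))<|b (6 :type_of% (a _))<|b (6 :type_of% (a _))<|b (-2 :type_of% (a _))<|b (-2 :type_of% (a _))<|c);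
 (b (0 :type_of% (a _))<|b (-10 :type_of% (a _))<|b (-10 :type_of% (a _))<|b (-10 :type_of% (a _))<|b (-10 :type_of% (a _))<|
 c)));
 (let c:=(let c:=(b (4 :type_of% (a _))<|b (4 :type_of% (a _))<|b (-12 :type_of% (a _))<|b (-12 :type_of% (a _))<|b (-12 :type_of% (a _))<|b (20 :type_of% (a _))<|c);
 (b (-28 :type_of% (a _))<|b (20 :type_of% (a _))<|b (20 :type_of% (a _))<|b (4 :type_of% (a _))<|b (4 :type_of% (a _))<|b (-12 :type_of% (a _))<|c));
 (let c:=(b (70 :type_of% (a _))<|b (70 :type_of% (a _))<|b (-20 :type_of% (a _))<|b (164 :type_of% (a _))<|b (164 :type_of% (a _))<|b (-28 :type_of% (a _))<|c);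
 (d (63700 :type_of% (a _))<|d (980 :type_of% (a _))<|d (980 :type_of% (a _))<|d (-300 :type_of% (a _))<|d (-44 :type_of% (a _))<|c))))))

/-- degree `99450` -/
def r13 : List ℤ := (beta% delta% lq2675025b5c fun a b d _ f _ _ _ _ _ _ _ _ _ _ _ _ _ _ _ _ _ _ _ _ _ _ =>
 (let c:=(let c:=(let c:=(let c:=(b (0 :type_of% (a _))<|b (0 :type_of% (a _))<|b (0 :type_of% (a _))<|b (1 :type_of% (a _))<|b (0 :type_of% (a _))<|b (0 :type_of% (a _))<|f);
 (b (0 :type_of% (a _))<|b (0 :type_of% (a _))<|b (-1 :type_of% (a _))<|b (1 :type_of% (a _))<|b (1 :type_of% (a _))<|b (-1 :type_of% (a _))<|c));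
 (let c:=(b (0 :type_of% (a _))<|b (2 :type_of% (a _))<|b (-2 :type_of% (a _))<|b (0 :type_of% (a _))<|b (0 :type_of% (a _))<|b (0 :type_of% (a _))<|c);
 (b (0 :type_of% (a _))<|b (0 :type_of% (a _))<|b (1 :type_of% (a _))<|
 b (0 :type_of% (a _))<|b (0 :type_of% (a _))<|c)));
 (let c:=(let c:=(b (-2 :type_of% (a _))<|b (0 :type_of% (a _))<|b (-1 :type_of% (a _))<|b (-2 :type_of% (a _))<|b (0 :type_of% (a _))<|b (0 :type_of% (a _))<|c);
 (b (3 :type_of% (a _))<|b (-1 :type_of% (a _))<|b (2 :type_of% (a _))<|b (-6 :type_of% (a _))<|b (1 :type_of% (a _))<|b (-2 :type_of% (a _))<|c));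
 (let c:=(b (0 :type_of% (a _))<|b (0 :type_of% (a _))<|b (-3 :type_of% (a _))<|b (6 :type_of% (a _))<|b (-6 :type_of% (a _))<|b (0 :type_of% (a _))<|c);
 (b (-2 :type_of% (a _))<|b (2 :type_of% (a _))<|b (0 :type_of% (a _))<|b (0 :type_of% (a _))<|b (0 :type_of% (a _))<|c))));
 (let c:=(let c:=(let c:=(b (-6 :type_of% (a _))<|b (2 :type_of% (a _))<|b (-2 :type_of% (a _))<|b (-2 :type_of% (a _))<|b (2 :type_of% (a _))<|b (2 :type_of% (a _))<|c);
 (b (2 :type_of% (a _))<|b (8 :type_of% (a _))<|b (1 :type_of% (a _))<|b (2 :type_of% (a _))<|b (-6 :type_of% (a _))<|b (6 :type_of% (a _))<|c));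
 (let c:=(b (6 :type_of% (a _))<|b (-6 :type_of% (a _))<|b (5 :type_of% (a _))<|b (2 :type_of% (a _))<|b (-7 :type_of% (a _))<|b (2 :type_of% (a _))<|c);
 (b (0 :type_of% (a _))<|b (45 :type_of% (a _))<|b (-30 :type_of% (a _))<|b (9 :type_of% (a _))<|b (-6 :type_of% (a _))<|
 c)));
 (let c:=(let c:=(b (22 :type_of% (a _))<|b (-10 :type_of% (a _))<|b (18 :type_of% (a _))<|b (-2 :type_of% (a _))<|b (6 :type_of% (a _))<|b (-6 :type_of% (a _))<|c);
 (b (-14 :type_of% (a _))<|b (-130 :type_of% (a _))<|b (30 :type_of% (a _))<|b (-14 :type_of% (a _))<|b (18 :type_of% (a _))<|b (-6 :type_of% (a _))<|c));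
 (let c:=(b (225 :type_of% (a _))<|b (90 :type_of% (a _))<|b (-18 :type_of% (a _))<|b (-78 :type_of% (a _))<|b (18 :type_of% (a _))<|b (274 :type_of% (a _))<|c);
 (d (99450 :type_of% (a _))<|d (5370 :type_of% (a _))<|d (-2310 :type_of% (a _))<|d (890 :type_of% (a _))<|d (-70 :type_of% (a _))<|c))))))

/-- degree `99450` -/
def r14 : List ℤ := (beta% delta% lq2675025b5c fun a b d _ f _ _ _ _ _ _ _ _ _ _ _ _ _ _ _ _ _ _ _ _ _ _ =>
 (let c:=(let c:=(let c:=(let c:=(b (-1 :type_of% (a _))<|b (1 :type_of% (a _))<|b (1 :type_of% (a _))<|b (0 :type_of% (a _))<|b (0 :type_of% (a _))<|b (0 :type_of% (a _))<|f);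
 (b (0 :type_of% (a _))<|b (0 :type_of% (a _))<|b (1 :type_of% (a _))<|b (-1 :type_of% (a _))<|b (0 :type_of% (a _))<|b (0 :type_of% (a _))<|c));
 (let c:=(b (0 :type_of% (a _))<|b (2 :type_of% (a _))<|b (-2 :type_of% (a _))<|b (0 :type_of% (a _))<|b (0 :type_of% (a _))<|b (0 :type_of% (a _))<|c);
 (b (0 :type_of% (a _))<|b (1 :type_of% (a _))<|b (0 :type_of% (a _))<|
 b (0 :type_of% (a _))<|b (0 :type_of% (a _))<|c)));
 (let c:=(let c:=(b (0 :type_of% (a _))<|b (-2 :type_of% (a _))<|b (-2 :type_of% (a _))<|b (-1 :type_of% (a _))<|b (0 :type_of% (a _))<|b (0 :type_of% (a _))<|c);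
 (b (-6 :type_of% (a _))<|b (2 :type_of% (a _))<|b (-1 :type_of% (a _))<|b (3 :type_of% (a _))<|b (-2 :type_of% (a _))<|b (1 :type_of% (a _))<|c));
 (let c:=(b (0 :type_of% (a _))<|b (0 :type_of% (a _))<|b (6 :type_of% (a _))<|b (-3 :type_of% (a _))<|b (0 :type_of% (a _))<|b (-6 :type_of% (a _))<|c);
 (b (-2 :type_of% (a _))<|b (2 :type_of% (a _))<|b (0 :type_of% (a _))<|b (0 :type_of% (a _))<|b (0 :type_of% (a _))<|c))));
 (let c:=(let c:=(let c:=(b (2 :type_of% (a _))<|b (-6 :type_of% (a _))<|b (6 :type_of% (a _))<|b (-2 :type_of% (a _))<|b (2 :type_of% (a _))<|b (2 :type_of% (a _))<|c);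
 (b (2 :type_of% (a _))<|b (1 :type_of% (a _))<|b (8 :type_of% (a _))<|b (2 :type_of% (a _))<|b (-6 :type_of% (a _))<|b (-2 :type_of% (a _))<|c));
 (let c:=(b (-6 :type_of% (a _))<|b (6 :type_of% (a _))<|b (2 :type_of% (a _))<|b (5 :type_of% (a _))<|b (2 :type_of% (a _))<|b (-7 :type_of% (a _))<|c);
 (b (0 :type_of% (a _))<|b (-30 :type_of% (a _))<|b (45 :type_of% (a _))<|b (-6 :type_of% (a _))<|b (9 :type_of% (a _))<|
 c)));
 (let c:=(let c:=(b (-10 :type_of% (a _))<|b (22 :type_of% (a _))<|b (18 :type_of% (a _))<|b (-2 :type_of% (a _))<|b (6 :type_of% (a _))<|b (-6 :type_of% (a _))<|c);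
 (b (274 :type_of% (a _))<|b (-130 :type_of% (a _))<|b (30 :type_of% (a _))<|b (18 :type_of% (a _))<|b (-14 :type_of% (a _))<|b (-6 :type_of% (a _))<|c));
 (let c:=(b (90 :type_of% (a _))<|b (225 :type_of% (a _))<|b (-18 :type_of% (a _))<|b (18 :type_of% (a _))<|b (-78 :type_of% (a _))<|b (-14 :type_of% (a _))<|c);
 (d (99450 :type_of% (a _))<|d (-2310 :type_of% (a _))<|d (5370 :type_of% (a _))<|d (890 :type_of% (a _))<|d (-70 :type_of% (a _))<|c))))))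

/-- degree `162435` -/
def r15 : List ℤ := (beta% delta% lq2675025b5c fun a b d _ f _ _ _ _ _ _ _ _ _ _ _ _ _ _ _ _ _ _ _ _ _ _ =>
 (let c:=(let c:=(let c:=(let c:=(b (1 :type_of% (a _))<|b (-1 :type_of% (a _))<|b (0 :type_of% (a _))<|b (0 :type_of% (a _))<|b (-1 :type_of% (a _))<|b (1 :type_of% (a _))<|f);
 (b (0 :type_of% (a _))<|b (0 :type_of% (a _))<|b (0 :type_of% (a _))<|b (0 :type_of% (a _))<|b (1 :type_of% (a _))<|b (1 :type_of% (a _))<|c));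
 (let c:=(b (-1 :type_of% (a _))<|b (1 :type_of% (a _))<|b (1 :type_of% (a _))<|b (0 :type_of% (a _))<|b (0 :type_of% (a _))<|b (0 :type_of% (a _))<|c);
 (b (0 :type_of% (a _))<|b (0 :type_of% (a _))<|b (0 :type_of% (a _))<|b (1 :type_of% (a _))<|b (1 :type_of% (a _))<|c)));
 (let c:=(let c:=(b (1 :type_of% (a _))<|b (1 :type_of% (a _))<|b (1 :type_of% (a _))<|b (-1 :type_of% (a _))<|b (-1 :type_of% (a _))<|b (-1 :type_of% (a _))<|
 c);
 (b (-3 :type_of% (a _))<|b (5 :type_of% (a _))<|b (-1 :type_of% (a _))<|b (3 :type_of% (a _))<|b (-3 :type_of% (a _))<|b (1 :type_of% (a _))<|c));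
 (let c:=(b (-2 :type_of% (a _))<|b (-2 :type_of% (a _))<|b (-3 :type_of% (a _))<|b (5 :type_of% (a _))<|b (5 :type_of% (a _))<|b (-3 :type_of% (a _))<|c);
 (b (-1 :type_of% (a _))<|b (-1 :type_of% (a _))<|b (0 :type_of% (a _))<|b (0 :type_of% (a _))<|b (2 :type_of% (a _))<|c))));
 (let c:=(let c:=(let c:=(b (-5 :type_of% (a _))<|b (7 :type_of% (a _))<|b (-5 :type_of% (a _))<|b (3 :type_of% (a _))<|b (7 :type_of% (a _))<|b (-1 :type_of% (a _))<|c);
 (b (3 :type_of% (a _))<|b (0 :type_of% (a _))<|b (0 :type_of% (a _))<|b (7 :type_of% (a _))<|b (-1 :type_of% (a _))<|b (-1 :type_of% (a _))<|c));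
 (let c:=(b (-9 :type_of% (a _))<|b (15 :type_of% (a _))<|b (-11 :type_of% (a _))<|b (1 :type_of% (a _))<|b (-3 :type_of% (a _))<|b (-3 :type_of% (a _))<|c);
 (b (10 :type_of% (a _))<|b (21 :type_of% (a _))<|b (9 :type_of% (a _))<|b (21 :type_of% (a _))<|b (-3 :type_of% (a _))<|
 c)));
 (let c:=(let c:=(b (-1 :type_of% (a _))<|b (-17 :type_of% (a _))<|b (11 :type_of% (a _))<|b (-9 :type_of% (a _))<|b (-1 :type_of% (a _))<|b (3 :type_of% (a _))<|c);
 (b (-21 :type_of% (a _))<|b (-25 :type_of% (a _))<|b (135 :type_of% (a _))<|b (-5 :type_of% (a _))<|b (43 :type_of% (a _))<|b (-13 :type_of% (a _))<|c));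
 (let c:=(b (21 :type_of% (a _))<|b (21 :type_of% (a _))<|b (3 :type_of% (a _))<|b (59 :type_of% (a _))<|b (267 :type_of% (a _))<|b (91 :type_of% (a _))<|c);
 (d (162435 :type_of% (a _))<|d (3843 :type_of% (a _))<|d (-1533 :type_of% (a _))<|d (643 :type_of% (a _))<|d (-189 :type_of% (a _))<|c))))))

/-- degree `162435` -/
def r16 : List ℤ := (beta% delta% lq2675025b5c fun a b d _ f _ _ _ _ _ _ _ _ _ _ _ _ _ _ _ _ _ _ _ _ _ _ =>
 (let c:=(let c:=(let c:=(let c:=(b (1 :type_of% (a _))<|b (1 :type_of% (a _))<|b (0 :type_of% (a _))<|b (0 :type_of% (a _))<|b (1 :type_of% (a _))<|b (-1 :type_of% (a _))<|f);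
 (b (0 :type_of% (a _))<|b (0 :type_of% (a _))<|b (0 :type_of% (a _))<|b (0 :type_of% (a _))<|b (-1 :type_of% (a _))<|b (1 :type_of% (a _))<|c));
 (let c:=(b (-1 :type_of% (a _))<|b (1 :type_of% (a _))<|b (1 :type_of% (a _))<|b (0 :type_of% (a _))<|b (0 :type_of% (a _))<|b (0 :type_of% (a _))<|c);
 (b (0 :type_of% (a _))<|b (0 :type_of% (a _))<|b (0 :type_of% (a _))<|b (1 :type_of% (a _))<|b (1 :type_of% (a _))<|c)));
 (let c:=(let c:=(b (1 :type_of% (a _))<|b (1 :type_of% (a _))<|b (-1 :type_of% (a _))<|b (1 :type_of% (a _))<|b (-1 :type_of% (a _))<|b (-1 :type_of% (a _))<|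
 c);
 (b (3 :type_of% (a _))<|b (-1 :type_of% (a _))<|b (5 :type_of% (a _))<|b (-3 :type_of% (a _))<|b (1 :type_of% (a _))<|b (-3 :type_of% (a _))<|c));
 (let c:=(b (2 :type_of% (a _))<|b (-2 :type_of% (a _))<|b (5 :type_of% (a _))<|b (-3 :type_of% (a _))<|b (-3 :type_of% (a _))<|b (5 :type_of% (a _))<|c);
 (b (-1 :type_of% (a _))<|b (-1 :type_of% (a _))<|b (0 :type_of% (a _))<|b (0 :type_of% (a _))<|b (-2 :type_of% (a _))<|c))));
 (let c:=(let c:=(let c:=(b (7 :type_of% (a _))<|b (-5 :type_of% (a _))<|b (-1 :type_of% (a _))<|b (3 :type_of% (a _))<|b (-1 :type_of% (a _))<|b (7 :type_of% (a _))<|c);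
 (b (3 :type_of% (a _))<|b (0 :type_of% (a _))<|b (0 :type_of% (a _))<|b (7 :type_of% (a _))<|b (-1 :type_of% (a _))<|b (-5 :type_of% (a _))<|c));
 (let c:=(b (15 :type_of% (a _))<|b (-9 :type_of% (a _))<|b (1 :type_of% (a _))<|b (-11 :type_of% (a _))<|b (-3 :type_of% (a _))<|b (-3 :type_of% (a _))<|c);
 (b (10 :type_of% (a _))<|b (9 :type_of% (a _))<|b (21 :type_of% (a _))<|b (-3 :type_of% (a _))<|b (21 :type_of% (a _))<|
 c)));
 (let c:=(let c:=(b (-17 :type_of% (a _))<|b (-1 :type_of% (a _))<|b (11 :type_of% (a _))<|b (-9 :type_of% (a _))<|b (-1 :type_of% (a _))<|b (3 :type_of% (a _))<|c);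
 (b (91 :type_of% (a _))<|b (-25 :type_of% (a _))<|b (135 :type_of% (a _))<|b (43 :type_of% (a _))<|b (-5 :type_of% (a _))<|b (-13 :type_of% (a _))<|c));
 (let c:=(b (21 :type_of% (a _))<|b (21 :type_of% (a _))<|b (3 :type_of% (a _))<|b (267 :type_of% (a _))<|b (59 :type_of% (a _))<|b (-21 :type_of% (a _))<|c);
 (d (162435 :type_of% (a _))<|d (-1533 :type_of% (a _))<|d (3843 :type_of% (a _))<|d (643 :type_of% (a _))<|d (-189 :type_of% (a _))<|c))))))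

/-- degree `216580` -/
def r17 : List ℤ := (beta% delta% lq2675025b5c fun a b d _ f _ _ _ _ _ _ _ _ _ _ _ _ _ _ _ _ _ _ _ _ _ _ =>
 (let c:=(let c:=(let c:=(let c:=(b (-1 :type_of% (a _))<|b (1 :type_of% (a _))<|b (0 :type_of% (a _))<|b (0 :type_of% (a _))<|b (-1 :type_of% (a _))<|b (0 :type_of% (a _))<|f);
 (b (1 :type_of% (a _))<|b (-1 :type_of% (a _))<|b (0 :type_of% (a _))<|b (0 :type_of% (a _))<|b (0 :type_of% (a _))<|b (0 :type_of% (a _))<|c));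
 (let c:=(b (0 :type_of% (a _))<|b (0 :type_of% (a _))<|b (0 :type_of% (a _))<|b (0 :type_of% (a _))<|b (1 :type_of% (a _))<|b (0 :type_of% (a _))<|c);
 (b (0 :type_of% (a _))<|b (0 :type_of% (a _))<|b (0 :type_of% (a _))<|
 b (-1 :type_of% (a _))<|b (2 :type_of% (a _))<|c)));
 (let c:=(let c:=(b (-2 :type_of% (a _))<|b (0 :type_of% (a _))<|b (0 :type_of% (a _))<|b (-1 :type_of% (a _))<|b (0 :type_of% (a _))<|b (0 :type_of% (a _))<|c);
 (b (-4 :type_of% (a _))<|b (4 :type_of% (a _))<|b (-5 :type_of% (a _))<|b (-1 :type_of% (a _))<|b (0 :type_of% (a _))<|b (1 :type_of% (a _))<|c));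
 (let c:=(b (3 :type_of% (a _))<|b (1 :type_of% (a _))<|b (0 :type_of% (a _))<|b (5 :type_of% (a _))<|b (2 :type_of% (a _))<|b (0 :type_of% (a _))<|c);
 (b (0 :type_of% (a _))<|b (0 :type_of% (a _))<|b (1 :type_of% (a _))<|b (-2 :type_of% (a _))<|b (-1 :type_of% (a _))<|c))));
 (let c:=(let c:=(let c:=(b (8 :type_of% (a _))<|b (0 :type_of% (a _))<|b (0 :type_of% (a _))<|b (4 :type_of% (a _))<|b (-4 :type_of% (a _))<|b (-4 :type_of% (a _))<|c);
 (b (-2 :type_of% (a _))<|b (0 :type_of% (a _))<|b (0 :type_of% (a _))<|b (4 :type_of% (a _))<|b (4 :type_of% (a _))<|b (-8 :type_of% (a _))<|c));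
 (let c:=(b (18 :type_of% (a _))<|b (-2 :type_of% (a _))<|b (0 :type_of% (a _))<|b (-3 :type_of% (a _))<|b (-8 :type_of% (a _))<|b (1 :type_of% (a _))<|c);
 (b (5 :type_of% (a _))<|b (0 :type_of% (a _))<|b (-11 :type_of% (a _))<|b (16 :type_of% (a _))<|b (9 :type_of% (a _))<|
 c)));
 (let c:=(let c:=(b (20 :type_of% (a _))<|b (-12 :type_of% (a _))<|b (-12 :type_of% (a _))<|b (4 :type_of% (a _))<|b (-12 :type_of% (a _))<|b (20 :type_of% (a _))<|c);
 (b (84 :type_of% (a _))<|b (4 :type_of% (a _))<|b (-124 :type_of% (a _))<|b (-44 :type_of% (a _))<|b (-12 :type_of% (a _))<|b (4 :type_of% (a _))<|c));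
 (let c:=(b (112 :type_of% (a _))<|b (49 :type_of% (a _))<|b (-14 :type_of% (a _))<|b (308 :type_of% (a _))<|b (-108 :type_of% (a _))<|b (-140 :type_of% (a _))<|c);
 (d (216580 :type_of% (a _))<|d (-252 :type_of% (a _))<|d (-3836 :type_of% (a _))<|d (516 :type_of% (a _))<|d (4 :type_of% (a _))<|c))))))

/-- degree `216580` -/
def r18 : List ℤ := (beta% delta% lq2675025b5c fun a b d _ f _ _ _ _ _ _ _ _ _ _ _ _ _ _ _ _ _ _ _ _ _ _ =>
 (let c:=(let c:=(let c:=(let c:=(b (0 :type_of% (a _))<|b (0 :type_of% (a _))<|b (0 :type_of% (a _))<|b (0 :type_of% (a _))<|b (0 :type_of% (a _))<|b (-1 :type_of% (a _))<|f);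
 (b (1 :type_of% (a _))<|b (-1 :type_of% (a _))<|b (0 :type_of% (a _))<|b (0 :type_of% (a _))<|b (1 :type_of% (a _))<|b (-1 :type_of% (a _))<|c));
 (let c:=(b (0 :type_of% (a _))<|b (0 :type_of% (a _))<|b (0 :type_of% (a _))<|b (0 :type_of% (a _))<|b (0 :type_of% (a _))<|b (1 :type_of% (a _))<|c);
 (b (0 :type_of% (a _))<|b (0 :type_of% (a _))<|b (0 :type_of% (a _))<|
 b (2 :type_of% (a _))<|b (-1 :type_of% (a _))<|c)));
 (let c:=(let c:=(b (0 :type_of% (a _))<|b (-2 :type_of% (a _))<|b (-1 :type_of% (a _))<|b (0 :type_of% (a _))<|b (0 :type_of% (a _))<|b (0 :type_of% (a _))<|c);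
 (b (-1 :type_of% (a _))<|b (-5 :type_of% (a _))<|b (4 :type_of% (a _))<|b (-4 :type_of% (a _))<|b (1 :type_of% (a _))<|b (0 :type_of% (a _))<|c));
 (let c:=(b (-1 :type_of% (a _))<|b (1 :type_of% (a _))<|b (5 :type_of% (a _))<|b (0 :type_of% (a _))<|b (0 :type_of% (a _))<|b (2 :type_of% (a _))<|c);
 (b (0 :type_of% (a _))<|b (0 :type_of% (a _))<|b (-2 :type_of% (a _))<|b (1 :type_of% (a _))<|b (3 :type_of% (a _))<|c))));
 (let c:=(let c:=(let c:=(b (0 :type_of% (a _))<|b (8 :type_of% (a _))<|b (-8 :type_of% (a _))<|b (4 :type_of% (a _))<|b (-4 :type_of% (a _))<|b (-4 :type_of% (a _))<|c);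
 (b (-2 :type_of% (a _))<|b (0 :type_of% (a _))<|b (0 :type_of% (a _))<|b (4 :type_of% (a _))<|b (4 :type_of% (a _))<|b (0 :type_of% (a _))<|c));
 (let c:=(b (-2 :type_of% (a _))<|b (18 :type_of% (a _))<|b (-3 :type_of% (a _))<|b (0 :type_of% (a _))<|b (1 :type_of% (a _))<|b (-8 :type_of% (a _))<|c);
 (b (5 :type_of% (a _))<|b (-11 :type_of% (a _))<|b (0 :type_of% (a _))<|b (9 :type_of% (a _))<|b (16 :type_of% (a _))<|
 c)));
 (let c:=(let c:=(b (-12 :type_of% (a _))<|b (20 :type_of% (a _))<|b (-12 :type_of% (a _))<|b (4 :type_of% (a _))<|b (-12 :type_of% (a _))<|b (20 :type_of% (a _))<|c);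
 (b (-140 :type_of% (a _))<|b (4 :type_of% (a _))<|b (-124 :type_of% (a _))<|b (-12 :type_of% (a _))<|b (-44 :type_of% (a _))<|b (4 :type_of% (a _))<|c));
 (let c:=(b (49 :type_of% (a _))<|b (112 :type_of% (a _))<|b (-14 :type_of% (a _))<|b (-108 :type_of% (a _))<|b (308 :type_of% (a _))<|b (84 :type_of% (a _))<|c);
 (d (216580 :type_of% (a _))<|d (-3836 :type_of% (a _))<|d (-252 :type_of% (a _))<|d (516 :type_of% (a _))<|d (4 :type_of% (a _))<|c))))))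

/-- degree `249900` -/
def r19 : List ℤ := (beta% delta% lq2675025b5c fun a b d _ f _ _ _ _ _ _ _ _ _ _ _ _ _ _ _ _ _ _ _ _ _ _ =>
 (let c:=(let c:=(let c:=(let c:=(b (1 :type_of% (a _))<|b (-1 :type_of% (a _))<|b (0 :type_of% (a _))<|b (0 :type_of% (a _))<|b (0 :type_of% (a _))<|b (0 :type_of% (a _))<|f);
 (b (0 :type_of% (a _))<|b (0 :type_of% (a _))<|b (0 :type_of% (a _))<|b (0 :type_of% (a _))<|b (-1 :type_of% (a _))<|b (1 :type_of% (a _))<|c));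
 (let c:=(b (0 :type_of% (a _))<|b (0 :type_of% (a _))<|b (0 :type_of% (a _))<|b (0 :type_of% (a _))<|b (0 :type_of% (a _))<|b (0 :type_of% (a _))<|c);
 (b (1 :type_of% (a _))<|b (0 :type_of% (a _))<|b (0 :type_of% (a _))<|b (0 :type_of% (a _))<|b (0 :type_of% (a _))<|c)));
 (let c:=(let c:=(b (-1 :type_of% (a _))<|b (-1 :type_of% (a _))<|b (-1 :type_of% (a _))<|b (-1 :type_of% (a _))<|b (-3 :type_of% (a _))<|b (1 :type_of% (a _))<|
 c);
 (b (3 :type_of% (a _))<|b (-1 :type_of% (a _))<|b (-1 :type_of% (a _))<|b (3 :type_of% (a _))<|b (-3 :type_of% (a _))<|b (-3 :type_of% (a _))<|c));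
 (let c:=(b (0 :type_of% (a _))<|b (0 :type_of% (a _))<|b (1 :type_of% (a _))<|b (1 :type_of% (a _))<|b (-5 :type_of% (a _))<|b (-5 :type_of% (a _))<|c);
 (b (0 :type_of% (a _))<|b (0 :type_of% (a _))<|b (0 :type_of% (a _))<|b (0 :type_of% (a _))<|b (0 :type_of% (a _))<|c))));
 (let c:=(let c:=(let c:=(b (4 :type_of% (a _))<|b (4 :type_of% (a _))<|b (-4 :type_of% (a _))<|b (4 :type_of% (a _))<|b (-4 :type_of% (a _))<|b (-4 :type_of% (a _))<|c);
 (b (1 :type_of% (a _))<|b (0 :type_of% (a _))<|b (0 :type_of% (a _))<|b (-4 :type_of% (a _))<|b (12 :type_of% (a _))<|b (-4 :type_of% (a _))<|c));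
 (let c:=(b (-3 :type_of% (a _))<|b (-3 :type_of% (a _))<|b (5 :type_of% (a _))<|b (5 :type_of% (a _))<|b (1 :type_of% (a _))<|b (1 :type_of% (a _))<|c);
 (b (0 :type_of% (a _))<|b (45 :type_of% (a _))<|b (45 :type_of% (a _))<|b (-15 :type_of% (a _))<|
 b (-15 :type_of% (a _))<|c)));
 (let c:=(let c:=(b (20 :type_of% (a _))<|b (20 :type_of% (a _))<|b (12 :type_of% (a _))<|b (4 :type_of% (a _))<|b (4 :type_of% (a _))<|b (-4 :type_of% (a _))<|c);
 (b (252 :type_of% (a _))<|b (260 :type_of% (a _))<|b (-60 :type_of% (a _))<|b (-4 :type_of% (a _))<|b (-4 :type_of% (a _))<|b (-20 :type_of% (a _))<|c));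
 (let c:=(b (105 :type_of% (a _))<|b (105 :type_of% (a _))<|b (-39 :type_of% (a _))<|b (-68 :type_of% (a _))<|b (-68 :type_of% (a _))<|b (252 :type_of% (a _))<|c);
 (d (249900 :type_of% (a _))<|d (7980 :type_of% (a _))<|d (7980 :type_of% (a _))<|d (1580 :type_of% (a _))<|d (172 :type_of% (a _))<|c))))))

/-- degree `269892` -/
def r20 : List ℤ := (beta% delta% lq2675025b5c fun a b d _ f _ _ _ _ _ _ _ _ _ _ _ _ _ _ _ _ _ _ _ _ _ _ =>
 (let c:=(let c:=(let c:=(let c:=(b (1 :type_of% (a _))<|b (-1 :type_of% (a _))<|b (0 :type_of% (a _))<|b (0 :type_of% (a _))<|b (1 :type_of% (a _))<|b (1 :type_of% (a _))<|f);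
 (b (1 :type_of% (a _))<|b (1 :type_of% (a _))<|b (0 :type_of% (a _))<|b (0 :type_of% (a _))<|b (-1 :type_of% (a _))<|b (1 :type_of% (a _))<|c));
 (let c:=(b (0 :type_of% (a _))<|b (0 :type_of% (a _))<|b (0 :type_of% (a _))<|b (0 :type_of% (a _))<|b (0 :type_of% (a _))<|b (0 :type_of% (a _))<|c);
 (b (-1 :type_of% (a _))<|b (0 :type_of% (a _))<|b (0 :type_of% (a _))<|b (-1 :type_of% (a _))<|b (-1 :type_of% (a _))<|c)));
 (let c:=(let c:=(b (0 :type_of% (a _))<|b (0 :type_of% (a _))<|b (-1 :type_of% (a _))<|b (-1 :type_of% (a _))<|b (0 :type_of% (a _))<|b (0 :type_of% (a _))<|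
 c);
 (b (-1 :type_of% (a _))<|b (-5 :type_of% (a _))<|b (-5 :type_of% (a _))<|b (-1 :type_of% (a _))<|b (1 :type_of% (a _))<|b (1 :type_of% (a _))<|c));
 (let c:=(b (1 :type_of% (a _))<|b (1 :type_of% (a _))<|b (-3 :type_of% (a _))<|b (-3 :type_of% (a _))<|b (0 :type_of% (a _))<|b (0 :type_of% (a _))<|c);
 (b (0 :type_of% (a _))<|b (0 :type_of% (a _))<|b (0 :type_of% (a _))<|b (0 :type_of% (a _))<|b (1 :type_of% (a _))<|c))));
 (let c:=(let c:=(let c:=(b (4 :type_of% (a _))<|b (4 :type_of% (a _))<|b (-4 :type_of% (a _))<|b (-4 :type_of% (a _))<|b (4 :type_of% (a _))<|b (4 :type_of% (a _))<|c);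
 (b (0 :type_of% (a _))<|b (0 :type_of% (a _))<|b (0 :type_of% (a _))<|b (-12 :type_of% (a _))<|b (4 :type_of% (a _))<|b (-4 :type_of% (a _))<|c));
 (let c:=(b (0 :type_of% (a _))<|b (0 :type_of% (a _))<|b (1 :type_of% (a _))<|b (1 :type_of% (a _))<|b (-3 :type_of% (a _))<|b (-3 :type_of% (a _))<|c);
 (b (17 :type_of% (a _))<|b (-39 :type_of% (a _))<|b (-39 :type_of% (a _))<|
 b (21 :type_of% (a _))<|b (21 :type_of% (a _))<|c)));
 (let c:=(let c:=(b (-4 :type_of% (a _))<|b (-4 :type_of% (a _))<|b (36 :type_of% (a _))<|b (12 :type_of% (a _))<|b (12 :type_of% (a _))<|b (-12 :type_of% (a _))<|c);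
 (b (-140 :type_of% (a _))<|b (76 :type_of% (a _))<|b (-244 :type_of% (a _))<|b (-12 :type_of% (a _))<|b (-12 :type_of% (a _))<|b (4 :type_of% (a _))<|c));
 (let c:=(b (189 :type_of% (a _))<|b (189 :type_of% (a _))<|b (0 :type_of% (a _))<|b (180 :type_of% (a _))<|b (180 :type_of% (a _))<|b (-140 :type_of% (a _))<|c);
 (d (269892 :type_of% (a _))<|d (-4284 :type_of% (a _))<|d (-4284 :type_of% (a _))<|d (2116 :type_of% (a _))<|d (-60 :type_of% (a _))<|c))))))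

/-- degree `270725` -/
def r21 : List ℤ := (beta% delta% lq2675025b5c fun a b d _ f _ _ _ _ _ _ _ _ _ _ _ _ _ _ _ _ _ _ _ _ _ _ =>
 (let c:=(let c:=(let c:=(let c:=(b (0 :type_of% (a _))<|b (0 :type_of% (a _))<|b (0 :type_of% (a _))<|b (0 :type_of% (a _))<|b (0 :type_of% (a _))<|b (0 :type_of% (a _))<|f);
 (b (0 :type_of% (a _))<|b (0 :type_of% (a _))<|b (0 :type_of% (a _))<|b (0 :type_of% (a _))<|b (0 :type_of% (a _))<|b (0 :type_of% (a _))<|c));
 (let c:=(b (1 :type_of% (a _))<|b (1 :type_of% (a _))<|b (1 :type_of% (a _))<|b (0 :type_of% (a _))<|b (-1 :type_of% (a _))<|b (-1 :type_of% (a _))<|c);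
 (b (0 :type_of% (a _))<|b (0 :type_of% (a _))<|b (0 :type_of% (a _))<|
 b (0 :type_of% (a _))<|b (0 :type_of% (a _))<|c)));
 (let c:=(let c:=(b (1 :type_of% (a _))<|b (1 :type_of% (a _))<|b (0 :type_of% (a _))<|b (0 :type_of% (a _))<|b (1 :type_of% (a _))<|b (1 :type_of% (a _))<|c);
 (b (-4 :type_of% (a _))<|b (-4 :type_of% (a _))<|b (-4 :type_of% (a _))<|b (-4 :type_of% (a _))<|b (-4 :type_of% (a _))<|b (-4 :type_of% (a _))<|c));
 (let c:=(b (0 :type_of% (a _))<|b (0 :type_of% (a _))<|b (4 :type_of% (a _))<|b (4 :type_of% (a _))<|b (1 :type_of% (a _))<|b (1 :type_of% (a _))<|c);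
 (b (1 :type_of% (a _))<|b (1 :type_of% (a _))<|b (-1 :type_of% (a _))<|b (-1 :type_of% (a _))<|b (0 :type_of% (a _))<|c))));
 (let c:=(let c:=(let c:=(b (-3 :type_of% (a _))<|b (-3 :type_of% (a _))<|b (-3 :type_of% (a _))<|b (5 :type_of% (a _))<|b (5 :type_of% (a _))<|b (5 :type_of% (a _))<|c);
 (b (1 :type_of% (a _))<|b (0 :type_of% (a _))<|b (0 :type_of% (a _))<|b (5 :type_of% (a _))<|b (5 :type_of% (a _))<|b (-3 :type_of% (a _))<|c));
 (let c:=(b (17 :type_of% (a _))<|b (17 :type_of% (a _))<|b (4 :type_of% (a _))<|b (4 :type_of% (a _))<|b (4 :type_of% (a _))<|b (4 :type_of% (a _))<|c);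
 (b (0 :type_of% (a _))<|b (20 :type_of% (a _))<|b (20 :type_of% (a _))<|b (-4 :type_of% (a _))<|b (-4 :type_of% (a _))<|
 c)));
 (let c:=(let c:=(b (-27 :type_of% (a _))<|b (-27 :type_of% (a _))<|b (-11 :type_of% (a _))<|b (5 :type_of% (a _))<|b (-11 :type_of% (a _))<|b (-11 :type_of% (a _))<|c);
 (b (-91 :type_of% (a _))<|b (5 :type_of% (a _))<|b (5 :type_of% (a _))<|b (37 :type_of% (a _))<|b (37 :type_of% (a _))<|b (69 :type_of% (a _))<|c));
 (let c:=(b (140 :type_of% (a _))<|b (140 :type_of% (a _))<|b (-31 :type_of% (a _))<|b (37 :type_of% (a _))<|b (37 :type_of% (a _))<|b (-91 :type_of% (a _))<|c);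
 (d (270725 :type_of% (a _))<|d (1925 :type_of% (a _))<|d (1925 :type_of% (a _))<|d (-635 :type_of% (a _))<|d (133 :type_of% (a _))<|c))))))

/-- degree `322218` -/
def r22 : List ℤ := (beta% delta% lq2675025b5c fun a b d _ f _ _ _ _ _ _ _ _ _ _ _ _ _ _ _ _ _ _ _ _ _ _ =>
 (let c:=(let c:=(let c:=(let c:=(b (0 :type_of% (a _))<|b (0 :type_of% (a _))<|b (0 :type_of% (a _))<|b (0 :type_of% (a _))<|b (0 :type_of% (a _))<|b (0 :type_of% (a _))<|f);
 (b (0 :type_of% (a _))<|b (2 :type_of% (a _))<|b (0 :type_of% (a _))<|b (0 :type_of% (a _))<|b (0 :type_of% (a _))<|b (0 :type_of% (a _))<|c));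
 (let c:=(b (0 :type_of% (a _))<|b (2 :type_of% (a _))<|
 b (-2 :type_of% (a _))<|b (0 :type_of% (a _))<|b (0 :type_of% (a _))<|b (0 :type_of% (a _))<|c);
 (b (0 :type_of% (a _))<|b (-2 :type_of% (a _))<|b (-2 :type_of% (a _))<|b (0 :type_of% (a _))<|b (0 :type_of% (a _))<|c)));
 (let c:=(let c:=(b (0 :type_of% (a _))<|b (0 :type_of% (a _))<|b (0 :type_of% (a _))<|b (0 :type_of% (a _))<|b (0 :type_of% (a _))<|b (0 :type_of% (a _))<|c);
 (b (0 :type_of% (a _))<|b (0 :type_of% (a _))<|b (0 :type_of% (a _))<|b (0 :type_of% (a _))<|b (0 :type_of% (a _))<|b (0 :type_of% (a _))<|c));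
 (let c:=(b (0 :type_of% (a _))<|b (2 :type_of% (a _))<|b (0 :type_of% (a _))<|b (0 :type_of% (a _))<|b (0 :type_of% (a _))<|b (0 :type_of% (a _))<|c);
 (b (2 :type_of% (a _))<|b (-2 :type_of% (a _))<|b (0 :type_of% (a _))<|b (0 :type_of% (a _))<|b (0 :type_of% (a _))<|c))));
 (let c:=(let c:=(let c:=(b (-6 :type_of% (a _))<|b (-6 :type_of% (a _))<|b (6 :type_of% (a _))<|b (6 :type_of% (a _))<|b (-6 :type_of% (a _))<|b (-6 :type_of% (a _))<|c);
 (b (0 :type_of% (a _))<|b (-6 :type_of% (a _))<|b (-6 :type_of% (a _))<|b (10 :type_of% (a _))<|b (2 :type_of% (a _))<|b (6 :type_of% (a _))<|c));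
 (let c:=(b (0 :type_of% (a _))<|b (0 :type_of% (a _))<|b (0 :type_of% (a _))<|
 b (0 :type_of% (a _))<|b (0 :type_of% (a _))<|b (0 :type_of% (a _))<|c);
 (b (18 :type_of% (a _))<|b (0 :type_of% (a _))<|b (0 :type_of% (a _))<|b (0 :type_of% (a _))<|b (0 :type_of% (a _))<|c)));
 (let c:=(let c:=(b (6 :type_of% (a _))<|b (6 :type_of% (a _))<|b (18 :type_of% (a _))<|b (14 :type_of% (a _))<|b (6 :type_of% (a _))<|b (-6 :type_of% (a _))<|c);
 (b (-126 :type_of% (a _))<|b (-18 :type_of% (a _))<|b (270 :type_of% (a _))<|b (-30 :type_of% (a _))<|b (-30 :type_of% (a _))<|b (10 :type_of% (a _))<|c));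
 (let c:=(b (0 :type_of% (a _))<|b (0 :type_of% (a _))<|b (0 :type_of% (a _))<|b (162 :type_of% (a _))<|b (162 :type_of% (a _))<|b (-126 :type_of% (a _))<|c);
 (d (322218 :type_of% (a _))<|d (810 :type_of% (a _))<|d (810 :type_of% (a _))<|d (1962 :type_of% (a _))<|d (234 :type_of% (a _))<|c))))))

/-- degree `348075` -/
def r23 : List ℤ := (beta% delta% lq2675025b5c fun a b d _ f _ _ _ _ _ _ _ _ _ _ _ _ _ _ _ _ _ _ _ _ _ _ =>
 (let c:=(let c:=(let c:=(let c:=(b (0 :type_of% (a _))<|b (0 :type_of% (a _))<|b (-1 :type_of% (a _))<|b (0 :type_of% (a _))<|b (0 :type_of% (a _))<|b (0 :type_of% (a _))<|f);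
 (b (0 :type_of% (a _))<|b (0 :type_of% (a _))<|b (1 :type_of% (a _))<|b (0 :type_of% (a _))<|b (1 :type_of% (a _))<|b (-1 :type_of% (a _))<|c));
 (let c:=(b (1 :type_of% (a _))<|b (-1 :type_of% (a _))<|b (-1 :type_of% (a _))<|b (0 :type_of% (a _))<|b (0 :type_of% (a _))<|b (0 :type_of% (a _))<|c);
 (b (0 :type_of% (a _))<|b (-1 :type_of% (a _))<|
 b (0 :type_of% (a _))<|b (0 :type_of% (a _))<|b (0 :type_of% (a _))<|c)));
 (let c:=(let c:=(b (0 :type_of% (a _))<|b (2 :type_of% (a _))<|b (-3 :type_of% (a _))<|b (2 :type_of% (a _))<|b (0 :type_of% (a _))<|b (0 :type_of% (a _))<|c);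
 (b (-3 :type_of% (a _))<|b (1 :type_of% (a _))<|b (-2 :type_of% (a _))<|b (6 :type_of% (a _))<|b (-1 :type_of% (a _))<|b (2 :type_of% (a _))<|c));
 (let c:=(b (0 :type_of% (a _))<|b (0 :type_of% (a _))<|b (3 :type_of% (a _))<|b (-6 :type_of% (a _))<|b (0 :type_of% (a _))<|b (6 :type_of% (a _))<|c);
 (b (-1 :type_of% (a _))<|b (-1 :type_of% (a _))<|b (0 :type_of% (a _))<|b (0 :type_of% (a _))<|b (0 :type_of% (a _))<|c))));
 (let c:=(let c:=(let c:=(b (-9 :type_of% (a _))<|b (-1 :type_of% (a _))<|b (-5 :type_of% (a _))<|b (-1 :type_of% (a _))<|b (3 :type_of% (a _))<|b (3 :type_of% (a _))<|c);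
 (b (-2 :type_of% (a _))<|b (7 :type_of% (a _))<|b (0 :type_of% (a _))<|b (3 :type_of% (a _))<|b (11 :type_of% (a _))<|b (3 :type_of% (a _))<|c));
 (let c:=(b (6 :type_of% (a _))<|b (-6 :type_of% (a _))<|b (7 :type_of% (a _))<|b (-2 :type_of% (a _))<|b (-5 :type_of% (a _))<|b (-2 :type_of% (a _))<|c);
 (b (0 :type_of% (a _))<|b (15 :type_of% (a _))<|b (30 :type_of% (a _))<|b (3 :type_of% (a _))<|b (6 :type_of% (a _))<|
 c)));
 (let c:=(let c:=(b (23 :type_of% (a _))<|b (-9 :type_of% (a _))<|b (3 :type_of% (a _))<|b (-17 :type_of% (a _))<|b (-9 :type_of% (a _))<|b (-5 :type_of% (a _))<|c);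
 (b (83 :type_of% (a _))<|b (175 :type_of% (a _))<|b (15 :type_of% (a _))<|b (-45 :type_of% (a _))<|b (-13 :type_of% (a _))<|b (-21 :type_of% (a _))<|c));
 (let c:=(b (315 :type_of% (a _))<|b (-90 :type_of% (a _))<|b (18 :type_of% (a _))<|b (-45 :type_of% (a _))<|b (51 :type_of% (a _))<|b (371 :type_of% (a _))<|c);
 (d (348075 :type_of% (a _))<|d (12075 :type_of% (a _))<|d (4395 :type_of% (a _))<|d (1195 :type_of% (a _))<|d (-149 :type_of% (a _))<|c))))))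

/-- degree `348075` -/
def r24 : List ℤ := (beta% delta% lq2675025b5c fun a b d _ f _ _ _ _ _ _ _ _ _ _ _ _ _ _ _ _ _ _ _ _ _ _ =>
 (let c:=(let c:=(let c:=(let c:=(b (-1 :type_of% (a _))<|b (1 :type_of% (a _))<|b (0 :type_of% (a _))<|b (-1 :type_of% (a _))<|b (0 :type_of% (a _))<|b (0 :type_of% (a _))<|f);
 (b (0 :type_of% (a _))<|b (0 :type_of% (a _))<|b (0 :type_of% (a _))<|b (1 :type_of% (a _))<|b (0 :type_of% (a _))<|b (0 :type_of% (a _))<|c));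
 (let c:=(b (1 :type_of% (a _))<|b (-1 :type_of% (a _))<|b (-1 :type_of% (a _))<|b (0 :type_of% (a _))<|b (0 :type_of% (a _))<|b (0 :type_of% (a _))<|c);
 (b (0 :type_of% (a _))<|b (0 :type_of% (a _))<|
 b (-1 :type_of% (a _))<|b (0 :type_of% (a _))<|b (0 :type_of% (a _))<|c)));
 (let c:=(let c:=(b (2 :type_of% (a _))<|b (0 :type_of% (a _))<|b (2 :type_of% (a _))<|b (-3 :type_of% (a _))<|b (0 :type_of% (a _))<|b (0 :type_of% (a _))<|c);
 (b (6 :type_of% (a _))<|b (-2 :type_of% (a _))<|b (1 :type_of% (a _))<|b (-3 :type_of% (a _))<|b (2 :type_of% (a _))<|b (-1 :type_of% (a _))<|c));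
 (let c:=(b (0 :type_of% (a _))<|b (0 :type_of% (a _))<|b (-6 :type_of% (a _))<|b (3 :type_of% (a _))<|b (6 :type_of% (a _))<|b (0 :type_of% (a _))<|c);
 (b (-1 :type_of% (a _))<|b (-1 :type_of% (a _))<|b (0 :type_of% (a _))<|b (0 :type_of% (a _))<|b (0 :type_of% (a _))<|c))));
 (let c:=(let c:=(let c:=(b (-1 :type_of% (a _))<|b (-9 :type_of% (a _))<|b (3 :type_of% (a _))<|b (-1 :type_of% (a _))<|b (3 :type_of% (a _))<|b (3 :type_of% (a _))<|c);
 (b (-2 :type_of% (a _))<|b (0 :type_of% (a _))<|b (7 :type_of% (a _))<|b (3 :type_of% (a _))<|b (11 :type_of% (a _))<|b (-5 :type_of% (a _))<|c));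
 (let c:=(b (-6 :type_of% (a _))<|b (6 :type_of% (a _))<|b (-2 :type_of% (a _))<|b (7 :type_of% (a _))<|b (-2 :type_of% (a _))<|b (-5 :type_of% (a _))<|c);
 (b (0 :type_of% (a _))<|b (30 :type_of% (a _))<|b (15 :type_of% (a _))<|b (6 :type_of% (a _))<|b (3 :type_of% (a _))<|
 c)));
 (let c:=(let c:=(b (-9 :type_of% (a _))<|b (23 :type_of% (a _))<|b (3 :type_of% (a _))<|b (-17 :type_of% (a _))<|b (-9 :type_of% (a _))<|b (-5 :type_of% (a _))<|c);
 (b (371 :type_of% (a _))<|b (175 :type_of% (a _))<|b (15 :type_of% (a _))<|b (-13 :type_of% (a _))<|b (-45 :type_of% (a _))<|b (-21 :type_of% (a _))<|c));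
 (let c:=(b (-90 :type_of% (a _))<|b (315 :type_of% (a _))<|b (18 :type_of% (a _))<|b (51 :type_of% (a _))<|b (-45 :type_of% (a _))<|b (83 :type_of% (a _))<|c);
 (d (348075 :type_of% (a _))<|d (4395 :type_of% (a _))<|d (12075 :type_of% (a _))<|d (1195 :type_of% (a _))<|d (-149 :type_of% (a _))<|c))))))

/-- degree `358020` -/
def r25 : List ℤ := (beta% delta% lq2675025b5c fun a b d _ f _ _ _ _ _ _ _ _ _ _ _ _ _ _ _ _ _ _ _ _ _ _ =>
 (let c:=(let c:=(let c:=(let c:=(b (1 :type_of% (a _))<|b (-1 :type_of% (a _))<|b (0 :type_of% (a _))<|b (-1 :type_of% (a _))<|b (0 :type_of% (a _))<|b (1 :type_of% (a _))<|f);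
 (b (-1 :type_of% (a _))<|b (1 :type_of% (a _))<|b (1 :type_of% (a _))<|b (-1 :type_of% (a _))<|b (0 :type_of% (a _))<|b (0 :type_of% (a _))<|c));
 (let c:=(b (0 :type_of% (a _))<|b (0 :type_of% (a _))<|b (0 :type_of% (a _))<|b (0 :type_of% (a _))<|b (0 :type_of% (a _))<|b (0 :type_of% (a _))<|c);
 (b (0 :type_of% (a _))<|b (2 :type_of% (a _))<|
 b (1 :type_of% (a _))<|b (-2 :type_of% (a _))<|b (1 :type_of% (a _))<|c)));
 (let c:=(let c:=(b (0 :type_of% (a _))<|b (0 :type_of% (a _))<|b (0 :type_of% (a _))<|b (-1 :type_of% (a _))<|b (0 :type_of% (a _))<|b (0 :type_of% (a _))<|c);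
 (b (4 :type_of% (a _))<|b (-4 :type_of% (a _))<|b (-1 :type_of% (a _))<|b (-5 :type_of% (a _))<|b (0 :type_of% (a _))<|b (1 :type_of% (a _))<|c));
 (let c:=(b (1 :type_of% (a _))<|b (-1 :type_of% (a _))<|b (0 :type_of% (a _))<|b (-3 :type_of% (a _))<|b (0 :type_of% (a _))<|b (0 :type_of% (a _))<|c);
 (b (0 :type_of% (a _))<|b (0 :type_of% (a _))<|b (0 :type_of% (a _))<|b (0 :type_of% (a _))<|b (-3 :type_of% (a _))<|c))));
 (let c:=(let c:=(let c:=(b (-8 :type_of% (a _))<|b (0 :type_of% (a _))<|b (0 :type_of% (a _))<|b (4 :type_of% (a _))<|b (-4 :type_of% (a _))<|b (-4 :type_of% (a _))<|c);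
 (b (0 :type_of% (a _))<|b (-2 :type_of% (a _))<|b (5 :type_of% (a _))<|b (4 :type_of% (a _))<|b (4 :type_of% (a _))<|b (8 :type_of% (a _))<|c));
 (let c:=(b (0 :type_of% (a _))<|b (0 :type_of% (a _))<|b (8 :type_of% (a _))<|b (-7 :type_of% (a _))<|b (0 :type_of% (a _))<|b (-3 :type_of% (a _))<|c);
 (b (-5 :type_of% (a _))<|b (-24 :type_of% (a _))<|b (-15 :type_of% (a _))<|b (24 :type_of% (a _))<|
 b (-3 :type_of% (a _))<|c)));
 (let c:=(let c:=(b (20 :type_of% (a _))<|b (-12 :type_of% (a _))<|b (-12 :type_of% (a _))<|b (4 :type_of% (a _))<|b (-12 :type_of% (a _))<|b (20 :type_of% (a _))<|c);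
 (b (84 :type_of% (a _))<|b (-124 :type_of% (a _))<|b (4 :type_of% (a _))<|b (84 :type_of% (a _))<|b (-12 :type_of% (a _))<|b (4 :type_of% (a _))<|c));
 (let c:=(b (216 :type_of% (a _))<|b (-27 :type_of% (a _))<|b (0 :type_of% (a _))<|b (180 :type_of% (a _))<|b (-108 :type_of% (a _))<|b (244 :type_of% (a _))<|c);
 (d (358020 :type_of% (a _))<|d (10116 :type_of% (a _))<|d (-3708 :type_of% (a _))<|d (644 :type_of% (a _))<|d (132 :type_of% (a _))<|c))))))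

/-- degree `358020` -/
def r26 : List ℤ := (beta% delta% lq2675025b5c fun a b d _ f _ _ _ _ _ _ _ _ _ _ _ _ _ _ _ _ _ _ _ _ _ _ =>
 (let c:=(let c:=(let c:=(let c:=(b (0 :type_of% (a _))<|b (0 :type_of% (a _))<|b (-1 :type_of% (a _))<|b (0 :type_of% (a _))<|b (1 :type_of% (a _))<|b (0 :type_of% (a _))<|f);
 (b (-1 :type_of% (a _))<|b (1 :type_of% (a _))<|b (-1 :type_of% (a _))<|b (1 :type_of% (a _))<|b (-1 :type_of% (a _))<|b (1 :type_of% (a _))<|c));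
 (let c:=(b (0 :type_of% (a _))<|b (0 :type_of% (a _))<|b (0 :type_of% (a _))<|b (0 :type_of% (a _))<|b (0 :type_of% (a _))<|b (0 :type_of% (a _))<|c);
 (b (0 :type_of% (a _))<|b (1 :type_of% (a _))<|
 b (2 :type_of% (a _))<|b (1 :type_of% (a _))<|b (-2 :type_of% (a _))<|c)));
 (let c:=(let c:=(b (0 :type_of% (a _))<|b (0 :type_of% (a _))<|b (-1 :type_of% (a _))<|b (0 :type_of% (a _))<|b (0 :type_of% (a _))<|b (0 :type_of% (a _))<|c);
 (b (-5 :type_of% (a _))<|b (-1 :type_of% (a _))<|b (-4 :type_of% (a _))<|b (4 :type_of% (a _))<|b (1 :type_of% (a _))<|b (0 :type_of% (a _))<|c));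
 (let c:=(b (-3 :type_of% (a _))<|b (-1 :type_of% (a _))<|b (-3 :type_of% (a _))<|b (0 :type_of% (a _))<|b (0 :type_of% (a _))<|b (0 :type_of% (a _))<|c);
 (b (0 :type_of% (a _))<|b (0 :type_of% (a _))<|b (0 :type_of% (a _))<|b (0 :type_of% (a _))<|b (1 :type_of% (a _))<|c))));
 (let c:=(let c:=(let c:=(b (0 :type_of% (a _))<|b (-8 :type_of% (a _))<|b (8 :type_of% (a _))<|b (4 :type_of% (a _))<|b (-4 :type_of% (a _))<|b (-4 :type_of% (a _))<|c);
 (b (0 :type_of% (a _))<|b (5 :type_of% (a _))<|b (-2 :type_of% (a _))<|b (4 :type_of% (a _))<|b (4 :type_of% (a _))<|b (0 :type_of% (a _))<|c));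
 (let c:=(b (0 :type_of% (a _))<|b (0 :type_of% (a _))<|b (-7 :type_of% (a _))<|b (8 :type_of% (a _))<|b (-3 :type_of% (a _))<|b (0 :type_of% (a _))<|c);
 (b (-5 :type_of% (a _))<|b (-15 :type_of% (a _))<|b (-24 :type_of% (a _))<|b (-3 :type_of% (a _))<|
 b (24 :type_of% (a _))<|c)));
 (let c:=(let c:=(b (-12 :type_of% (a _))<|b (20 :type_of% (a _))<|b (-12 :type_of% (a _))<|b (4 :type_of% (a _))<|b (-12 :type_of% (a _))<|b (20 :type_of% (a _))<|c);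
 (b (244 :type_of% (a _))<|b (-124 :type_of% (a _))<|b (4 :type_of% (a _))<|b (-12 :type_of% (a _))<|b (84 :type_of% (a _))<|b (4 :type_of% (a _))<|c));
 (let c:=(b (-27 :type_of% (a _))<|b (216 :type_of% (a _))<|b (0 :type_of% (a _))<|b (-108 :type_of% (a _))<|b (180 :type_of% (a _))<|b (84 :type_of% (a _))<|c);
 (d (358020 :type_of% (a _))<|d (-3708 :type_of% (a _))<|d (10116 :type_of% (a _))<|d (644 :type_of% (a _))<|d (132 :type_of% (a _))<|c))))))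

/-- degree `519792` -/
def r27 : List ℤ := (beta% delta% lq2675025b5c fun a b d _ f _ _ _ _ _ _ _ _ _ _ _ _ _ _ _ _ _ _ _ _ _ _ =>
 (let c:=(let c:=(let c:=(let c:=(b (0 :type_of% (a _))<|b (0 :type_of% (a _))<|b (0 :type_of% (a _))<|b (0 :type_of% (a _))<|b (-1 :type_of% (a _))<|b (-1 :type_of% (a _))<|f);
 (b (0 :type_of% (a _))<|b (0 :type_of% (a _))<|b (0 :type_of% (a _))<|b (0 :type_of% (a _))<|b (0 :type_of% (a _))<|b (0 :type_of% (a _))<|c));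
 (let c:=(b (0 :type_of% (a _))<|
 b (0 :type_of% (a _))<|b (0 :type_of% (a _))<|b (0 :type_of% (a _))<|b (0 :type_of% (a _))<|b (0 :type_of% (a _))<|c);
 (b (0 :type_of% (a _))<|b (0 :type_of% (a _))<|b (0 :type_of% (a _))<|b (1 :type_of% (a _))<|b (1 :type_of% (a _))<|c)));
 (let c:=(let c:=(b (0 :type_of% (a _))<|b (0 :type_of% (a _))<|b (0 :type_of% (a _))<|b (0 :type_of% (a _))<|b (-2 :type_of% (a _))<|b (2 :type_of% (a _))<|c);
 (b (0 :type_of% (a _))<|b (0 :type_of% (a _))<|b (0 :type_of% (a _))<|b (0 :type_of% (a _))<|b (4 :type_of% (a _))<|b (4 :type_of% (a _))<|c));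
 (let c:=(b (-4 :type_of% (a _))<|b (0 :type_of% (a _))<|b (4 :type_of% (a _))<|b (4 :type_of% (a _))<|b (4 :type_of% (a _))<|b (4 :type_of% (a _))<|c);
 (b (0 :type_of% (a _))<|b (0 :type_of% (a _))<|b (0 :type_of% (a _))<|b (0 :type_of% (a _))<|b (-4 :type_of% (a _))<|c))));
 (let c:=(let c:=(let c:=(b (0 :type_of% (a _))<|b (0 :type_of% (a _))<|b (0 :type_of% (a _))<|b (0 :type_of% (a _))<|b (0 :type_of% (a _))<|b (0 :type_of% (a _))<|c);
 (b (2 :type_of% (a _))<|b (0 :type_of% (a _))<|b (0 :type_of% (a _))<|b (0 :type_of% (a _))<|b (0 :type_of% (a _))<|b (0 :type_of% (a _))<|c));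
 (let c:=(b (6 :type_of% (a _))<|
 b (6 :type_of% (a _))<|b (-4 :type_of% (a _))<|b (-4 :type_of% (a _))<|b (-4 :type_of% (a _))<|b (-4 :type_of% (a _))<|c);
 (b (-8 :type_of% (a _))<|b (-36 :type_of% (a _))<|b (-36 :type_of% (a _))<|b (12 :type_of% (a _))<|b (12 :type_of% (a _))<|c)));
 (let c:=(let c:=(b (0 :type_of% (a _))<|b (0 :type_of% (a _))<|b (16 :type_of% (a _))<|b (0 :type_of% (a _))<|b (32 :type_of% (a _))<|b (-16 :type_of% (a _))<|c);
 (b (112 :type_of% (a _))<|b (0 :type_of% (a _))<|b (0 :type_of% (a _))<|b (48 :type_of% (a _))<|b (48 :type_of% (a _))<|b (48 :type_of% (a _))<|c));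
 (let c:=(b (-84 :type_of% (a _))<|b (-84 :type_of% (a _))<|b (42 :type_of% (a _))<|b (112 :type_of% (a _))<|b (112 :type_of% (a _))<|b (112 :type_of% (a _))<|c);
 (d (519792 :type_of% (a _))<|d (3696 :type_of% (a _))<|d (3696 :type_of% (a _))<|d (-400 :type_of% (a _))<|d (368 :type_of% (a _))<|c))))))

/-- degree `541450` -/
def r28 : List ℤ := (beta% delta% lq2675025b5c fun a b d _ f _ _ _ _ _ _ _ _ _ _ _ _ _ _ _ _ _ _ _ _ _ _ =>
 (let c:=(let c:=(let c:=(let c:=(b (-1 :type_of% (a _))<|b (1 :type_of% (a _))<|b (0 :type_of% (a _))<|b (0 :type_of% (a _))<|b (0 :type_of% (a _))<|b (0 :type_of% (a _))<|f);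
 (b (0 :type_of% (a _))<|b (0 :type_of% (a _))<|b (0 :type_of% (a _))<|b (0 :type_of% (a _))<|b (0 :type_of% (a _))<|b (0 :type_of% (a _))<|c));
 (let c:=(b (0 :type_of% (a _))<|b (-2 :type_of% (a _))<|b (2 :type_of% (a _))<|b (0 :type_of% (a _))<|b (0 :type_of% (a _))<|b (1 :type_of% (a _))<|c);
 (b (0 :type_of% (a _))<|
 b (0 :type_of% (a _))<|b (0 :type_of% (a _))<|b (0 :type_of% (a _))<|b (0 :type_of% (a _))<|c)));
 (let c:=(let c:=(b (0 :type_of% (a _))<|b (0 :type_of% (a _))<|b (0 :type_of% (a _))<|b (-1 :type_of% (a _))<|b (0 :type_of% (a _))<|b (0 :type_of% (a _))<|c);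
 (b (-4 :type_of% (a _))<|b (4 :type_of% (a _))<|b (-5 :type_of% (a _))<|b (-1 :type_of% (a _))<|b (0 :type_of% (a _))<|b (-3 :type_of% (a _))<|c));
 (let c:=(b (0 :type_of% (a _))<|b (0 :type_of% (a _))<|b (0 :type_of% (a _))<|b (1 :type_of% (a _))<|b (-8 :type_of% (a _))<|b (0 :type_of% (a _))<|c);
 (b (2 :type_of% (a _))<|b (-2 :type_of% (a _))<|b (-2 :type_of% (a _))<|b (1 :type_of% (a _))<|b (0 :type_of% (a _))<|c))));
 (let c:=(let c:=(let c:=(b (2 :type_of% (a _))<|b (-6 :type_of% (a _))<|b (6 :type_of% (a _))<|b (-2 :type_of% (a _))<|b (2 :type_of% (a _))<|b (2 :type_of% (a _))<|c);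
 (b (0 :type_of% (a _))<|b (0 :type_of% (a _))<|b (0 :type_of% (a _))<|b (2 :type_of% (a _))<|b (-6 :type_of% (a _))<|b (-2 :type_of% (a _))<|c));
 (let c:=(b (-8 :type_of% (a _))<|b (0 :type_of% (a _))<|b (8 :type_of% (a _))<|b (-7 :type_of% (a _))<|b (0 :type_of% (a _))<|b (-3 :type_of% (a _))<|c);
 (b (0 :type_of% (a _))<|b (40 :type_of% (a _))<|b (-15 :type_of% (a _))<|b (24 :type_of% (a _))<|
 b (-11 :type_of% (a _))<|c)));
 (let c:=(let c:=(b (38 :type_of% (a _))<|b (6 :type_of% (a _))<|b (18 :type_of% (a _))<|b (14 :type_of% (a _))<|b (6 :type_of% (a _))<|b (-6 :type_of% (a _))<|c);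
 (b (-126 :type_of% (a _))<|b (-50 :type_of% (a _))<|b (110 :type_of% (a _))<|b (66 :type_of% (a _))<|b (-30 :type_of% (a _))<|b (10 :type_of% (a _))<|c));
 (let c:=(b (280 :type_of% (a _))<|b (-35 :type_of% (a _))<|b (-8 :type_of% (a _))<|b (-62 :type_of% (a _))<|b (162 :type_of% (a _))<|b (546 :type_of% (a _))<|c);
 (d (541450 :type_of% (a _))<|d (17290 :type_of% (a _))<|d (-630 :type_of% (a _))<|d (2570 :type_of% (a _))<|d (330 :type_of% (a _))<|c))))))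

/-- degree `541450` -/
def r29 : List ℤ := (beta% delta% lq2675025b5c fun a b d _ f _ _ _ _ _ _ _ _ _ _ _ _ _ _ _ _ _ _ _ _ _ _ =>
 (let c:=(let c:=(let c:=(let c:=(b (1 :type_of% (a _))<|b (1 :type_of% (a _))<|b (0 :type_of% (a _))<|b (0 :type_of% (a _))<|b (0 :type_of% (a _))<|b (0 :type_of% (a _))<|f);
 (b (0 :type_of% (a _))<|b (0 :type_of% (a _))<|b (0 :type_of% (a _))<|b (0 :type_of% (a _))<|b (-1 :type_of% (a _))<|b (-1 :type_of% (a _))<|c));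
 (let c:=(b (0 :type_of% (a _))<|b (0 :type_of% (a _))<|b (0 :type_of% (a _))<|b (0 :type_of% (a _))<|b (-1 :type_of% (a _))<|b (1 :type_of% (a _))<|c);
 (b (0 :type_of% (a _))<|
 b (0 :type_of% (a _))<|b (0 :type_of% (a _))<|b (0 :type_of% (a _))<|b (0 :type_of% (a _))<|c)));
 (let c:=(let c:=(b (-2 :type_of% (a _))<|b (0 :type_of% (a _))<|b (1 :type_of% (a _))<|b (1 :type_of% (a _))<|b (0 :type_of% (a _))<|b (0 :type_of% (a _))<|c);
 (b (-3 :type_of% (a _))<|b (-3 :type_of% (a _))<|b (-3 :type_of% (a _))<|b (-3 :type_of% (a _))<|b (1 :type_of% (a _))<|b (-3 :type_of% (a _))<|c));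
 (let c:=(b (0 :type_of% (a _))<|b (0 :type_of% (a _))<|b (1 :type_of% (a _))<|b (5 :type_of% (a _))<|b (2 :type_of% (a _))<|b (-8 :type_of% (a _))<|c);
 (b (-2 :type_of% (a _))<|b (-2 :type_of% (a _))<|b (1 :type_of% (a _))<|b (1 :type_of% (a _))<|b (0 :type_of% (a _))<|c))));
 (let c:=(let c:=(let c:=(b (-2 :type_of% (a _))<|b (2 :type_of% (a _))<|b (2 :type_of% (a _))<|b (-2 :type_of% (a _))<|b (6 :type_of% (a _))<|b (-2 :type_of% (a _))<|c);
 (b (2 :type_of% (a _))<|b (0 :type_of% (a _))<|b (0 :type_of% (a _))<|b (6 :type_of% (a _))<|b (6 :type_of% (a _))<|b (-2 :type_of% (a _))<|c));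
 (let c:=(b (-2 :type_of% (a _))<|b (2 :type_of% (a _))<|b (13 :type_of% (a _))<|b (-11 :type_of% (a _))<|b (5 :type_of% (a _))<|b (5 :type_of% (a _))<|c);
 (b (0 :type_of% (a _))<|b (-35 :type_of% (a _))<|b (5 :type_of% (a _))<|b (-19 :type_of% (a _))<|
 b (13 :type_of% (a _))<|c)));
 (let c:=(let c:=(b (34 :type_of% (a _))<|b (-14 :type_of% (a _))<|b (-6 :type_of% (a _))<|b (-14 :type_of% (a _))<|b (18 :type_of% (a _))<|b (10 :type_of% (a _))<|c);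
 (b (154 :type_of% (a _))<|b (-30 :type_of% (a _))<|b (-30 :type_of% (a _))<|b (-86 :type_of% (a _))<|b (-6 :type_of% (a _))<|b (-6 :type_of% (a _))<|c));
 (let c:=(b (-35 :type_of% (a _))<|b (-35 :type_of% (a _))<|b (46 :type_of% (a _))<|b (362 :type_of% (a _))<|b (154 :type_of% (a _))<|b (42 :type_of% (a _))<|c);
 (d (541450 :type_of% (a _))<|d (3850 :type_of% (a _))<|d (-5110 :type_of% (a _))<|d (10 :type_of% (a _))<|d (-118 :type_of% (a _))<|c))))))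

/-- degree `541450` -/
def r30 : List ℤ := (beta% delta% lq2675025b5c fun a b d _ f _ _ _ _ _ _ _ _ _ _ _ _ _ _ _ _ _ _ _ _ _ _ =>
 (let c:=(let c:=(let c:=(let c:=(b (0 :type_of% (a _))<|b (0 :type_of% (a _))<|b (0 :type_of% (a _))<|b (0 :type_of% (a _))<|b (0 :type_of% (a _))<|b (0 :type_of% (a _))<|f);
 (b (0 :type_of% (a _))<|b (0 :type_of% (a _))<|b (0 :type_of% (a _))<|b (0 :type_of% (a _))<|b (1 :type_of% (a _))<|b (-1 :type_of% (a _))<|c));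
 (let c:=(b (0 :type_of% (a _))<|b (-2 :type_of% (a _))<|b (2 :type_of% (a _))<|b (0 :type_of% (a _))<|b (1 :type_of% (a _))<|b (0 :type_of% (a _))<|c);
 (b (0 :type_of% (a _))<|
 b (0 :type_of% (a _))<|b (0 :type_of% (a _))<|b (0 :type_of% (a _))<|b (0 :type_of% (a _))<|c)));
 (let c:=(let c:=(b (0 :type_of% (a _))<|b (0 :type_of% (a _))<|b (-1 :type_of% (a _))<|b (0 :type_of% (a _))<|b (0 :type_of% (a _))<|b (0 :type_of% (a _))<|c);
 (b (-1 :type_of% (a _))<|b (-5 :type_of% (a _))<|b (4 :type_of% (a _))<|b (-4 :type_of% (a _))<|b (-3 :type_of% (a _))<|b (0 :type_of% (a _))<|c));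
 (let c:=(b (0 :type_of% (a _))<|b (0 :type_of% (a _))<|b (1 :type_of% (a _))<|b (0 :type_of% (a _))<|b (0 :type_of% (a _))<|b (-8 :type_of% (a _))<|c);
 (b (2 :type_of% (a _))<|b (-2 :type_of% (a _))<|b (1 :type_of% (a _))<|b (-2 :type_of% (a _))<|b (0 :type_of% (a _))<|c))));
 (let c:=(let c:=(let c:=(b (-6 :type_of% (a _))<|b (2 :type_of% (a _))<|b (-2 :type_of% (a _))<|b (-2 :type_of% (a _))<|b (2 :type_of% (a _))<|b (2 :type_of% (a _))<|c);
 (b (0 :type_of% (a _))<|b (0 :type_of% (a _))<|b (0 :type_of% (a _))<|b (2 :type_of% (a _))<|b (-6 :type_of% (a _))<|b (6 :type_of% (a _))<|c));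
 (let c:=(b (0 :type_of% (a _))<|b (-8 :type_of% (a _))<|b (-7 :type_of% (a _))<|b (8 :type_of% (a _))<|b (-3 :type_of% (a _))<|b (0 :type_of% (a _))<|c);
 (b (0 :type_of% (a _))<|b (-15 :type_of% (a _))<|b (40 :type_of% (a _))<|b (-11 :type_of% (a _))<|
 b (24 :type_of% (a _))<|c)));
 (let c:=(let c:=(b (6 :type_of% (a _))<|b (38 :type_of% (a _))<|b (18 :type_of% (a _))<|b (14 :type_of% (a _))<|b (6 :type_of% (a _))<|b (-6 :type_of% (a _))<|c);
 (b (546 :type_of% (a _))<|b (-50 :type_of% (a _))<|b (110 :type_of% (a _))<|b (-30 :type_of% (a _))<|b (66 :type_of% (a _))<|b (10 :type_of% (a _))<|c));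
 (let c:=(b (-35 :type_of% (a _))<|b (280 :type_of% (a _))<|b (-8 :type_of% (a _))<|b (162 :type_of% (a _))<|b (-62 :type_of% (a _))<|b (-126 :type_of% (a _))<|c);
 (d (541450 :type_of% (a _))<|d (-630 :type_of% (a _))<|d (17290 :type_of% (a _))<|d (2570 :type_of% (a _))<|d (330 :type_of% (a _))<|c))))))

/-- degree `541450` -/
def r31 : List ℤ := (beta% delta% lq2675025b5c fun a b d _ f _ _ _ _ _ _ _ _ _ _ _ _ _ _ _ _ _ _ _ _ _ _ =>
 (let c:=(let c:=(let c:=(let c:=(b (-1 :type_of% (a _))<|b (-1 :type_of% (a _))<|b (0 :type_of% (a _))<|b (0 :type_of% (a _))<|b (0 :type_of% (a _))<|b (0 :type_of% (a _))<|f);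
 (b (0 :type_of% (a _))<|b (0 :type_of% (a _))<|b (0 :type_of% (a _))<|b (0 :type_of% (a _))<|b (1 :type_of% (a _))<|b (1 :type_of% (a _))<|c));
 (let c:=(b (0 :type_of% (a _))<|b (0 :type_of% (a _))<|b (0 :type_of% (a _))<|b (0 :type_of% (a _))<|b (1 :type_of% (a _))<|b (-1 :type_of% (a _))<|c);
 (b (0 :type_of% (a _))<|b (0 :type_of% (a _))<|b (0 :type_of% (a _))<|b (0 :type_of% (a _))<|b (0 :type_of% (a _))<|c)));
 (let c:=(let c:=(b (0 :type_of% (a _))<|b (-2 :type_of% (a _))<|b (1 :type_of% (a _))<|b (1 :type_of% (a _))<|b (0 :type_of% (a _))<|b (0 :type_of% (a _))<|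
 c);
 (b (-3 :type_of% (a _))<|b (-3 :type_of% (a _))<|b (-3 :type_of% (a _))<|b (-3 :type_of% (a _))<|b (-3 :type_of% (a _))<|b (1 :type_of% (a _))<|c));
 (let c:=(b (0 :type_of% (a _))<|b (0 :type_of% (a _))<|b (5 :type_of% (a _))<|b (1 :type_of% (a _))<|b (-8 :type_of% (a _))<|b (2 :type_of% (a _))<|c);
 (b (-2 :type_of% (a _))<|b (-2 :type_of% (a _))<|b (1 :type_of% (a _))<|b (1 :type_of% (a _))<|b (0 :type_of% (a _))<|c))));
 (let c:=(let c:=(let c:=(b (2 :type_of% (a _))<|b (-2 :type_of% (a _))<|b (-2 :type_of% (a _))<|b (-2 :type_of% (a _))<|b (-2 :type_of% (a _))<|b (6 :type_of% (a _))<|c);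
 (b (2 :type_of% (a _))<|b (0 :type_of% (a _))<|b (0 :type_of% (a _))<|b (6 :type_of% (a _))<|b (6 :type_of% (a _))<|b (2 :type_of% (a _))<|c));
 (let c:=(b (2 :type_of% (a _))<|b (-2 :type_of% (a _))<|b (-11 :type_of% (a _))<|b (13 :type_of% (a _))<|b (5 :type_of% (a _))<|b (5 :type_of% (a _))<|c);
 (b (0 :type_of% (a _))<|b (5 :type_of% (a _))<|b (-35 :type_of% (a _))<|b (13 :type_of% (a _))<|
 b (-19 :type_of% (a _))<|c)));
 (let c:=(let c:=(b (-14 :type_of% (a _))<|b (34 :type_of% (a _))<|b (-6 :type_of% (a _))<|b (-14 :type_of% (a _))<|b (18 :type_of% (a _))<|b (10 :type_of% (a _))<|c);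
 (b (42 :type_of% (a _))<|b (-30 :type_of% (a _))<|b (-30 :type_of% (a _))<|b (-6 :type_of% (a _))<|b (-86 :type_of% (a _))<|b (-6 :type_of% (a _))<|c));
 (let c:=(b (-35 :type_of% (a _))<|b (-35 :type_of% (a _))<|b (46 :type_of% (a _))<|b (154 :type_of% (a _))<|b (362 :type_of% (a _))<|b (154 :type_of% (a _))<|c);
 (d (541450 :type_of% (a _))<|d (-5110 :type_of% (a _))<|d (3850 :type_of% (a _))<|d (10 :type_of% (a _))<|d (-118 :type_of% (a _))<|c))))))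

/-- degree `584766` -/
def r32 : List ℤ := (beta% delta% lq2675025b5c fun a b d _ f _ _ _ _ _ _ _ _ _ _ _ _ _ _ _ _ _ _ _ _ _ _ =>
 (let c:=(let c:=(let c:=(let c:=(b (0 :type_of% (a _))<|b (0 :type_of% (a _))<|b (0 :type_of% (a _))<|b (0 :type_of% (a _))<|b (0 :type_of% (a _))<|b (0 :type_of% (a _))<|f);
 (b (1 :type_of% (a _))<|b (-1 :type_of% (a _))<|b (0 :type_of% (a _))<|b (0 :type_of% (a _))<|b (0 :type_of% (a _))<|b (0 :type_of% (a _))<|c));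
 (let c:=(b (0 :type_of% (a _))<|b (2 :type_of% (a _))<|
 b (-2 :type_of% (a _))<|b (0 :type_of% (a _))<|b (0 :type_of% (a _))<|b (0 :type_of% (a _))<|c);
 (b (0 :type_of% (a _))<|b (0 :type_of% (a _))<|b (0 :type_of% (a _))<|b (0 :type_of% (a _))<|b (0 :type_of% (a _))<|c)));
 (let c:=(let c:=(b (1 :type_of% (a _))<|b (1 :type_of% (a _))<|b (0 :type_of% (a _))<|b (0 :type_of% (a _))<|b (3 :type_of% (a _))<|b (-1 :type_of% (a _))<|c);
 (b (0 :type_of% (a _))<|b (0 :type_of% (a _))<|b (0 :type_of% (a _))<|b (0 :type_of% (a _))<|b (0 :type_of% (a _))<|b (0 :type_of% (a _))<|c));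
 (let c:=(b (-3 :type_of% (a _))<|b (-1 :type_of% (a _))<|b (0 :type_of% (a _))<|b (0 :type_of% (a _))<|b (-3 :type_of% (a _))<|b (-3 :type_of% (a _))<|c);
 (b (2 :type_of% (a _))<|b (-2 :type_of% (a _))<|b (0 :type_of% (a _))<|b (0 :type_of% (a _))<|b (-3 :type_of% (a _))<|c))));
 (let c:=(let c:=(let c:=(b (6 :type_of% (a _))<|b (6 :type_of% (a _))<|b (-6 :type_of% (a _))<|b (2 :type_of% (a _))<|b (-2 :type_of% (a _))<|b (-2 :type_of% (a _))<|c);
 (b (3 :type_of% (a _))<|b (0 :type_of% (a _))<|b (0 :type_of% (a _))<|b (-2 :type_of% (a _))<|b (6 :type_of% (a _))<|b (-6 :type_of% (a _))<|c));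
 (let c:=(b (-9 :type_of% (a _))<|b (-9 :type_of% (a _))<|b (0 :type_of% (a _))<|
 b (0 :type_of% (a _))<|b (0 :type_of% (a _))<|b (0 :type_of% (a _))<|c);
 (b (-9 :type_of% (a _))<|b (0 :type_of% (a _))<|b (0 :type_of% (a _))<|b (0 :type_of% (a _))<|b (0 :type_of% (a _))<|c)));
 (let c:=(let c:=(b (18 :type_of% (a _))<|b (18 :type_of% (a _))<|b (6 :type_of% (a _))<|b (10 :type_of% (a _))<|b (2 :type_of% (a _))<|b (-2 :type_of% (a _))<|c);
 (b (294 :type_of% (a _))<|b (234 :type_of% (a _))<|b (-54 :type_of% (a _))<|b (70 :type_of% (a _))<|b (70 :type_of% (a _))<|b (30 :type_of% (a _))<|c));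
 (let c:=(b (0 :type_of% (a _))<|b (0 :type_of% (a _))<|b (27 :type_of% (a _))<|b (6 :type_of% (a _))<|b (6 :type_of% (a _))<|b (294 :type_of% (a _))<|c);
 (d (584766 :type_of% (a _))<|d (12222 :type_of% (a _))<|d (12222 :type_of% (a _))<|d (1854 :type_of% (a _))<|d (510 :type_of% (a _))<|c))))))

/-- degree `626535` -/
def r33 : List ℤ := (beta% delta% lq2675025b5c fun a b d _ f _ _ _ _ _ _ _ _ _ _ _ _ _ _ _ _ _ _ _ _ _ _ =>
 (let c:=(let c:=(let c:=(let c:=(b (0 :type_of% (a _))<|b (0 :type_of% (a _))<|b (1 :type_of% (a _))<|b (0 :type_of% (a _))<|b (1 :type_of% (a _))<|b (-1 :type_of% (a _))<|f);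
 (b (0 :type_of% (a _))<|b (0 :type_of% (a _))<|b (-1 :type_of% (a _))<|b (0 :type_of% (a _))<|b (1 :type_of% (a _))<|b (-1 :type_of% (a _))<|c));
 (let c:=(b (1 :type_of% (a _))<|b (-1 :type_of% (a _))<|b (-1 :type_of% (a _))<|b (0 :type_of% (a _))<|b (0 :type_of% (a _))<|b (0 :type_of% (a _))<|c);
 (b (0 :type_of% (a _))<|b (1 :type_of% (a _))<|b (0 :type_of% (a _))<|
 b (1 :type_of% (a _))<|b (1 :type_of% (a _))<|c)));
 (let c:=(let c:=(b (0 :type_of% (a _))<|b (0 :type_of% (a _))<|b (1 :type_of% (a _))<|b (0 :type_of% (a _))<|b (0 :type_of% (a _))<|b (0 :type_of% (a _))<|c);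
 (b (1 :type_of% (a _))<|b (5 :type_of% (a _))<|b (-4 :type_of% (a _))<|b (4 :type_of% (a _))<|b (-1 :type_of% (a _))<|b (0 :type_of% (a _))<|c));
 (let c:=(b (2 :type_of% (a _))<|b (-2 :type_of% (a _))<|b (3 :type_of% (a _))<|b (0 :type_of% (a _))<|b (0 :type_of% (a _))<|b (0 :type_of% (a _))<|c);
 (b (-1 :type_of% (a _))<|b (-1 :type_of% (a _))<|b (0 :type_of% (a _))<|b (0 :type_of% (a _))<|b (-2 :type_of% (a _))<|c))));
 (let c:=(let c:=(let c:=(b (-9 :type_of% (a _))<|b (-1 :type_of% (a _))<|b (-5 :type_of% (a _))<|b (3 :type_of% (a _))<|b (-1 :type_of% (a _))<|b (-1 :type_of% (a _))<|c);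
 (b (0 :type_of% (a _))<|b (-7 :type_of% (a _))<|b (0 :type_of% (a _))<|b (-9 :type_of% (a _))<|b (-1 :type_of% (a _))<|b (3 :type_of% (a _))<|c));
 (let c:=(b (0 :type_of% (a _))<|b (0 :type_of% (a _))<|b (-1 :type_of% (a _))<|b (8 :type_of% (a _))<|b (3 :type_of% (a _))<|b (0 :type_of% (a _))<|c);
 (b (10 :type_of% (a _))<|b (39 :type_of% (a _))<|b (-24 :type_of% (a _))<|b (-21 :type_of% (a _))<|b (24 :type_of% (a _))<|
 c)));
 (let c:=(let c:=(b (3 :type_of% (a _))<|b (-29 :type_of% (a _))<|b (15 :type_of% (a _))<|b (11 :type_of% (a _))<|b (3 :type_of% (a _))<|b (7 :type_of% (a _))<|c);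
 (b (-97 :type_of% (a _))<|b (-85 :type_of% (a _))<|b (-245 :type_of% (a _))<|b (63 :type_of% (a _))<|b (-33 :type_of% (a _))<|b (7 :type_of% (a _))<|c));
 (let c:=(b (-189 :type_of% (a _))<|b (216 :type_of% (a _))<|b (0 :type_of% (a _))<|b (351 :type_of% (a _))<|b (63 :type_of% (a _))<|b (63 :type_of% (a _))<|c);
 (d (626535 :type_of% (a _))<|d (5607 :type_of% (a _))<|d (-8217 :type_of% (a _))<|d (2663 :type_of% (a _))<|d (39 :type_of% (a _))<|c))))))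

/-- degree `626535` -/
def r34 : List ℤ := (beta% delta% lq2675025b5c fun a b d _ f _ _ _ _ _ _ _ _ _ _ _ _ _ _ _ _ _ _ _ _ _ _ =>
 (let c:=(let c:=(let c:=(let c:=(b (-1 :type_of% (a _))<|b (1 :type_of% (a _))<|b (0 :type_of% (a _))<|b (1 :type_of% (a _))<|b (-1 :type_of% (a _))<|b (1 :type_of% (a _))<|f);
 (b (0 :type_of% (a _))<|b (0 :type_of% (a _))<|b (0 :type_of% (a _))<|b (-1 :type_of% (a _))<|b (0 :type_of% (a _))<|b (0 :type_of% (a _))<|c));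
 (let c:=(b (1 :type_of% (a _))<|b (-1 :type_of% (a _))<|b (-1 :type_of% (a _))<|b (0 :type_of% (a _))<|b (0 :type_of% (a _))<|b (0 :type_of% (a _))<|c);
 (b (0 :type_of% (a _))<|b (0 :type_of% (a _))<|b (1 :type_of% (a _))<|
 b (1 :type_of% (a _))<|b (1 :type_of% (a _))<|c)));
 (let c:=(let c:=(b (0 :type_of% (a _))<|b (0 :type_of% (a _))<|b (0 :type_of% (a _))<|b (1 :type_of% (a _))<|b (0 :type_of% (a _))<|b (0 :type_of% (a _))<|c);
 (b (4 :type_of% (a _))<|b (-4 :type_of% (a _))<|b (5 :type_of% (a _))<|b (1 :type_of% (a _))<|b (0 :type_of% (a _))<|b (-1 :type_of% (a _))<|c));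
 (let c:=(b (-2 :type_of% (a _))<|b (-2 :type_of% (a _))<|b (0 :type_of% (a _))<|b (3 :type_of% (a _))<|b (0 :type_of% (a _))<|b (0 :type_of% (a _))<|c);
 (b (-1 :type_of% (a _))<|b (-1 :type_of% (a _))<|b (0 :type_of% (a _))<|b (0 :type_of% (a _))<|b (2 :type_of% (a _))<|c))));
 (let c:=(let c:=(let c:=(b (-1 :type_of% (a _))<|b (-9 :type_of% (a _))<|b (3 :type_of% (a _))<|b (3 :type_of% (a _))<|b (-1 :type_of% (a _))<|b (-1 :type_of% (a _))<|c);
 (b (0 :type_of% (a _))<|b (0 :type_of% (a _))<|b (-7 :type_of% (a _))<|b (-9 :type_of% (a _))<|b (-1 :type_of% (a _))<|b (-5 :type_of% (a _))<|c));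
 (let c:=(b (0 :type_of% (a _))<|b (0 :type_of% (a _))<|b (8 :type_of% (a _))<|b (-1 :type_of% (a _))<|b (0 :type_of% (a _))<|b (3 :type_of% (a _))<|c);
 (b (10 :type_of% (a _))<|b (-24 :type_of% (a _))<|b (39 :type_of% (a _))<|b (24 :type_of% (a _))<|b (-21 :type_of% (a _))<|
 c)));
 (let c:=(let c:=(b (-29 :type_of% (a _))<|b (3 :type_of% (a _))<|b (15 :type_of% (a _))<|b (11 :type_of% (a _))<|b (3 :type_of% (a _))<|b (7 :type_of% (a _))<|c);
 (b (63 :type_of% (a _))<|b (-85 :type_of% (a _))<|b (-245 :type_of% (a _))<|b (-33 :type_of% (a _))<|b (63 :type_of% (a _))<|b (7 :type_of% (a _))<|c));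
 (let c:=(b (216 :type_of% (a _))<|b (-189 :type_of% (a _))<|b (0 :type_of% (a _))<|b (63 :type_of% (a _))<|b (351 :type_of% (a _))<|b (-97 :type_of% (a _))<|c);
 (d (626535 :type_of% (a _))<|d (-8217 :type_of% (a _))<|d (5607 :type_of% (a _))<|d (2663 :type_of% (a _))<|d (39 :type_of% (a _))<|c))))))

/-- degree `812175` -/
def r35 : List ℤ := (beta% delta% lq2675025b5c fun a b d _ f _ _ _ _ _ _ _ _ _ _ _ _ _ _ _ _ _ _ _ _ _ _ =>
 (let c:=(let c:=(let c:=(let c:=(b (-1 :type_of% (a _))<|b (-1 :type_of% (a _))<|b (0 :type_of% (a _))<|b (0 :type_of% (a _))<|b (0 :type_of% (a _))<|b (0 :type_of% (a _))<|f);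
 (b (0 :type_of% (a _))<|b (0 :type_of% (a _))<|b (0 :type_of% (a _))<|b (0 :type_of% (a _))<|b (-1 :type_of% (a _))<|b (1 :type_of% (a _))<|c));
 (let c:=(b (-1 :type_of% (a _))<|b (1 :type_of% (a _))<|b (1 :type_of% (a _))<|b (0 :type_of% (a _))<|b (0 :type_of% (a _))<|b (0 :type_of% (a _))<|c);
 (b (0 :type_of% (a _))<|b (0 :type_of% (a _))<|b (0 :type_of% (a _))<|b (0 :type_of% (a _))<|b (0 :type_of% (a _))<|c)));
 (let c:=(let c:=(b (-1 :type_of% (a _))<|b (1 :type_of% (a _))<|b (-1 :type_of% (a _))<|b (1 :type_of% (a _))<|b (1 :type_of% (a _))<|b (1 :type_of% (a _))<|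
 c);
 (b (3 :type_of% (a _))<|b (-1 :type_of% (a _))<|b (5 :type_of% (a _))<|b (-3 :type_of% (a _))<|b (-3 :type_of% (a _))<|b (5 :type_of% (a _))<|c));
 (let c:=(b (0 :type_of% (a _))<|b (0 :type_of% (a _))<|b (1 :type_of% (a _))<|b (-3 :type_of% (a _))<|b (3 :type_of% (a _))<|b (1 :type_of% (a _))<|c);
 (b (-1 :type_of% (a _))<|b (-1 :type_of% (a _))<|b (0 :type_of% (a _))<|b (0 :type_of% (a _))<|b (0 :type_of% (a _))<|c))));
 (let c:=(let c:=(let c:=(b (-1 :type_of% (a _))<|b (-5 :type_of% (a _))<|b (-1 :type_of% (a _))<|b (-1 :type_of% (a _))<|b (3 :type_of% (a _))<|b (-5 :type_of% (a _))<|c);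
 (b (-5 :type_of% (a _))<|b (0 :type_of% (a _))<|b (0 :type_of% (a _))<|b (3 :type_of% (a _))<|b (-5 :type_of% (a _))<|b (-13 :type_of% (a _))<|c));
 (let c:=(b (-9 :type_of% (a _))<|b (3 :type_of% (a _))<|b (5 :type_of% (a _))<|b (17 :type_of% (a _))<|b (1 :type_of% (a _))<|b (1 :type_of% (a _))<|c);
 (b (0 :type_of% (a _))<|b (45 :type_of% (a _))<|b (-15 :type_of% (a _))<|b (-15 :type_of% (a _))<|
 b (9 :type_of% (a _))<|c)));
 (let c:=(let c:=(b (43 :type_of% (a _))<|b (-37 :type_of% (a _))<|b (7 :type_of% (a _))<|b (3 :type_of% (a _))<|b (-5 :type_of% (a _))<|b (-1 :type_of% (a _))<|c);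
 (b (-105 :type_of% (a _))<|b (-205 :type_of% (a _))<|b (-45 :type_of% (a _))<|b (-25 :type_of% (a _))<|b (-41 :type_of% (a _))<|b (-1 :type_of% (a _))<|c));
 (let c:=(b (105 :type_of% (a _))<|b (105 :type_of% (a _))<|b (15 :type_of% (a _))<|b (39 :type_of% (a _))<|b (55 :type_of% (a _))<|b (455 :type_of% (a _))<|c);
 (d (812175 :type_of% (a _))<|d (19215 :type_of% (a _))<|d (-7665 :type_of% (a _))<|d (3215 :type_of% (a _))<|d (79 :type_of% (a _))<|c))))))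

/-- degree `812175` -/
def r36 : List ℤ := (beta% delta% lq2675025b5c fun a b d _ f _ _ _ _ _ _ _ _ _ _ _ _ _ _ _ _ _ _ _ _ _ _ =>
 (let c:=(let c:=(let c:=(let c:=(b (1 :type_of% (a _))<|b (-1 :type_of% (a _))<|b (0 :type_of% (a _))<|b (0 :type_of% (a _))<|b (0 :type_of% (a _))<|b (0 :type_of% (a _))<|f);
 (b (0 :type_of% (a _))<|b (0 :type_of% (a _))<|b (0 :type_of% (a _))<|b (0 :type_of% (a _))<|b (-1 :type_of% (a _))<|b (-1 :type_of% (a _))<|c));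
 (let c:=(b (-1 :type_of% (a _))<|b (1 :type_of% (a _))<|b (1 :type_of% (a _))<|b (0 :type_of% (a _))<|b (0 :type_of% (a _))<|b (0 :type_of% (a _))<|c);
 (b (0 :type_of% (a _))<|b (0 :type_of% (a _))<|b (0 :type_of% (a _))<|b (0 :type_of% (a _))<|b (0 :type_of% (a _))<|c)));
 (let c:=(let c:=(b (1 :type_of% (a _))<|b (-1 :type_of% (a _))<|b (1 :type_of% (a _))<|b (-1 :type_of% (a _))<|b (1 :type_of% (a _))<|b (1 :type_of% (a _))<|
 c);
 (b (-3 :type_of% (a _))<|b (5 :type_of% (a _))<|b (-1 :type_of% (a _))<|b (3 :type_of% (a _))<|b (5 :type_of% (a _))<|b (-3 :type_of% (a _))<|c));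
 (let c:=(b (0 :type_of% (a _))<|b (0 :type_of% (a _))<|b (-3 :type_of% (a _))<|b (1 :type_of% (a _))<|b (1 :type_of% (a _))<|b (3 :type_of% (a _))<|c);
 (b (-1 :type_of% (a _))<|b (-1 :type_of% (a _))<|b (0 :type_of% (a _))<|b (0 :type_of% (a _))<|b (0 :type_of% (a _))<|c))));
 (let c:=(let c:=(let c:=(b (-5 :type_of% (a _))<|b (-1 :type_of% (a _))<|b (-13 :type_of% (a _))<|b (-1 :type_of% (a _))<|b (-5 :type_of% (a _))<|b (3 :type_of% (a _))<|c);
 (b (-5 :type_of% (a _))<|b (0 :type_of% (a _))<|b (0 :type_of% (a _))<|b (3 :type_of% (a _))<|b (-5 :type_of% (a _))<|b (-1 :type_of% (a _))<|c));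
 (let c:=(b (3 :type_of% (a _))<|b (-9 :type_of% (a _))<|b (17 :type_of% (a _))<|b (5 :type_of% (a _))<|b (1 :type_of% (a _))<|b (1 :type_of% (a _))<|c);
 (b (0 :type_of% (a _))<|b (-15 :type_of% (a _))<|b (45 :type_of% (a _))<|b (9 :type_of% (a _))<|
 b (-15 :type_of% (a _))<|c)));
 (let c:=(let c:=(b (-37 :type_of% (a _))<|b (43 :type_of% (a _))<|b (7 :type_of% (a _))<|b (3 :type_of% (a _))<|b (-5 :type_of% (a _))<|b (-1 :type_of% (a _))<|c);
 (b (455 :type_of% (a _))<|b (-205 :type_of% (a _))<|b (-45 :type_of% (a _))<|b (-41 :type_of% (a _))<|b (-25 :type_of% (a _))<|b (-1 :type_of% (a _))<|c));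
 (let c:=(b (105 :type_of% (a _))<|b (105 :type_of% (a _))<|b (15 :type_of% (a _))<|b (55 :type_of% (a _))<|b (39 :type_of% (a _))<|b (-105 :type_of% (a _))<|c);
 (d (812175 :type_of% (a _))<|d (-7665 :type_of% (a _))<|d (19215 :type_of% (a _))<|d (3215 :type_of% (a _))<|d (79 :type_of% (a _))<|c))))))

/-- degree `877149` -/
def r37 : List ℤ := (beta% delta% lq2675025b5c fun a b d _ f _ _ _ _ _ _ _ _ _ _ _ _ _ _ _ _ _ _ _ _ _ _ =>
 (let c:=(let c:=(let c:=(let c:=(b (-1 :type_of% (a _))<|b (-1 :type_of% (a _))<|b (0 :type_of% (a _))<|b (0 :type_of% (a _))<|b (1 :type_of% (a _))<|b (1 :type_of% (a _))<|f);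
 (b (1 :type_of% (a _))<|b (-1 :type_of% (a _))<|b (0 :type_of% (a _))<|b (0 :type_of% (a _))<|b (-1 :type_of% (a _))<|b (-1 :type_of% (a _))<|c));
 (let c:=(b (-1 :type_of% (a _))<|b (1 :type_of% (a _))<|b (1 :type_of% (a _))<|b (0 :type_of% (a _))<|b (0 :type_of% (a _))<|b (0 :type_of% (a _))<|c);
 (b (0 :type_of% (a _))<|b (0 :type_of% (a _))<|
 b (0 :type_of% (a _))<|b (-1 :type_of% (a _))<|b (-1 :type_of% (a _))<|c)));
 (let c:=(let c:=(b (0 :type_of% (a _))<|b (0 :type_of% (a _))<|b (1 :type_of% (a _))<|b (1 :type_of% (a _))<|b (0 :type_of% (a _))<|b (0 :type_of% (a _))<|c);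
 (b (1 :type_of% (a _))<|b (1 :type_of% (a _))<|b (1 :type_of% (a _))<|b (1 :type_of% (a _))<|b (1 :type_of% (a _))<|b (1 :type_of% (a _))<|c));
 (let c:=(b (1 :type_of% (a _))<|b (-1 :type_of% (a _))<|b (9 :type_of% (a _))<|b (9 :type_of% (a _))<|b (0 :type_of% (a _))<|b (0 :type_of% (a _))<|c);
 (b (1 :type_of% (a _))<|b (1 :type_of% (a _))<|b (0 :type_of% (a _))<|b (0 :type_of% (a _))<|b (1 :type_of% (a _))<|c))));
 (let c:=(let c:=(let c:=(b (-7 :type_of% (a _))<|b (-7 :type_of% (a _))<|b (5 :type_of% (a _))<|b (-7 :type_of% (a _))<|b (-3 :type_of% (a _))<|b (-3 :type_of% (a _))<|c);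
 (b (0 :type_of% (a _))<|b (0 :type_of% (a _))<|b (0 :type_of% (a _))<|b (-3 :type_of% (a _))<|b (5 :type_of% (a _))<|b (5 :type_of% (a _))<|c));
 (let c:=(b (0 :type_of% (a _))<|b (0 :type_of% (a _))<|b (-11 :type_of% (a _))<|b (-11 :type_of% (a _))<|b (-3 :type_of% (a _))<|b (-3 :type_of% (a _))<|c);
 (b (-1 :type_of% (a _))<|b (21 :type_of% (a _))<|b (21 :type_of% (a _))<|b (-3 :type_of% (a _))<|
 b (-3 :type_of% (a _))<|c)));
 (let c:=(let c:=(b (-23 :type_of% (a _))<|b (-23 :type_of% (a _))<|b (21 :type_of% (a _))<|b (1 :type_of% (a _))<|b (9 :type_of% (a _))<|b (13 :type_of% (a _))<|c);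
 (b (133 :type_of% (a _))<|b (289 :type_of% (a _))<|b (1 :type_of% (a _))<|b (-27 :type_of% (a _))<|b (-27 :type_of% (a _))<|b (61 :type_of% (a _))<|c));
 (let c:=(b (189 :type_of% (a _))<|b (189 :type_of% (a _))<|b (0 :type_of% (a _))<|b (-27 :type_of% (a _))<|b (-27 :type_of% (a _))<|b (133 :type_of% (a _))<|c);
 (d (877149 :type_of% (a _))<|d (14301 :type_of% (a _))<|d (14301 :type_of% (a _))<|d (349 :type_of% (a _))<|d (-483 :type_of% (a _))<|c))))))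

/-- degree `877149` -/
def r38 : List ℤ := (beta% delta% lq2675025b5c fun a b d _ f _ _ _ _ _ _ _ _ _ _ _ _ _ _ _ _ _ _ _ _ _ _ =>
 (let c:=(let c:=(let c:=(let c:=(b (1 :type_of% (a _))<|b (1 :type_of% (a _))<|b (0 :type_of% (a _))<|b (0 :type_of% (a _))<|b (-1 :type_of% (a _))<|b (-1 :type_of% (a _))<|f);
 (b (-1 :type_of% (a _))<|b (-1 :type_of% (a _))<|b (0 :type_of% (a _))<|b (0 :type_of% (a _))<|b (1 :type_of% (a _))<|b (1 :type_of% (a _))<|c));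
 (let c:=(b (1 :type_of% (a _))<|b (1 :type_of% (a _))<|b (1 :type_of% (a _))<|b (0 :type_of% (a _))<|b (0 :type_of% (a _))<|b (0 :type_of% (a _))<|c);
 (b (0 :type_of% (a _))<|b (0 :type_of% (a _))<|b (0 :type_of% (a _))<|b (-1 :type_of% (a _))<|b (-1 :type_of% (a _))<|c)));
 (let c:=(let c:=(b (0 :type_of% (a _))<|b (0 :type_of% (a _))<|b (1 :type_of% (a _))<|b (1 :type_of% (a _))<|b (0 :type_of% (a _))<|b (0 :type_of% (a _))<|
 c);
 (b (1 :type_of% (a _))<|b (1 :type_of% (a _))<|b (1 :type_of% (a _))<|b (1 :type_of% (a _))<|b (-3 :type_of% (a _))<|b (-3 :type_of% (a _))<|c));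
 (let c:=(b (-1 :type_of% (a _))<|b (-1 :type_of% (a _))<|b (-3 :type_of% (a _))<|b (-3 :type_of% (a _))<|b (0 :type_of% (a _))<|b (0 :type_of% (a _))<|c);
 (b (1 :type_of% (a _))<|b (1 :type_of% (a _))<|b (0 :type_of% (a _))<|b (0 :type_of% (a _))<|b (-1 :type_of% (a _))<|c))));
 (let c:=(let c:=(let c:=(b (1 :type_of% (a _))<|b (1 :type_of% (a _))<|b (1 :type_of% (a _))<|b (-11 :type_of% (a _))<|b (-3 :type_of% (a _))<|b (-3 :type_of% (a _))<|c);
 (b (0 :type_of% (a _))<|b (0 :type_of% (a _))<|b (0 :type_of% (a _))<|b (5 :type_of% (a _))<|b (5 :type_of% (a _))<|b (1 :type_of% (a _))<|c));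
 (let c:=(b (0 :type_of% (a _))<|b (0 :type_of% (a _))<|b (13 :type_of% (a _))<|b (13 :type_of% (a _))<|b (-3 :type_of% (a _))<|b (-3 :type_of% (a _))<|c);
 (b (-1 :type_of% (a _))<|b (-51 :type_of% (a _))<|b (-51 :type_of% (a _))<|
 b (-3 :type_of% (a _))<|b (-3 :type_of% (a _))<|c)));
 (let c:=(let c:=(b (-35 :type_of% (a _))<|b (-35 :type_of% (a _))<|b (45 :type_of% (a _))<|b (13 :type_of% (a _))<|b (-3 :type_of% (a _))<|b (13 :type_of% (a _))<|c);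
 (b (-147 :type_of% (a _))<|b (109 :type_of% (a _))<|b (109 :type_of% (a _))<|b (-51 :type_of% (a _))<|b (-51 :type_of% (a _))<|b (-3 :type_of% (a _))<|c));
 (let c:=(b (189 :type_of% (a _))<|b (189 :type_of% (a _))<|b (0 :type_of% (a _))<|b (45 :type_of% (a _))<|b (45 :type_of% (a _))<|b (-147 :type_of% (a _))<|c);
 (d (877149 :type_of% (a _))<|d (-9891 :type_of% (a _))<|d (-9891 :type_of% (a _))<|d (4189 :type_of% (a _))<|d (93 :type_of% (a _))<|c))))))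

/-- degree `947700` -/
def r39 : List ℤ := (beta% delta% lq2675025b5c fun a b d _ f _ _ _ _ _ _ _ _ _ _ _ _ _ _ _ _ _ _ _ _ _ _ =>
 (let c:=(let c:=(let c:=(let c:=(b (0 :type_of% (a _))<|b (0 :type_of% (a _))<|b (-1 :type_of% (a _))<|b (-1 :type_of% (a _))<|b (0 :type_of% (a _))<|b (0 :type_of% (a _))<|f);
 (b (0 :type_of% (a _))<|b (0 :type_of% (a _))<|b (0 :type_of% (a _))<|b (0 :type_of% (a _))<|b (0 :type_of% (a _))<|b (0 :type_of% (a _))<|c));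
 (let c:=(b (0 :type_of% (a _))<|
 b (0 :type_of% (a _))<|b (0 :type_of% (a _))<|b (1 :type_of% (a _))<|b (0 :type_of% (a _))<|b (0 :type_of% (a _))<|c);
 (b (0 :type_of% (a _))<|b (-1 :type_of% (a _))<|b (-1 :type_of% (a _))<|b (0 :type_of% (a _))<|b (0 :type_of% (a _))<|c)));
 (let c:=(let c:=(b (0 :type_of% (a _))<|b (0 :type_of% (a _))<|b (0 :type_of% (a _))<|b (0 :type_of% (a _))<|b (0 :type_of% (a _))<|b (0 :type_of% (a _))<|c);
 (b (0 :type_of% (a _))<|b (0 :type_of% (a _))<|b (0 :type_of% (a _))<|b (0 :type_of% (a _))<|b (0 :type_of% (a _))<|b (0 :type_of% (a _))<|c));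
 (let c:=(b (0 :type_of% (a _))<|b (0 :type_of% (a _))<|b (0 :type_of% (a _))<|b (0 :type_of% (a _))<|b (0 :type_of% (a _))<|b (0 :type_of% (a _))<|c);
 (b (-4 :type_of% (a _))<|b (4 :type_of% (a _))<|b (0 :type_of% (a _))<|b (0 :type_of% (a _))<|b (0 :type_of% (a _))<|c))));
 (let c:=(let c:=(let c:=(b (0 :type_of% (a _))<|b (0 :type_of% (a _))<|b (0 :type_of% (a _))<|b (-4 :type_of% (a _))<|b (4 :type_of% (a _))<|b (4 :type_of% (a _))<|c);
 (b (0 :type_of% (a _))<|b (-9 :type_of% (a _))<|b (-9 :type_of% (a _))<|b (-4 :type_of% (a _))<|b (-4 :type_of% (a _))<|b (0 :type_of% (a _))<|c));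
 (let c:=(b (0 :type_of% (a _))<|
 b (0 :type_of% (a _))<|b (0 :type_of% (a _))<|b (0 :type_of% (a _))<|b (0 :type_of% (a _))<|b (0 :type_of% (a _))<|c);
 (b (0 :type_of% (a _))<|b (0 :type_of% (a _))<|b (0 :type_of% (a _))<|b (0 :type_of% (a _))<|b (0 :type_of% (a _))<|c)));
 (let c:=(let c:=(b (36 :type_of% (a _))<|b (36 :type_of% (a _))<|b (-12 :type_of% (a _))<|b (20 :type_of% (a _))<|b (-12 :type_of% (a _))<|b (20 :type_of% (a _))<|c);
 (b (132 :type_of% (a _))<|b (180 :type_of% (a _))<|b (180 :type_of% (a _))<|b (36 :type_of% (a _))<|b (36 :type_of% (a _))<|b (20 :type_of% (a _))<|c));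
 (let c:=(b (0 :type_of% (a _))<|b (0 :type_of% (a _))<|b (0 :type_of% (a _))<|b (324 :type_of% (a _))<|b (324 :type_of% (a _))<|b (132 :type_of% (a _))<|c);
 (d (947700 :type_of% (a _))<|d (14580 :type_of% (a _))<|d (14580 :type_of% (a _))<|d (3060 :type_of% (a _))<|d (756 :type_of% (a _))<|c))))))

/-- degree `1082900` -/
def r40 : List ℤ := (beta% delta% lq2675025b5c fun a b d _ f _ _ _ _ _ _ _ _ _ _ _ _ _ _ _ _ _ _ _ _ _ _ =>
 (let c:=(let c:=(let c:=(let c:=(b (-1 :type_of% (a _))<|b (-1 :type_of% (a _))<|b (0 :type_of% (a _))<|b (0 :type_of% (a _))<|b (0 :type_of% (a _))<|b (0 :type_of% (a _))<|f);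
 (b (0 :type_of% (a _))<|b (0 :type_of% (a _))<|b (0 :type_of% (a _))<|b (0 :type_of% (a _))<|b (-1 :type_of% (a _))<|b (-1 :type_of% (a _))<|c));
 (let c:=(b (0 :type_of% (a _))<|b (0 :type_of% (a _))<|b (0 :type_of% (a _))<|b (0 :type_of% (a _))<|b (1 :type_of% (a _))<|b (1 :type_of% (a _))<|c);
 (b (0 :type_of% (a _))<|b (0 :type_of% (a _))<|b (0 :type_of% (a _))<|b (0 :type_of% (a _))<|b (0 :type_of% (a _))<|c)));
 (let c:=(let c:=(b (-2 :type_of% (a _))<|b (-2 :type_of% (a _))<|b (1 :type_of% (a _))<|b (1 :type_of% (a _))<|b (0 :type_of% (a _))<|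
 b (0 :type_of% (a _))<|c);
 (b (1 :type_of% (a _))<|b (1 :type_of% (a _))<|b (1 :type_of% (a _))<|b (1 :type_of% (a _))<|b (1 :type_of% (a _))<|b (1 :type_of% (a _))<|c));
 (let c:=(b (0 :type_of% (a _))<|b (0 :type_of% (a _))<|b (-7 :type_of% (a _))<|b (-7 :type_of% (a _))<|b (2 :type_of% (a _))<|b (2 :type_of% (a _))<|c);
 (b (0 :type_of% (a _))<|b (0 :type_of% (a _))<|b (-1 :type_of% (a _))<|b (-1 :type_of% (a _))<|b (0 :type_of% (a _))<|c))));
 (let c:=(let c:=(let c:=(b (-4 :type_of% (a _))<|b (-4 :type_of% (a _))<|b (-4 :type_of% (a _))<|b (4 :type_of% (a _))<|b (4 :type_of% (a _))<|b (4 :type_of% (a _))<|c);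
 (b (8 :type_of% (a _))<|b (0 :type_of% (a _))<|b (0 :type_of% (a _))<|b (4 :type_of% (a _))<|b (4 :type_of% (a _))<|b (-4 :type_of% (a _))<|c));
 (let c:=(b (4 :type_of% (a _))<|b (4 :type_of% (a _))<|b (-3 :type_of% (a _))<|b (-3 :type_of% (a _))<|b (5 :type_of% (a _))<|b (5 :type_of% (a _))<|c);
 (b (0 :type_of% (a _))<|b (-35 :type_of% (a _))<|
 b (-35 :type_of% (a _))<|b (-11 :type_of% (a _))<|b (-11 :type_of% (a _))<|c)));
 (let c:=(let c:=(b (4 :type_of% (a _))<|b (4 :type_of% (a _))<|b (36 :type_of% (a _))<|b (-28 :type_of% (a _))<|b (-12 :type_of% (a _))<|b (4 :type_of% (a _))<|c);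
 (b (-140 :type_of% (a _))<|b (100 :type_of% (a _))<|b (100 :type_of% (a _))<|b (52 :type_of% (a _))<|b (52 :type_of% (a _))<|b (20 :type_of% (a _))<|c));
 (let c:=(b (245 :type_of% (a _))<|b (245 :type_of% (a _))<|b (-16 :type_of% (a _))<|b (-268 :type_of% (a _))<|b (-268 :type_of% (a _))<|b (-140 :type_of% (a _))<|c);
 (d (1082900 :type_of% (a _))<|d (-10220 :type_of% (a _))<|d (-10220 :type_of% (a _))<|d (2580 :type_of% (a _))<|d (20 :type_of% (a _))<|c))))))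

/-- degree `1299480` -/
def r41 : List ℤ := (beta% delta% lq2675025b5c fun a b d _ f _ _ _ _ _ _ _ _ _ _ _ _ _ _ _ _ _ _ _ _ _ _ =>
 (let c:=(let c:=(let c:=(let c:=(b (-1 :type_of% (a _))<|b (1 :type_of% (a _))<|b (0 :type_of% (a _))<|b (0 :type_of% (a _))<|b (1 :type_of% (a _))<|b (0 :type_of% (a _))<|f);
 (b (-1 :type_of% (a _))<|b (-1 :type_of% (a _))<|b (0 :type_of% (a _))<|b (0 :type_of% (a _))<|b (-1 :type_of% (a _))<|b (1 :type_of% (a _))<|c));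
 (let c:=(b (0 :type_of% (a _))<|b (0 :type_of% (a _))<|b (0 :type_of% (a _))<|b (0 :type_of% (a _))<|b (0 :type_of% (a _))<|b (0 :type_of% (a _))<|c);
 (b (0 :type_of% (a _))<|b (0 :type_of% (a _))<|b (0 :type_of% (a _))<|b (-1 :type_of% (a _))<|b (2 :type_of% (a _))<|c)));
 (let c:=(let c:=(b (2 :type_of% (a _))<|b (-2 :type_of% (a _))<|b (-1 :type_of% (a _))<|b (1 :type_of% (a _))<|b (0 :type_of% (a _))<|b (0 :type_of% (a _))<|
 c);
 (b (3 :type_of% (a _))<|b (7 :type_of% (a _))<|b (1 :type_of% (a _))<|b (-3 :type_of% (a _))<|b (1 :type_of% (a _))<|b (-1 :type_of% (a _))<|c));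
 (let c:=(b (-3 :type_of% (a _))<|b (1 :type_of% (a _))<|b (-3 :type_of% (a _))<|b (-5 :type_of% (a _))<|b (-2 :type_of% (a _))<|b (-6 :type_of% (a _))<|c);
 (b (0 :type_of% (a _))<|b (0 :type_of% (a _))<|b (0 :type_of% (a _))<|b (0 :type_of% (a _))<|b (1 :type_of% (a _))<|c))));
 (let c:=(let c:=(let c:=(b (-4 :type_of% (a _))<|b (4 :type_of% (a _))<|b (-4 :type_of% (a _))<|b (0 :type_of% (a _))<|b (0 :type_of% (a _))<|b (0 :type_of% (a _))<|c);
 (b (0 :type_of% (a _))<|b (0 :type_of% (a _))<|b (0 :type_of% (a _))<|b (-8 :type_of% (a _))<|b (8 :type_of% (a _))<|b (4 :type_of% (a _))<|c));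
 (let c:=(b (12 :type_of% (a _))<|b (12 :type_of% (a _))<|b (-7 :type_of% (a _))<|b (-1 :type_of% (a _))<|b (-3 :type_of% (a _))<|b (3 :type_of% (a _))<|c);
 (b (5 :type_of% (a _))<|b (-15 :type_of% (a _))<|b (-9 :type_of% (a _))<|
 b (-3 :type_of% (a _))<|b (3 :type_of% (a _))<|c)));
 (let c:=(let c:=(b (16 :type_of% (a _))<|b (-16 :type_of% (a _))<|b (-24 :type_of% (a _))<|b (16 :type_of% (a _))<|b (0 :type_of% (a _))<|b (-8 :type_of% (a _))<|c);
 (b (280 :type_of% (a _))<|b (-176 :type_of% (a _))<|b (144 :type_of% (a _))<|b (-40 :type_of% (a _))<|b (-8 :type_of% (a _))<|b (24 :type_of% (a _))<|c));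
 (let c:=(b (357 :type_of% (a _))<|b (-21 :type_of% (a _))<|b (24 :type_of% (a _))<|b (-200 :type_of% (a _))<|b (408 :type_of% (a _))<|b (56 :type_of% (a _))<|c);
 (d (1299480 :type_of% (a _))<|d (19992 :type_of% (a _))<|d (-12264 :type_of% (a _))<|d (536 :type_of% (a _))<|d (-360 :type_of% (a _))<|c))))))

/-- degree `1299480` -/
def r42 : List ℤ := (beta% delta% lq2675025b5c fun a b d _ f _ _ _ _ _ _ _ _ _ _ _ _ _ _ _ _ _ _ _ _ _ _ =>
 (let c:=(let c:=(let c:=(let c:=(b (1 :type_of% (a _))<|b (-1 :type_of% (a _))<|b (0 :type_of% (a _))<|b (0 :type_of% (a _))<|b (0 :type_of% (a _))<|b (1 :type_of% (a _))<|f);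
 (b (-1 :type_of% (a _))<|b (-1 :type_of% (a _))<|b (0 :type_of% (a _))<|b (0 :type_of% (a _))<|b (1 :type_of% (a _))<|b (-1 :type_of% (a _))<|c));
 (let c:=(b (0 :type_of% (a _))<|b (0 :type_of% (a _))<|b (0 :type_of% (a _))<|b (0 :type_of% (a _))<|b (0 :type_of% (a _))<|b (0 :type_of% (a _))<|c);
 (b (0 :type_of% (a _))<|b (0 :type_of% (a _))<|b (0 :type_of% (a _))<|b (2 :type_of% (a _))<|b (-1 :type_of% (a _))<|c)));
 (let c:=(let c:=(b (-2 :type_of% (a _))<|b (2 :type_of% (a _))<|b (1 :type_of% (a _))<|b (-1 :type_of% (a _))<|b (0 :type_of% (a _))<|b (0 :type_of% (a _))<|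
 c);
 (b (-3 :type_of% (a _))<|b (1 :type_of% (a _))<|b (7 :type_of% (a _))<|b (3 :type_of% (a _))<|b (-1 :type_of% (a _))<|b (1 :type_of% (a _))<|c));
 (let c:=(b (1 :type_of% (a _))<|b (1 :type_of% (a _))<|b (-5 :type_of% (a _))<|b (-3 :type_of% (a _))<|b (-6 :type_of% (a _))<|b (-2 :type_of% (a _))<|c);
 (b (0 :type_of% (a _))<|b (0 :type_of% (a _))<|b (0 :type_of% (a _))<|b (0 :type_of% (a _))<|b (-3 :type_of% (a _))<|c))));
 (let c:=(let c:=(let c:=(b (4 :type_of% (a _))<|b (-4 :type_of% (a _))<|b (4 :type_of% (a _))<|b (0 :type_of% (a _))<|b (0 :type_of% (a _))<|b (0 :type_of% (a _))<|c);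
 (b (0 :type_of% (a _))<|b (0 :type_of% (a _))<|b (0 :type_of% (a _))<|b (-8 :type_of% (a _))<|b (8 :type_of% (a _))<|b (-4 :type_of% (a _))<|c));
 (let c:=(b (12 :type_of% (a _))<|b (12 :type_of% (a _))<|b (-1 :type_of% (a _))<|b (-7 :type_of% (a _))<|b (3 :type_of% (a _))<|b (-3 :type_of% (a _))<|c);
 (b (5 :type_of% (a _))<|b (-9 :type_of% (a _))<|b (-15 :type_of% (a _))<|
 b (3 :type_of% (a _))<|b (-3 :type_of% (a _))<|c)));
 (let c:=(let c:=(b (-16 :type_of% (a _))<|b (16 :type_of% (a _))<|b (-24 :type_of% (a _))<|b (16 :type_of% (a _))<|b (0 :type_of% (a _))<|b (-8 :type_of% (a _))<|c);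
 (b (56 :type_of% (a _))<|b (-176 :type_of% (a _))<|b (144 :type_of% (a _))<|b (-8 :type_of% (a _))<|b (-40 :type_of% (a _))<|b (24 :type_of% (a _))<|c));
 (let c:=(b (-21 :type_of% (a _))<|b (357 :type_of% (a _))<|b (24 :type_of% (a _))<|b (408 :type_of% (a _))<|b (-200 :type_of% (a _))<|b (280 :type_of% (a _))<|c);
 (d (1299480 :type_of% (a _))<|d (-12264 :type_of% (a _))<|d (19992 :type_of% (a _))<|d (536 :type_of% (a _))<|d (-360 :type_of% (a _))<|c))))))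

/-- degree `1342575` -/
def r43 : List ℤ := (beta% delta% lq2675025b5c fun a b d _ f _ _ _ _ _ _ _ _ _ _ _ _ _ _ _ _ _ _ _ _ _ _ =>
 (let c:=(let c:=(let c:=(let c:=(b (0 :type_of% (a _))<|b (0 :type_of% (a _))<|b (1 :type_of% (a _))<|b (-2 :type_of% (a _))<|b (0 :type_of% (a _))<|b (0 :type_of% (a _))<|f);
 (b (0 :type_of% (a _))<|b (0 :type_of% (a _))<|b (0 :type_of% (a _))<|b (-1 :type_of% (a _))<|b (1 :type_of% (a _))<|b (1 :type_of% (a _))<|c));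
 (let c:=(b (1 :type_of% (a _))<|b (1 :type_of% (a _))<|b (1 :type_of% (a _))<|b (0 :type_of% (a _))<|b (0 :type_of% (a _))<|b (0 :type_of% (a _))<|c);
 (b (0 :type_of% (a _))<|
 b (-1 :type_of% (a _))<|b (0 :type_of% (a _))<|b (0 :type_of% (a _))<|b (0 :type_of% (a _))<|c)));
 (let c:=(let c:=(b (0 :type_of% (a _))<|b (0 :type_of% (a _))<|b (1 :type_of% (a _))<|b (0 :type_of% (a _))<|b (0 :type_of% (a _))<|b (0 :type_of% (a _))<|c);
 (b (-3 :type_of% (a _))<|b (-3 :type_of% (a _))<|b (0 :type_of% (a _))<|b (0 :type_of% (a _))<|b (5 :type_of% (a _))<|b (0 :type_of% (a _))<|c));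
 (let c:=(b (0 :type_of% (a _))<|b (0 :type_of% (a _))<|b (-3 :type_of% (a _))<|b (0 :type_of% (a _))<|b (0 :type_of% (a _))<|b (0 :type_of% (a _))<|c);
 (b (-1 :type_of% (a _))<|b (-1 :type_of% (a _))<|b (0 :type_of% (a _))<|b (0 :type_of% (a _))<|b (0 :type_of% (a _))<|c))));
 (let c:=(let c:=(let c:=(b (3 :type_of% (a _))<|b (7 :type_of% (a _))<|b (7 :type_of% (a _))<|b (3 :type_of% (a _))<|b (-5 :type_of% (a _))<|b (3 :type_of% (a _))<|c);
 (b (0 :type_of% (a _))<|b (3 :type_of% (a _))<|b (-4 :type_of% (a _))<|b (-5 :type_of% (a _))<|b (-5 :type_of% (a _))<|b (3 :type_of% (a _))<|c));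
 (let c:=(b (0 :type_of% (a _))<|b (0 :type_of% (a _))<|b (-3 :type_of% (a _))<|b (0 :type_of% (a _))<|b (-3 :type_of% (a _))<|b (0 :type_of% (a _))<|c);
 (b (0 :type_of% (a _))<|b (45 :type_of% (a _))<|b (0 :type_of% (a _))<|
 b (-27 :type_of% (a _))<|b (0 :type_of% (a _))<|c)));
 (let c:=(let c:=(b (-9 :type_of% (a _))<|b (7 :type_of% (a _))<|b (15 :type_of% (a _))<|b (-25 :type_of% (a _))<|b (-9 :type_of% (a _))<|b (-1 :type_of% (a _))<|c);
 (b (-97 :type_of% (a _))<|b (-105 :type_of% (a _))<|b (-105 :type_of% (a _))<|b (-81 :type_of% (a _))<|b (63 :type_of% (a _))<|b (31 :type_of% (a _))<|c));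
 (let c:=(b (405 :type_of% (a _))<|b (0 :type_of% (a _))<|b (0 :type_of% (a _))<|b (-81 :type_of% (a _))<|b (-225 :type_of% (a _))<|b (495 :type_of% (a _))<|c);
 (d (1342575 :type_of% (a _))<|d (29295 :type_of% (a _))<|d (-5265 :type_of% (a _))<|d (2415 :type_of% (a _))<|d (-273 :type_of% (a _))<|c))))))

/-- degree `1342575` -/
def r44 : List ℤ := (beta% delta% lq2675025b5c fun a b d _ f _ _ _ _ _ _ _ _ _ _ _ _ _ _ _ _ _ _ _ _ _ _ =>
 (let c:=(let c:=(let c:=(let c:=(b (1 :type_of% (a _))<|b (1 :type_of% (a _))<|b (-2 :type_of% (a _))<|b (1 :type_of% (a _))<|b (0 :type_of% (a _))<|b (0 :type_of% (a _))<|f);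
 (b (0 :type_of% (a _))<|b (0 :type_of% (a _))<|b (-1 :type_of% (a _))<|b (0 :type_of% (a _))<|b (0 :type_of% (a _))<|b (0 :type_of% (a _))<|c));
 (let c:=(b (1 :type_of% (a _))<|b (1 :type_of% (a _))<|b (1 :type_of% (a _))<|b (0 :type_of% (a _))<|b (0 :type_of% (a _))<|b (0 :type_of% (a _))<|c);
 (b (0 :type_of% (a _))<|b (0 :type_of% (a _))<|
 b (-1 :type_of% (a _))<|b (0 :type_of% (a _))<|b (0 :type_of% (a _))<|c)));
 (let c:=(let c:=(b (0 :type_of% (a _))<|b (0 :type_of% (a _))<|b (0 :type_of% (a _))<|b (1 :type_of% (a _))<|b (0 :type_of% (a _))<|b (0 :type_of% (a _))<|c);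
 (b (0 :type_of% (a _))<|b (0 :type_of% (a _))<|b (-3 :type_of% (a _))<|b (-3 :type_of% (a _))<|b (0 :type_of% (a _))<|b (5 :type_of% (a _))<|c));
 (let c:=(b (0 :type_of% (a _))<|b (0 :type_of% (a _))<|b (0 :type_of% (a _))<|b (-3 :type_of% (a _))<|b (0 :type_of% (a _))<|b (0 :type_of% (a _))<|c);
 (b (-1 :type_of% (a _))<|b (-1 :type_of% (a _))<|b (0 :type_of% (a _))<|b (0 :type_of% (a _))<|b (0 :type_of% (a _))<|c))));
 (let c:=(let c:=(let c:=(b (7 :type_of% (a _))<|b (3 :type_of% (a _))<|b (3 :type_of% (a _))<|b (3 :type_of% (a _))<|b (3 :type_of% (a _))<|b (-5 :type_of% (a _))<|c);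
 (b (0 :type_of% (a _))<|b (-4 :type_of% (a _))<|b (3 :type_of% (a _))<|b (-5 :type_of% (a _))<|b (-5 :type_of% (a _))<|b (7 :type_of% (a _))<|c));
 (let c:=(b (0 :type_of% (a _))<|b (0 :type_of% (a _))<|b (0 :type_of% (a _))<|b (-3 :type_of% (a _))<|b (0 :type_of% (a _))<|b (-3 :type_of% (a _))<|c);
 (b (0 :type_of% (a _))<|b (0 :type_of% (a _))<|b (45 :type_of% (a _))<|b (0 :type_of% (a _))<|
 b (-27 :type_of% (a _))<|c)));
 (let c:=(let c:=(b (7 :type_of% (a _))<|b (-9 :type_of% (a _))<|b (15 :type_of% (a _))<|b (-25 :type_of% (a _))<|b (-9 :type_of% (a _))<|b (-1 :type_of% (a _))<|c);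
 (b (495 :type_of% (a _))<|b (-105 :type_of% (a _))<|b (-105 :type_of% (a _))<|b (63 :type_of% (a _))<|b (-81 :type_of% (a _))<|b (31 :type_of% (a _))<|c));
 (let c:=(b (0 :type_of% (a _))<|b (405 :type_of% (a _))<|b (0 :type_of% (a _))<|b (-225 :type_of% (a _))<|b (-81 :type_of% (a _))<|b (-97 :type_of% (a _))<|c);
 (d (1342575 :type_of% (a _))<|d (-5265 :type_of% (a _))<|d (29295 :type_of% (a _))<|d (2415 :type_of% (a _))<|d (-273 :type_of% (a _))<|c))))))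

/-- degree `1949220` -/
def r45 : List ℤ := (beta% delta% lq2675025b5c fun a b d _ f _ _ _ _ _ _ _ _ _ _ _ _ _ _ _ _ _ _ _ _ _ _ =>
 (let c:=(let c:=(let c:=(let c:=(b (1 :type_of% (a _))<|b (1 :type_of% (a _))<|b (0 :type_of% (a _))<|b (0 :type_of% (a _))<|b (0 :type_of% (a _))<|b (-1 :type_of% (a _))<|f);
 (b (1 :type_of% (a _))<|b (1 :type_of% (a _))<|b (0 :type_of% (a _))<|b (0 :type_of% (a _))<|b (-1 :type_of% (a _))<|b (-1 :type_of% (a _))<|c));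
 (let c:=(b (0 :type_of% (a _))<|b (0 :type_of% (a _))<|b (0 :type_of% (a _))<|b (0 :type_of% (a _))<|b (0 :type_of% (a _))<|b (0 :type_of% (a _))<|c);
 (b (0 :type_of% (a _))<|b (0 :type_of% (a _))<|b (0 :type_of% (a _))<|b (-2 :type_of% (a _))<|b (1 :type_of% (a _))<|c)));
 (let c:=(let c:=(b (0 :type_of% (a _))<|b (0 :type_of% (a _))<|b (1 :type_of% (a _))<|b (-1 :type_of% (a _))<|b (0 :type_of% (a _))<|b (0 :type_of% (a _))<|
 c);
 (b (-3 :type_of% (a _))<|b (-3 :type_of% (a _))<|b (3 :type_of% (a _))<|b (3 :type_of% (a _))<|b (-3 :type_of% (a _))<|b (3 :type_of% (a _))<|c));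
 (let c:=(b (-1 :type_of% (a _))<|b (-1 :type_of% (a _))<|b (-3 :type_of% (a _))<|b (3 :type_of% (a _))<|b (0 :type_of% (a _))<|b (0 :type_of% (a _))<|c);
 (b (0 :type_of% (a _))<|b (0 :type_of% (a _))<|b (0 :type_of% (a _))<|b (0 :type_of% (a _))<|b (3 :type_of% (a _))<|c))));
 (let c:=(let c:=(let c:=(b (4 :type_of% (a _))<|b (-4 :type_of% (a _))<|b (-4 :type_of% (a _))<|b (-4 :type_of% (a _))<|b (-4 :type_of% (a _))<|b (-4 :type_of% (a _))<|c);
 (b (4 :type_of% (a _))<|b (0 :type_of% (a _))<|b (0 :type_of% (a _))<|b (-4 :type_of% (a _))<|b (-4 :type_of% (a _))<|b (4 :type_of% (a _))<|c));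
 (let c:=(b (12 :type_of% (a _))<|b (12 :type_of% (a _))<|b (-7 :type_of% (a _))<|b (-1 :type_of% (a _))<|b (1 :type_of% (a _))<|b (7 :type_of% (a _))<|c);
 (b (-5 :type_of% (a _))<|b (9 :type_of% (a _))<|b (15 :type_of% (a _))<|b (9 :type_of% (a _))<|
 b (15 :type_of% (a _))<|c)));
 (let c:=(let c:=(b (-28 :type_of% (a _))<|b (4 :type_of% (a _))<|b (-12 :type_of% (a _))<|b (4 :type_of% (a _))<|b (-12 :type_of% (a _))<|b (-12 :type_of% (a _))<|c);
 (b (-252 :type_of% (a _))<|b (36 :type_of% (a _))<|b (36 :type_of% (a _))<|b (36 :type_of% (a _))<|b (-60 :type_of% (a _))<|b (-60 :type_of% (a _))<|c));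
 (let c:=(b (441 :type_of% (a _))<|b (63 :type_of% (a _))<|b (36 :type_of% (a _))<|b (36 :type_of% (a _))<|b (-252 :type_of% (a _))<|b (420 :type_of% (a _))<|c);
 (d (1949220 :type_of% (a _))<|d (35364 :type_of% (a _))<|d (3108 :type_of% (a _))<|d (2084 :type_of% (a _))<|d (292 :type_of% (a _))<|c))))))

/-- degree `1949220` -/
def r46 : List ℤ := (beta% delta% lq2675025b5c fun a b d _ f _ _ _ _ _ _ _ _ _ _ _ _ _ _ _ _ _ _ _ _ _ _ =>
 (let c:=(let c:=(let c:=(let c:=(b (-1 :type_of% (a _))<|b (-1 :type_of% (a _))<|b (0 :type_of% (a _))<|b (0 :type_of% (a _))<|b (-1 :type_of% (a _))<|b (0 :type_of% (a _))<|f);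
 (b (1 :type_of% (a _))<|b (1 :type_of% (a _))<|b (0 :type_of% (a _))<|b (0 :type_of% (a _))<|b (1 :type_of% (a _))<|b (1 :type_of% (a _))<|c));
 (let c:=(b (0 :type_of% (a _))<|b (0 :type_of% (a _))<|b (0 :type_of% (a _))<|b (0 :type_of% (a _))<|b (0 :type_of% (a _))<|b (0 :type_of% (a _))<|c);
 (b (0 :type_of% (a _))<|
 b (0 :type_of% (a _))<|b (0 :type_of% (a _))<|b (1 :type_of% (a _))<|b (-2 :type_of% (a _))<|c)));
 (let c:=(let c:=(b (0 :type_of% (a _))<|b (0 :type_of% (a _))<|b (-1 :type_of% (a _))<|b (1 :type_of% (a _))<|b (0 :type_of% (a _))<|b (0 :type_of% (a _))<|c);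
 (b (3 :type_of% (a _))<|b (3 :type_of% (a _))<|b (-3 :type_of% (a _))<|b (-3 :type_of% (a _))<|b (3 :type_of% (a _))<|b (-3 :type_of% (a _))<|c));
 (let c:=(b (3 :type_of% (a _))<|b (-1 :type_of% (a _))<|b (3 :type_of% (a _))<|b (-3 :type_of% (a _))<|b (0 :type_of% (a _))<|b (0 :type_of% (a _))<|c);
 (b (0 :type_of% (a _))<|b (0 :type_of% (a _))<|b (0 :type_of% (a _))<|b (0 :type_of% (a _))<|b (-1 :type_of% (a _))<|c))));
 (let c:=(let c:=(let c:=(b (-4 :type_of% (a _))<|b (4 :type_of% (a _))<|b (4 :type_of% (a _))<|b (-4 :type_of% (a _))<|b (-4 :type_of% (a _))<|b (-4 :type_of% (a _))<|c);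
 (b (4 :type_of% (a _))<|b (0 :type_of% (a _))<|b (0 :type_of% (a _))<|b (-4 :type_of% (a _))<|b (-4 :type_of% (a _))<|b (-4 :type_of% (a _))<|c));
 (let c:=(b (12 :type_of% (a _))<|b (12 :type_of% (a _))<|b (-1 :type_of% (a _))<|b (-7 :type_of% (a _))<|b (7 :type_of% (a _))<|b (1 :type_of% (a _))<|c);
 (b (-5 :type_of% (a _))<|b (15 :type_of% (a _))<|b (9 :type_of% (a _))<|b (15 :type_of% (a _))<|
 b (9 :type_of% (a _))<|c)));
 (let c:=(let c:=(b (4 :type_of% (a _))<|b (-28 :type_of% (a _))<|b (-12 :type_of% (a _))<|b (4 :type_of% (a _))<|b (-12 :type_of% (a _))<|b (-12 :type_of% (a _))<|c);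
 (b (420 :type_of% (a _))<|b (36 :type_of% (a _))<|b (36 :type_of% (a _))<|b (-60 :type_of% (a _))<|b (36 :type_of% (a _))<|b (-60 :type_of% (a _))<|c));
 (let c:=(b (63 :type_of% (a _))<|b (441 :type_of% (a _))<|b (36 :type_of% (a _))<|b (-252 :type_of% (a _))<|b (36 :type_of% (a _))<|b (-252 :type_of% (a _))<|c);
 (d (1949220 :type_of% (a _))<|d (3108 :type_of% (a _))<|d (35364 :type_of% (a _))<|d (2084 :type_of% (a _))<|d (292 :type_of% (a _))<|c))))))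

/-- degree `2165800` -/
def r47 : List ℤ := (beta% delta% lq2675025b5c fun a b d _ f _ _ _ _ _ _ _ _ _ _ _ _ _ _ _ _ _ _ _ _ _ _ =>
 (let c:=(let c:=(let c:=(let c:=(b (-1 :type_of% (a _))<|b (-1 :type_of% (a _))<|b (0 :type_of% (a _))<|b (0 :type_of% (a _))<|b (0 :type_of% (a _))<|b (0 :type_of% (a _))<|f);
 (b (0 :type_of% (a _))<|b (0 :type_of% (a _))<|b (0 :type_of% (a _))<|b (0 :type_of% (a _))<|b (0 :type_of% (a _))<|b (0 :type_of% (a _))<|c));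
 (let c:=(b (0 :type_of% (a _))<|b (0 :type_of% (a _))<|b (0 :type_of% (a _))<|b (0 :type_of% (a _))<|b (0 :type_of% (a _))<|b (1 :type_of% (a _))<|c);
 (b (0 :type_of% (a _))<|b (0 :type_of% (a _))<|b (0 :type_of% (a _))<|b (0 :type_of% (a _))<|b (0 :type_of% (a _))<|c)));
 (let c:=(let c:=(b (0 :type_of% (a _))<|b (2 :type_of% (a _))<|b (-2 :type_of% (a _))<|b (-1 :type_of% (a _))<|b (0 :type_of% (a _))<|
 b (0 :type_of% (a _))<|c);
 (b (2 :type_of% (a _))<|b (2 :type_of% (a _))<|b (-1 :type_of% (a _))<|b (-1 :type_of% (a _))<|b (-2 :type_of% (a _))<|b (-1 :type_of% (a _))<|c));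
 (let c:=(b (0 :type_of% (a _))<|b (0 :type_of% (a _))<|b (-2 :type_of% (a _))<|b (-1 :type_of% (a _))<|b (8 :type_of% (a _))<|b (-2 :type_of% (a _))<|c);
 (b (0 :type_of% (a _))<|b (0 :type_of% (a _))<|b (-2 :type_of% (a _))<|b (1 :type_of% (a _))<|b (0 :type_of% (a _))<|c))));
 (let c:=(let c:=(let c:=(b (8 :type_of% (a _))<|b (0 :type_of% (a _))<|b (0 :type_of% (a _))<|b (0 :type_of% (a _))<|b (0 :type_of% (a _))<|b (0 :type_of% (a _))<|c);
 (b (2 :type_of% (a _))<|b (0 :type_of% (a _))<|b (0 :type_of% (a _))<|b (0 :type_of% (a _))<|b (0 :type_of% (a _))<|b (8 :type_of% (a _))<|c));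
 (let c:=(b (10 :type_of% (a _))<|b (-18 :type_of% (a _))<|b (-6 :type_of% (a _))<|b (15 :type_of% (a _))<|b (2 :type_of% (a _))<|b (-1 :type_of% (a _))<|c);
 (b (0 :type_of% (a _))<|b (10 :type_of% (a _))<|b (15 :type_of% (a _))<|
 b (-6 :type_of% (a _))<|b (-17 :type_of% (a _))<|c)));
 (let c:=(let c:=(b (-40 :type_of% (a _))<|b (-8 :type_of% (a _))<|b (-24 :type_of% (a _))<|b (-8 :type_of% (a _))<|b (24 :type_of% (a _))<|b (8 :type_of% (a _))<|c);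
 (b (-56 :type_of% (a _))<|b (-40 :type_of% (a _))<|b (-40 :type_of% (a _))<|b (-24 :type_of% (a _))<|b (8 :type_of% (a _))<|b (8 :type_of% (a _))<|c));
 (let c:=(b (490 :type_of% (a _))<|b (175 :type_of% (a _))<|b (22 :type_of% (a _))<|b (872 :type_of% (a _))<|b (-56 :type_of% (a _))<|b (-280 :type_of% (a _))<|c);
 (d (2165800 :type_of% (a _))<|d (15400 :type_of% (a _))<|d (-2520 :type_of% (a _))<|d (-2520 :type_of% (a _))<|d (296 :type_of% (a _))<|c))))))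

/-- degree `2165800` -/
def r48 : List ℤ := (beta% delta% lq2675025b5c fun a b d _ f _ _ _ _ _ _ _ _ _ _ _ _ _ _ _ _ _ _ _ _ _ _ =>
 (let c:=(let c:=(let c:=(let c:=(b (0 :type_of% (a _))<|b (0 :type_of% (a _))<|b (0 :type_of% (a _))<|b (0 :type_of% (a _))<|b (0 :type_of% (a _))<|b (0 :type_of% (a _))<|f);
 (b (0 :type_of% (a _))<|b (0 :type_of% (a _))<|b (0 :type_of% (a _))<|b (0 :type_of% (a _))<|b (-1 :type_of% (a _))<|b (-1 :type_of% (a _))<|c));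
 (let c:=(b (0 :type_of% (a _))<|b (0 :type_of% (a _))<|b (0 :type_of% (a _))<|b (0 :type_of% (a _))<|b (1 :type_of% (a _))<|b (0 :type_of% (a _))<|c);
 (b (0 :type_of% (a _))<|b (0 :type_of% (a _))<|b (0 :type_of% (a _))<|b (0 :type_of% (a _))<|b (0 :type_of% (a _))<|c)));
 (let c:=(let c:=(b (2 :type_of% (a _))<|b (0 :type_of% (a _))<|b (-1 :type_of% (a _))<|b (-2 :type_of% (a _))<|b (0 :type_of% (a _))<|
 b (0 :type_of% (a _))<|c);
 (b (-1 :type_of% (a _))<|b (-1 :type_of% (a _))<|b (2 :type_of% (a _))<|b (2 :type_of% (a _))<|b (-1 :type_of% (a _))<|b (-2 :type_of% (a _))<|c));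
 (let c:=(b (0 :type_of% (a _))<|b (0 :type_of% (a _))<|b (-1 :type_of% (a _))<|b (-2 :type_of% (a _))<|b (-2 :type_of% (a _))<|b (8 :type_of% (a _))<|c);
 (b (0 :type_of% (a _))<|b (0 :type_of% (a _))<|b (1 :type_of% (a _))<|b (-2 :type_of% (a _))<|b (0 :type_of% (a _))<|c))));
 (let c:=(let c:=(let c:=(b (0 :type_of% (a _))<|b (8 :type_of% (a _))<|b (8 :type_of% (a _))<|b (0 :type_of% (a _))<|b (0 :type_of% (a _))<|b (0 :type_of% (a _))<|c);
 (b (2 :type_of% (a _))<|b (0 :type_of% (a _))<|b (0 :type_of% (a _))<|b (0 :type_of% (a _))<|b (0 :type_of% (a _))<|b (0 :type_of% (a _))<|c));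
 (let c:=(b (-18 :type_of% (a _))<|b (10 :type_of% (a _))<|b (15 :type_of% (a _))<|b (-6 :type_of% (a _))<|b (-1 :type_of% (a _))<|b (2 :type_of% (a _))<|c);
 (b (0 :type_of% (a _))<|b (15 :type_of% (a _))<|b (10 :type_of% (a _))<|
 b (-17 :type_of% (a _))<|b (-6 :type_of% (a _))<|c)));
 (let c:=(let c:=(b (-8 :type_of% (a _))<|b (-40 :type_of% (a _))<|b (-24 :type_of% (a _))<|b (-8 :type_of% (a _))<|b (24 :type_of% (a _))<|b (8 :type_of% (a _))<|c);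
 (b (-280 :type_of% (a _))<|b (-40 :type_of% (a _))<|b (-40 :type_of% (a _))<|b (8 :type_of% (a _))<|b (-24 :type_of% (a _))<|b (8 :type_of% (a _))<|c));
 (let c:=(b (175 :type_of% (a _))<|b (490 :type_of% (a _))<|b (22 :type_of% (a _))<|b (-56 :type_of% (a _))<|b (872 :type_of% (a _))<|b (-56 :type_of% (a _))<|c);
 (d (2165800 :type_of% (a _))<|d (-2520 :type_of% (a _))<|d (15400 :type_of% (a _))<|d (-2520 :type_of% (a _))<|d (296 :type_of% (a _))<|c))))))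

/-- degree `2784600` -/
def r49 : List ℤ := (beta% delta% lq2675025b5c fun a b d _ f _ _ _ _ _ _ _ _ _ _ _ _ _ _ _ _ _ _ _ _ _ _ =>
 (let c:=(let c:=(let c:=(let c:=(b (-1 :type_of% (a _))<|b (1 :type_of% (a _))<|b (-1 :type_of% (a _))<|b (0 :type_of% (a _))<|b (0 :type_of% (a _))<|b (0 :type_of% (a _))<|f);
 (b (0 :type_of% (a _))<|b (0 :type_of% (a _))<|b (1 :type_of% (a _))<|b (0 :type_of% (a _))<|b (-1 :type_of% (a _))<|b (1 :type_of% (a _))<|c));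
 (let c:=(b (0 :type_of% (a _))<|b (0 :type_of% (a _))<|b (0 :type_of% (a _))<|b (0 :type_of% (a _))<|b (0 :type_of% (a _))<|b (0 :type_of% (a _))<|c);
 (b (0 :type_of% (a _))<|b (-1 :type_of% (a _))<|b (0 :type_of% (a _))<|b (0 :type_of% (a _))<|b (0 :type_of% (a _))<|c)));
 (let c:=(let c:=(b (-2 :type_of% (a _))<|b (0 :type_of% (a _))<|b (3 :type_of% (a _))<|b (-1 :type_of% (a _))<|b (0 :type_of% (a _))<|b (0 :type_of% (a _))<|
 c);
 (b (3 :type_of% (a _))<|b (-1 :type_of% (a _))<|b (-1 :type_of% (a _))<|b (3 :type_of% (a _))<|b (1 :type_of% (a _))<|b (1 :type_of% (a _))<|c));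
 (let c:=(b (0 :type_of% (a _))<|b (0 :type_of% (a _))<|b (-3 :type_of% (a _))<|b (-3 :type_of% (a _))<|b (-6 :type_of% (a _))<|b (0 :type_of% (a _))<|c);
 (b (0 :type_of% (a _))<|b (0 :type_of% (a _))<|b (0 :type_of% (a _))<|b (0 :type_of% (a _))<|b (0 :type_of% (a _))<|c))));
 (let c:=(let c:=(let c:=(b (-4 :type_of% (a _))<|b (4 :type_of% (a _))<|b (-4 :type_of% (a _))<|b (0 :type_of% (a _))<|b (0 :type_of% (a _))<|b (0 :type_of% (a _))<|c);
 (b (2 :type_of% (a _))<|b (7 :type_of% (a _))<|b (0 :type_of% (a _))<|b (8 :type_of% (a _))<|b (-8 :type_of% (a _))<|b (4 :type_of% (a _))<|c));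
 (let c:=(b (6 :type_of% (a _))<|b (-6 :type_of% (a _))<|b (-7 :type_of% (a _))<|b (5 :type_of% (a _))<|b (5 :type_of% (a _))<|b (-7 :type_of% (a _))<|c);
 (b (0 :type_of% (a _))<|b (-15 :type_of% (a _))<|
 b (45 :type_of% (a _))<|b (-3 :type_of% (a _))<|b (9 :type_of% (a _))<|c)));
 (let c:=(let c:=(b (-16 :type_of% (a _))<|b (-48 :type_of% (a _))<|b (-24 :type_of% (a _))<|b (16 :type_of% (a _))<|b (0 :type_of% (a _))<|b (-8 :type_of% (a _))<|c);
 (b (-8 :type_of% (a _))<|b (80 :type_of% (a _))<|b (-240 :type_of% (a _))<|b (-8 :type_of% (a _))<|b (24 :type_of% (a _))<|b (24 :type_of% (a _))<|c));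
 (let c:=(b (-315 :type_of% (a _))<|b (225 :type_of% (a _))<|b (-18 :type_of% (a _))<|b (408 :type_of% (a _))<|b (504 :type_of% (a _))<|b (280 :type_of% (a _))<|c);
 (d (2784600 :type_of% (a _))<|d (-10920 :type_of% (a _))<|d (-18600 :type_of% (a _))<|d (1880 :type_of% (a _))<|d (-40 :type_of% (a _))<|c))))))

/-- degree `2784600` -/
def r50 : List ℤ := (beta% delta% lq2675025b5c fun a b d _ f _ _ _ _ _ _ _ _ _ _ _ _ _ _ _ _ _ _ _ _ _ _ =>
 (let c:=(let c:=(let c:=(let c:=(b (1 :type_of% (a _))<|b (-1 :type_of% (a _))<|b (0 :type_of% (a _))<|b (-1 :type_of% (a _))<|b (0 :type_of% (a _))<|b (0 :type_of% (a _))<|f);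
 (b (0 :type_of% (a _))<|b (0 :type_of% (a _))<|b (0 :type_of% (a _))<|b (1 :type_of% (a _))<|b (1 :type_of% (a _))<|b (-1 :type_of% (a _))<|c));
 (let c:=(b (0 :type_of% (a _))<|b (0 :type_of% (a _))<|b (0 :type_of% (a _))<|b (0 :type_of% (a _))<|b (0 :type_of% (a _))<|b (0 :type_of% (a _))<|c);
 (b (0 :type_of% (a _))<|b (0 :type_of% (a _))<|b (-1 :type_of% (a _))<|b (0 :type_of% (a _))<|b (0 :type_of% (a _))<|c)));
 (let c:=(let c:=(b (0 :type_of% (a _))<|b (-2 :type_of% (a _))<|b (-1 :type_of% (a _))<|b (3 :type_of% (a _))<|b (0 :type_of% (a _))<|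
 b (0 :type_of% (a _))<|c);
 (b (3 :type_of% (a _))<|b (-1 :type_of% (a _))<|b (-1 :type_of% (a _))<|b (3 :type_of% (a _))<|b (1 :type_of% (a _))<|b (1 :type_of% (a _))<|c));
 (let c:=(b (0 :type_of% (a _))<|b (0 :type_of% (a _))<|b (-3 :type_of% (a _))<|b (-3 :type_of% (a _))<|b (0 :type_of% (a _))<|b (-6 :type_of% (a _))<|c);
 (b (0 :type_of% (a _))<|b (0 :type_of% (a _))<|b (0 :type_of% (a _))<|b (0 :type_of% (a _))<|b (0 :type_of% (a _))<|c))));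
 (let c:=(let c:=(let c:=(b (4 :type_of% (a _))<|b (-4 :type_of% (a _))<|b (4 :type_of% (a _))<|b (0 :type_of% (a _))<|b (0 :type_of% (a _))<|b (0 :type_of% (a _))<|c);
 (b (2 :type_of% (a _))<|b (0 :type_of% (a _))<|b (7 :type_of% (a _))<|b (8 :type_of% (a _))<|b (-8 :type_of% (a _))<|b (-4 :type_of% (a _))<|c));
 (let c:=(b (-6 :type_of% (a _))<|b (6 :type_of% (a _))<|b (5 :type_of% (a _))<|b (-7 :type_of% (a _))<|b (-7 :type_of% (a _))<|b (5 :type_of% (a _))<|c);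
 (b (0 :type_of% (a _))<|b (45 :type_of% (a _))<|
 b (-15 :type_of% (a _))<|b (9 :type_of% (a _))<|b (-3 :type_of% (a _))<|c)));
 (let c:=(let c:=(b (-48 :type_of% (a _))<|b (-16 :type_of% (a _))<|b (-24 :type_of% (a _))<|b (16 :type_of% (a _))<|b (0 :type_of% (a _))<|b (-8 :type_of% (a _))<|c);
 (b (280 :type_of% (a _))<|b (80 :type_of% (a _))<|b (-240 :type_of% (a _))<|b (24 :type_of% (a _))<|b (-8 :type_of% (a _))<|b (24 :type_of% (a _))<|c));
 (let c:=(b (225 :type_of% (a _))<|b (-315 :type_of% (a _))<|b (-18 :type_of% (a _))<|b (504 :type_of% (a _))<|b (408 :type_of% (a _))<|b (-8 :type_of% (a _))<|c);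
 (d (2784600 :type_of% (a _))<|d (-18600 :type_of% (a _))<|d (-10920 :type_of% (a _))<|d (1880 :type_of% (a _))<|d (-40 :type_of% (a _))<|c))))))

/-- degree `2828800` -/
def r51 : List ℤ := (beta% delta% lq2675025b5c fun a b d _ f _ _ _ _ _ _ _ _ _ _ _ _ _ _ _ _ _ _ _ _ _ _ =>
 (let c:=(let c:=(let c:=(let c:=(b (0 :type_of% (a _))<|b (0 :type_of% (a _))<|b (0 :type_of% (a _))<|b (1 :type_of% (a _))<|b (0 :type_of% (a _))<|b (0 :type_of% (a _))<|f);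
 (b (0 :type_of% (a _))<|b (0 :type_of% (a _))<|b (-1 :type_of% (a _))<|b (0 :type_of% (a _))<|b (0 :type_of% (a _))<|b (0 :type_of% (a _))<|c));
 (let c:=(b (0 :type_of% (a _))<|b (0 :type_of% (a _))<|b (0 :type_of% (a _))<|
 b (0 :type_of% (a _))<|b (1 :type_of% (a _))<|b (-1 :type_of% (a _))<|c);
 (b (0 :type_of% (a _))<|b (-2 :type_of% (a _))<|b (1 :type_of% (a _))<|b (0 :type_of% (a _))<|b (0 :type_of% (a _))<|c)));
 (let c:=(let c:=(b (0 :type_of% (a _))<|b (0 :type_of% (a _))<|b (0 :type_of% (a _))<|b (0 :type_of% (a _))<|b (0 :type_of% (a _))<|b (0 :type_of% (a _))<|c);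
 (b (0 :type_of% (a _))<|b (0 :type_of% (a _))<|b (0 :type_of% (a _))<|b (0 :type_of% (a _))<|b (0 :type_of% (a _))<|b (-4 :type_of% (a _))<|c));
 (let c:=(b (0 :type_of% (a _))<|b (0 :type_of% (a _))<|b (0 :type_of% (a _))<|b (-4 :type_of% (a _))<|b (8 :type_of% (a _))<|b (0 :type_of% (a _))<|c);
 (b (0 :type_of% (a _))<|b (0 :type_of% (a _))<|b (1 :type_of% (a _))<|b (1 :type_of% (a _))<|b (0 :type_of% (a _))<|c))));
 (let c:=(let c:=(let c:=(b (0 :type_of% (a _))<|b (0 :type_of% (a _))<|b (0 :type_of% (a _))<|b (0 :type_of% (a _))<|b (0 :type_of% (a _))<|b (0 :type_of% (a _))<|c);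
 (b (-4 :type_of% (a _))<|b (2 :type_of% (a _))<|b (9 :type_of% (a _))<|b (0 :type_of% (a _))<|b (0 :type_of% (a _))<|b (0 :type_of% (a _))<|c));
 (let c:=(b (-4 :type_of% (a _))<|b (4 :type_of% (a _))<|b (-8 :type_of% (a _))<|
 b (-20 :type_of% (a _))<|b (8 :type_of% (a _))<|b (-4 :type_of% (a _))<|c);
 (b (0 :type_of% (a _))<|b (-40 :type_of% (a _))<|b (-20 :type_of% (a _))<|b (-8 :type_of% (a _))<|b (-4 :type_of% (a _))<|c)));
 (let c:=(let c:=(b (0 :type_of% (a _))<|b (0 :type_of% (a _))<|b (0 :type_of% (a _))<|b (0 :type_of% (a _))<|b (0 :type_of% (a _))<|b (0 :type_of% (a _))<|c);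
 (b (0 :type_of% (a _))<|b (0 :type_of% (a _))<|b (0 :type_of% (a _))<|b (0 :type_of% (a _))<|b (0 :type_of% (a _))<|b (0 :type_of% (a _))<|c));
 (let c:=(b (280 :type_of% (a _))<|b (-260 :type_of% (a _))<|b (-44 :type_of% (a _))<|b (512 :type_of% (a _))<|b (0 :type_of% (a _))<|b (512 :type_of% (a _))<|c);
 (d (2828800 :type_of% (a _))<|d (43520 :type_of% (a _))<|d (2560 :type_of% (a _))<|d (2560 :type_of% (a _))<|d (512 :type_of% (a _))<|c))))))

/-- degree `2828800` -/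
def r52 : List ℤ := (beta% delta% lq2675025b5c fun a b d _ f _ _ _ _ _ _ _ _ _ _ _ _ _ _ _ _ _ _ _ _ _ _ =>
 (let c:=(let c:=(let c:=(let c:=(b (0 :type_of% (a _))<|b (0 :type_of% (a _))<|b (1 :type_of% (a _))<|b (0 :type_of% (a _))<|b (0 :type_of% (a _))<|b (0 :type_of% (a _))<|f);
 (b (0 :type_of% (a _))<|b (0 :type_of% (a _))<|b (0 :type_of% (a _))<|b (-1 :type_of% (a _))<|b (0 :type_of% (a _))<|b (0 :type_of% (a _))<|c));
 (let c:=(b (0 :type_of% (a _))<|b (0 :type_of% (a _))<|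
 b (0 :type_of% (a _))<|b (0 :type_of% (a _))<|b (-1 :type_of% (a _))<|b (1 :type_of% (a _))<|c);
 (b (0 :type_of% (a _))<|b (1 :type_of% (a _))<|b (-2 :type_of% (a _))<|b (0 :type_of% (a _))<|b (0 :type_of% (a _))<|c)));
 (let c:=(let c:=(b (0 :type_of% (a _))<|b (0 :type_of% (a _))<|b (0 :type_of% (a _))<|b (0 :type_of% (a _))<|b (0 :type_of% (a _))<|b (0 :type_of% (a _))<|c);
 (b (0 :type_of% (a _))<|b (0 :type_of% (a _))<|b (0 :type_of% (a _))<|b (0 :type_of% (a _))<|b (-4 :type_of% (a _))<|b (0 :type_of% (a _))<|c));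
 (let c:=(b (0 :type_of% (a _))<|b (0 :type_of% (a _))<|b (-4 :type_of% (a _))<|b (0 :type_of% (a _))<|b (0 :type_of% (a _))<|b (8 :type_of% (a _))<|c);
 (b (0 :type_of% (a _))<|b (0 :type_of% (a _))<|b (1 :type_of% (a _))<|b (1 :type_of% (a _))<|b (0 :type_of% (a _))<|c))));
 (let c:=(let c:=(let c:=(b (0 :type_of% (a _))<|b (0 :type_of% (a _))<|b (0 :type_of% (a _))<|b (0 :type_of% (a _))<|b (0 :type_of% (a _))<|b (0 :type_of% (a _))<|c);
 (b (-4 :type_of% (a _))<|b (9 :type_of% (a _))<|b (2 :type_of% (a _))<|b (0 :type_of% (a _))<|b (0 :type_of% (a _))<|b (0 :type_of% (a _))<|c));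
 (let c:=(b (4 :type_of% (a _))<|b (-4 :type_of% (a _))<|
 b (-20 :type_of% (a _))<|b (-8 :type_of% (a _))<|b (-4 :type_of% (a _))<|b (8 :type_of% (a _))<|c);
 (b (0 :type_of% (a _))<|b (-20 :type_of% (a _))<|b (-40 :type_of% (a _))<|b (-4 :type_of% (a _))<|b (-8 :type_of% (a _))<|c)));
 (let c:=(let c:=(b (0 :type_of% (a _))<|b (0 :type_of% (a _))<|b (0 :type_of% (a _))<|b (0 :type_of% (a _))<|b (0 :type_of% (a _))<|b (0 :type_of% (a _))<|c);
 (b (512 :type_of% (a _))<|b (0 :type_of% (a _))<|b (0 :type_of% (a _))<|b (0 :type_of% (a _))<|b (0 :type_of% (a _))<|b (0 :type_of% (a _))<|c));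
 (let c:=(b (-260 :type_of% (a _))<|b (280 :type_of% (a _))<|b (-44 :type_of% (a _))<|b (0 :type_of% (a _))<|b (512 :type_of% (a _))<|b (0 :type_of% (a _))<|c);
 (d (2828800 :type_of% (a _))<|d (2560 :type_of% (a _))<|d (43520 :type_of% (a _))<|d (2560 :type_of% (a _))<|d (512 :type_of% (a _))<|c))))))

/-- degree `3411968` -/
def r53 : List ℤ := (beta% delta% lq2675025b5c fun a b d _ f _ _ _ _ _ _ _ _ _ _ _ _ _ _ _ _ _ _ _ _ _ _ =>
 (let c:=(let c:=(let c:=(let c:=(b (0 :type_of% (a _))<|b (0 :type_of% (a _))<|b (0 :type_of% (a _))<|b (0 :type_of% (a _))<|b (0 :type_of% (a _))<|b (0 :type_of% (a _))<|f);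
 (b (-1 :type_of% (a _))<|b (1 :type_of% (a _))<|b (0 :type_of% (a _))<|b (0 :type_of% (a _))<|b (0 :type_of% (a _))<|b (0 :type_of% (a _))<|c));
 (let c:=(b (0 :type_of% (a _))<|b (0 :type_of% (a _))<|b (0 :type_of% (a _))<|
 b (0 :type_of% (a _))<|b (-1 :type_of% (a _))<|b (-1 :type_of% (a _))<|c);
 (b (1 :type_of% (a _))<|b (0 :type_of% (a _))<|b (0 :type_of% (a _))<|b (2 :type_of% (a _))<|b (2 :type_of% (a _))<|c)));
 (let c:=(let c:=(b (0 :type_of% (a _))<|b (0 :type_of% (a _))<|b (0 :type_of% (a _))<|b (0 :type_of% (a _))<|b (0 :type_of% (a _))<|b (0 :type_of% (a _))<|c);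
 (b (-4 :type_of% (a _))<|b (4 :type_of% (a _))<|b (4 :type_of% (a _))<|b (-4 :type_of% (a _))<|b (0 :type_of% (a _))<|b (0 :type_of% (a _))<|c));
 (let c:=(b (3 :type_of% (a _))<|b (1 :type_of% (a _))<|b (0 :type_of% (a _))<|b (0 :type_of% (a _))<|b (0 :type_of% (a _))<|b (0 :type_of% (a _))<|c);
 (b (0 :type_of% (a _))<|b (0 :type_of% (a _))<|b (-1 :type_of% (a _))<|b (-1 :type_of% (a _))<|b (3 :type_of% (a _))<|c))));
 (let c:=(let c:=(let c:=(b (0 :type_of% (a _))<|b (0 :type_of% (a _))<|b (0 :type_of% (a _))<|b (0 :type_of% (a _))<|b (0 :type_of% (a _))<|b (0 :type_of% (a _))<|c);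
 (b (0 :type_of% (a _))<|b (0 :type_of% (a _))<|b (0 :type_of% (a _))<|b (0 :type_of% (a _))<|b (0 :type_of% (a _))<|b (0 :type_of% (a _))<|c));
 (let c:=(b (-16 :type_of% (a _))<|b (-16 :type_of% (a _))<|
 b (-8 :type_of% (a _))<|b (-8 :type_of% (a _))<|b (0 :type_of% (a _))<|b (0 :type_of% (a _))<|c);
 (b (-7 :type_of% (a _))<|b (-40 :type_of% (a _))<|b (-40 :type_of% (a _))<|b (8 :type_of% (a _))<|b (8 :type_of% (a _))<|c)));
 (let c:=(let c:=(b (0 :type_of% (a _))<|b (0 :type_of% (a _))<|b (0 :type_of% (a _))<|b (0 :type_of% (a _))<|b (0 :type_of% (a _))<|b (0 :type_of% (a _))<|c);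
 (b (0 :type_of% (a _))<|b (256 :type_of% (a _))<|b (-256 :type_of% (a _))<|b (0 :type_of% (a _))<|b (0 :type_of% (a _))<|b (0 :type_of% (a _))<|c));
 (let c:=(b (392 :type_of% (a _))<|b (392 :type_of% (a _))<|b (32 :type_of% (a _))<|b (0 :type_of% (a _))<|b (0 :type_of% (a _))<|b (0 :type_of% (a _))<|c);
 (d (3411968 :type_of% (a _))<|d (-28672 :type_of% (a _))<|d (-28672 :type_of% (a _))<|d (4096 :type_of% (a _))<|d (0 :type_of% (a _))<|c))))))

/-- degree `3898440` -/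
def r54 : List ℤ := (beta% delta% lq2675025b5c fun a b d _ f _ _ _ _ _ _ _ _ _ _ _ _ _ _ _ _ _ _ _ _ _ _ =>
 (let c:=(let c:=(let c:=(let c:=(b (0 :type_of% (a _))<|b (0 :type_of% (a _))<|b (0 :type_of% (a _))<|b (0 :type_of% (a _))<|b (-1 :type_of% (a _))<|b (1 :type_of% (a _))<|f);
 (b (0 :type_of% (a _))<|b (0 :type_of% (a _))<|b (0 :type_of% (a _))<|b (0 :type_of% (a _))<|b (1 :type_of% (a _))<|b (1 :type_of% (a _))<|c));
 (let c:=(b (0 :type_of% (a _))<|b (0 :type_of% (a _))<|b (0 :type_of% (a _))<|b (0 :type_of% (a _))<|b (0 :type_of% (a _))<|b (0 :type_of% (a _))<|c);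
 (b (0 :type_of% (a _))<|b (0 :type_of% (a _))<|b (0 :type_of% (a _))<|b (-1 :type_of% (a _))<|b (-1 :type_of% (a _))<|c)));
 (let c:=(let c:=(b (1 :type_of% (a _))<|b (1 :type_of% (a _))<|b (-1 :type_of% (a _))<|b (0 :type_of% (a _))<|b (-1 :type_of% (a _))<|b (-1 :type_of% (a _))<|
 c);
 (b (3 :type_of% (a _))<|b (3 :type_of% (a _))<|b (0 :type_of% (a _))<|b (0 :type_of% (a _))<|b (3 :type_of% (a _))<|b (0 :type_of% (a _))<|c));
 (let c:=(b (-2 :type_of% (a _))<|b (2 :type_of% (a _))<|b (3 :type_of% (a _))<|b (0 :type_of% (a _))<|b (-3 :type_of% (a _))<|b (-3 :type_of% (a _))<|c);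
 (b (0 :type_of% (a _))<|b (0 :type_of% (a _))<|b (0 :type_of% (a _))<|b (0 :type_of% (a _))<|b (2 :type_of% (a _))<|c))));
 (let c:=(let c:=(let c:=(b (0 :type_of% (a _))<|b (-8 :type_of% (a _))<|b (-8 :type_of% (a _))<|b (0 :type_of% (a _))<|b (0 :type_of% (a _))<|b (0 :type_of% (a _))<|c);
 (b (-1 :type_of% (a _))<|b (0 :type_of% (a _))<|b (0 :type_of% (a _))<|b (0 :type_of% (a _))<|b (0 :type_of% (a _))<|b (0 :type_of% (a _))<|c));
 (let c:=(b (3 :type_of% (a _))<|b (3 :type_of% (a _))<|b (7 :type_of% (a _))<|b (-8 :type_of% (a _))<|b (-1 :type_of% (a _))<|b (8 :type_of% (a _))<|c);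
 (b (-10 :type_of% (a _))<|b (-9 :type_of% (a _))<|
 b (24 :type_of% (a _))<|b (-9 :type_of% (a _))<|b (24 :type_of% (a _))<|c)));
 (let c:=(let c:=(b (-24 :type_of% (a _))<|b (8 :type_of% (a _))<|b (8 :type_of% (a _))<|b (-24 :type_of% (a _))<|b (8 :type_of% (a _))<|b (8 :type_of% (a _))<|c);
 (b (-504 :type_of% (a _))<|b (-120 :type_of% (a _))<|b (-120 :type_of% (a _))<|b (40 :type_of% (a _))<|b (-56 :type_of% (a _))<|b (40 :type_of% (a _))<|c));
 (let c:=(b (-441 :type_of% (a _))<|b (504 :type_of% (a _))<|b (-9 :type_of% (a _))<|b (168 :type_of% (a _))<|b (-120 :type_of% (a _))<|b (168 :type_of% (a _))<|c);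
 (d (3898440 :type_of% (a _))<|d (16968 :type_of% (a _))<|d (-15288 :type_of% (a _))<|d (2632 :type_of% (a _))<|d (584 :type_of% (a _))<|c))))))

/-- degree `3898440` -/
def r55 : List ℤ := (beta% delta% lq2675025b5c fun a b d _ f _ _ _ _ _ _ _ _ _ _ _ _ _ _ _ _ _ _ _ _ _ _ =>
 (let c:=(let c:=(let c:=(let c:=(b (1 :type_of% (a _))<|b (1 :type_of% (a _))<|b (0 :type_of% (a _))<|b (0 :type_of% (a _))<|b (1 :type_of% (a _))<|b (-1 :type_of% (a _))<|f);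
 (b (0 :type_of% (a _))<|b (0 :type_of% (a _))<|b (0 :type_of% (a _))<|b (0 :type_of% (a _))<|b (0 :type_of% (a _))<|b (0 :type_of% (a _))<|c));
 (let c:=(b (0 :type_of% (a _))<|b (0 :type_of% (a _))<|b (0 :type_of% (a _))<|b (0 :type_of% (a _))<|b (0 :type_of% (a _))<|b (0 :type_of% (a _))<|c);
 (b (0 :type_of% (a _))<|b (0 :type_of% (a _))<|b (0 :type_of% (a _))<|b (-1 :type_of% (a _))<|b (-1 :type_of% (a _))<|c)));
 (let c:=(let c:=(b (1 :type_of% (a _))<|b (1 :type_of% (a _))<|b (0 :type_of% (a _))<|b (-1 :type_of% (a _))<|b (-1 :type_of% (a _))<|b (-1 :type_of% (a _))<|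
 c);
 (b (0 :type_of% (a _))<|b (0 :type_of% (a _))<|b (3 :type_of% (a _))<|b (3 :type_of% (a _))<|b (0 :type_of% (a _))<|b (3 :type_of% (a _))<|c));
 (let c:=(b (2 :type_of% (a _))<|b (2 :type_of% (a _))<|b (0 :type_of% (a _))<|b (3 :type_of% (a _))<|b (-3 :type_of% (a _))<|b (-3 :type_of% (a _))<|c);
 (b (0 :type_of% (a _))<|b (0 :type_of% (a _))<|b (0 :type_of% (a _))<|b (0 :type_of% (a _))<|b (-2 :type_of% (a _))<|c))));
 (let c:=(let c:=(let c:=(b (-8 :type_of% (a _))<|b (0 :type_of% (a _))<|b (0 :type_of% (a _))<|b (0 :type_of% (a _))<|b (0 :type_of% (a _))<|b (0 :type_of% (a _))<|c);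
 (b (-1 :type_of% (a _))<|b (0 :type_of% (a _))<|b (0 :type_of% (a _))<|b (0 :type_of% (a _))<|b (0 :type_of% (a _))<|b (-8 :type_of% (a _))<|c));
 (let c:=(b (3 :type_of% (a _))<|b (3 :type_of% (a _))<|b (-8 :type_of% (a _))<|b (7 :type_of% (a _))<|b (8 :type_of% (a _))<|b (-1 :type_of% (a _))<|c);
 (b (-10 :type_of% (a _))<|b (24 :type_of% (a _))<|
 b (-9 :type_of% (a _))<|b (24 :type_of% (a _))<|b (-9 :type_of% (a _))<|c)));
 (let c:=(let c:=(b (8 :type_of% (a _))<|b (-24 :type_of% (a _))<|b (8 :type_of% (a _))<|b (-24 :type_of% (a _))<|b (8 :type_of% (a _))<|b (8 :type_of% (a _))<|c);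
 (b (168 :type_of% (a _))<|b (-120 :type_of% (a _))<|b (-120 :type_of% (a _))<|b (-56 :type_of% (a _))<|b (40 :type_of% (a _))<|b (40 :type_of% (a _))<|c));
 (let c:=(b (504 :type_of% (a _))<|b (-441 :type_of% (a _))<|b (-9 :type_of% (a _))<|b (-120 :type_of% (a _))<|b (168 :type_of% (a _))<|b (-504 :type_of% (a _))<|c);
 (d (3898440 :type_of% (a _))<|d (-15288 :type_of% (a _))<|d (16968 :type_of% (a _))<|d (2632 :type_of% (a _))<|d (584 :type_of% (a _))<|c))))))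

/-- degree `4331600` -/
def r56 : List ℤ := (beta% delta% lq2675025b5c fun a b d _ f _ _ _ _ _ _ _ _ _ _ _ _ _ _ _ _ _ _ _ _ _ _ =>
 (let c:=(let c:=(let c:=(let c:=(b (0 :type_of% (a _))<|b (0 :type_of% (a _))<|b (0 :type_of% (a _))<|b (0 :type_of% (a _))<|b (0 :type_of% (a _))<|b (0 :type_of% (a _))<|f);
 (b (0 :type_of% (a _))<|b (0 :type_of% (a _))<|b (0 :type_of% (a _))<|b (0 :type_of% (a _))<|b (0 :type_of% (a _))<|b (0 :type_of% (a _))<|c));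
 (let c:=(b (0 :type_of% (a _))<|b (0 :type_of% (a _))<|b (0 :type_of% (a _))<|b (0 :type_of% (a _))<|b (1 :type_of% (a _))<|b (0 :type_of% (a _))<|c);
 (b (0 :type_of% (a _))<|b (0 :type_of% (a _))<|b (0 :type_of% (a _))<|b (0 :type_of% (a _))<|b (0 :type_of% (a _))<|c)));
 (let c:=(let c:=(b (1 :type_of% (a _))<|b (-1 :type_of% (a _))<|b (0 :type_of% (a _))<|b (-2 :type_of% (a _))<|b (-1 :type_of% (a _))<|
 b (-1 :type_of% (a _))<|c);
 (b (-4 :type_of% (a _))<|b (-4 :type_of% (a _))<|b (2 :type_of% (a _))<|b (2 :type_of% (a _))<|b (0 :type_of% (a _))<|b (2 :type_of% (a _))<|c));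
 (let c:=(b (0 :type_of% (a _))<|b (0 :type_of% (a _))<|b (8 :type_of% (a _))<|b (2 :type_of% (a _))<|b (5 :type_of% (a _))<|b (-1 :type_of% (a _))<|c);
 (b (0 :type_of% (a _))<|b (0 :type_of% (a _))<|b (-1 :type_of% (a _))<|b (2 :type_of% (a _))<|b (0 :type_of% (a _))<|c))));
 (let c:=(let c:=(let c:=(b (0 :type_of% (a _))<|b (0 :type_of% (a _))<|b (0 :type_of% (a _))<|b (0 :type_of% (a _))<|b (0 :type_of% (a _))<|b (0 :type_of% (a _))<|c);
 (b (-3 :type_of% (a _))<|b (0 :type_of% (a _))<|b (0 :type_of% (a _))<|b (0 :type_of% (a _))<|b (0 :type_of% (a _))<|b (0 :type_of% (a _))<|c));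
 (let c:=(b (9 :type_of% (a _))<|b (-11 :type_of% (a _))<|b (16 :type_of% (a _))<|b (-2 :type_of% (a _))<|b (0 :type_of% (a _))<|b (6 :type_of% (a _))<|c);
 (b (0 :type_of% (a _))<|b (0 :type_of% (a _))<|
 b (-50 :type_of% (a _))<|b (-8 :type_of% (a _))<|b (-18 :type_of% (a _))<|c)));
 (let c:=(let c:=(b (16 :type_of% (a _))<|b (-48 :type_of% (a _))<|b (-16 :type_of% (a _))<|b (16 :type_of% (a _))<|b (-16 :type_of% (a _))<|b (-16 :type_of% (a _))<|c);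
 (b (336 :type_of% (a _))<|b (80 :type_of% (a _))<|b (80 :type_of% (a _))<|b (16 :type_of% (a _))<|b (80 :type_of% (a _))<|b (16 :type_of% (a _))<|c));
 (let c:=(b (-280 :type_of% (a _))<|b (350 :type_of% (a _))<|b (17 :type_of% (a _))<|b (-112 :type_of% (a _))<|b (80 :type_of% (a _))<|b (-112 :type_of% (a _))<|c);
 (d (4331600 :type_of% (a _))<|d (-5040 :type_of% (a _))<|d (-40880 :type_of% (a _))<|d (5200 :type_of% (a _))<|d (-432 :type_of% (a _))<|c))))))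

/-- degree `4331600` -/
def r57 : List ℤ := (beta% delta% lq2675025b5c fun a b d _ f _ _ _ _ _ _ _ _ _ _ _ _ _ _ _ _ _ _ _ _ _ _ =>
 (let c:=(let c:=(let c:=(let c:=(b (0 :type_of% (a _))<|b (0 :type_of% (a _))<|b (0 :type_of% (a _))<|b (0 :type_of% (a _))<|b (0 :type_of% (a _))<|b (0 :type_of% (a _))<|f);
 (b (0 :type_of% (a _))<|b (0 :type_of% (a _))<|b (0 :type_of% (a _))<|b (0 :type_of% (a _))<|b (0 :type_of% (a _))<|b (0 :type_of% (a _))<|c));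
 (let c:=(b (0 :type_of% (a _))<|b (0 :type_of% (a _))<|b (0 :type_of% (a _))<|b (0 :type_of% (a _))<|b (0 :type_of% (a _))<|b (1 :type_of% (a _))<|c);
 (b (0 :type_of% (a _))<|b (0 :type_of% (a _))<|b (0 :type_of% (a _))<|b (0 :type_of% (a _))<|b (0 :type_of% (a _))<|c)));
 (let c:=(let c:=(b (-1 :type_of% (a _))<|b (1 :type_of% (a _))<|b (-2 :type_of% (a _))<|b (0 :type_of% (a _))<|b (-1 :type_of% (a _))<|
 b (-1 :type_of% (a _))<|c);
 (b (2 :type_of% (a _))<|b (2 :type_of% (a _))<|b (-4 :type_of% (a _))<|b (-4 :type_of% (a _))<|b (2 :type_of% (a _))<|b (0 :type_of% (a _))<|c));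
 (let c:=(b (0 :type_of% (a _))<|b (0 :type_of% (a _))<|b (2 :type_of% (a _))<|b (8 :type_of% (a _))<|b (-1 :type_of% (a _))<|b (5 :type_of% (a _))<|c);
 (b (0 :type_of% (a _))<|b (0 :type_of% (a _))<|b (2 :type_of% (a _))<|b (-1 :type_of% (a _))<|b (0 :type_of% (a _))<|c))));
 (let c:=(let c:=(let c:=(b (0 :type_of% (a _))<|b (0 :type_of% (a _))<|b (0 :type_of% (a _))<|b (0 :type_of% (a _))<|b (0 :type_of% (a _))<|b (0 :type_of% (a _))<|c);
 (b (-3 :type_of% (a _))<|b (0 :type_of% (a _))<|b (0 :type_of% (a _))<|b (0 :type_of% (a _))<|b (0 :type_of% (a _))<|b (0 :type_of% (a _))<|c));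
 (let c:=(b (-11 :type_of% (a _))<|b (9 :type_of% (a _))<|b (-2 :type_of% (a _))<|b (16 :type_of% (a _))<|b (6 :type_of% (a _))<|b (0 :type_of% (a _))<|c);
 (b (0 :type_of% (a _))<|b (-50 :type_of% (a _))<|
 b (0 :type_of% (a _))<|b (-18 :type_of% (a _))<|b (-8 :type_of% (a _))<|c)));
 (let c:=(let c:=(b (-48 :type_of% (a _))<|b (16 :type_of% (a _))<|b (-16 :type_of% (a _))<|b (16 :type_of% (a _))<|b (-16 :type_of% (a _))<|b (-16 :type_of% (a _))<|c);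
 (b (-112 :type_of% (a _))<|b (80 :type_of% (a _))<|b (80 :type_of% (a _))<|b (80 :type_of% (a _))<|b (16 :type_of% (a _))<|b (16 :type_of% (a _))<|c));
 (let c:=(b (350 :type_of% (a _))<|b (-280 :type_of% (a _))<|b (17 :type_of% (a _))<|b (80 :type_of% (a _))<|b (-112 :type_of% (a _))<|b (336 :type_of% (a _))<|c);
 (d (4331600 :type_of% (a _))<|d (-40880 :type_of% (a _))<|d (-5040 :type_of% (a _))<|d (5200 :type_of% (a _))<|d (-432 :type_of% (a _))<|c))))))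

/-- degree `4385745` -/
def r58 : List ℤ := (beta% delta% lq2675025b5c fun a b d _ f _ _ _ _ _ _ _ _ _ _ _ _ _ _ _ _ _ _ _ _ _ _ =>
 (let c:=(let c:=(let c:=(let c:=(b (1 :type_of% (a _))<|b (1 :type_of% (a _))<|b (0 :type_of% (a _))<|b (0 :type_of% (a _))<|b (-1 :type_of% (a _))<|b (0 :type_of% (a _))<|f);
 (b (1 :type_of% (a _))<|b (1 :type_of% (a _))<|b (0 :type_of% (a _))<|b (0 :type_of% (a _))<|b (0 :type_of% (a _))<|b (0 :type_of% (a _))<|c));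
 (let c:=(b (-1 :type_of% (a _))<|b (-1 :type_of% (a _))<|b (-1 :type_of% (a _))<|b (0 :type_of% (a _))<|b (0 :type_of% (a _))<|b (0 :type_of% (a _))<|c);
 (b (0 :type_of% (a _))<|b (0 :type_of% (a _))<|b (0 :type_of% (a _))<|b (1 :type_of% (a _))<|b (-2 :type_of% (a _))<|c)));
 (let c:=(let c:=(b (0 :type_of% (a _))<|b (0 :type_of% (a _))<|b (2 :type_of% (a _))<|b (-1 :type_of% (a _))<|b (0 :type_of% (a _))<|b (0 :type_of% (a _))<|
 c);
 (b (2 :type_of% (a _))<|b (2 :type_of% (a _))<|b (-1 :type_of% (a _))<|b (-1 :type_of% (a _))<|b (-2 :type_of% (a _))<|b (-1 :type_of% (a _))<|c));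
 (let c:=(b (3 :type_of% (a _))<|b (-1 :type_of% (a _))<|b (6 :type_of% (a _))<|b (-9 :type_of% (a _))<|b (0 :type_of% (a _))<|b (0 :type_of% (a _))<|c);
 (b (1 :type_of% (a _))<|b (1 :type_of% (a _))<|b (0 :type_of% (a _))<|b (0 :type_of% (a _))<|b (-1 :type_of% (a _))<|c))));
 (let c:=(let c:=(let c:=(b (1 :type_of% (a _))<|b (-3 :type_of% (a _))<|b (-3 :type_of% (a _))<|b (5 :type_of% (a _))<|b (5 :type_of% (a _))<|b (-3 :type_of% (a _))<|c);
 (b (0 :type_of% (a _))<|b (0 :type_of% (a _))<|b (0 :type_of% (a _))<|b (-3 :type_of% (a _))<|b (-3 :type_of% (a _))<|b (1 :type_of% (a _))<|c));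
 (let c:=(b (0 :type_of% (a _))<|b (0 :type_of% (a _))<|b (2 :type_of% (a _))<|b (11 :type_of% (a _))<|b (-6 :type_of% (a _))<|b (3 :type_of% (a _))<|c);
 (b (-5 :type_of% (a _))<|b (-30 :type_of% (a _))<|b (-21 :type_of% (a _))<|
 b (-6 :type_of% (a _))<|b (3 :type_of% (a _))<|c)));
 (let c:=(let c:=(b (-7 :type_of% (a _))<|b (41 :type_of% (a _))<|b (-15 :type_of% (a _))<|b (-7 :type_of% (a _))<|b (9 :type_of% (a _))<|b (1 :type_of% (a _))<|c);
 (b (49 :type_of% (a _))<|b (41 :type_of% (a _))<|b (41 :type_of% (a _))<|b (-63 :type_of% (a _))<|b (-15 :type_of% (a _))<|b (65 :type_of% (a _))<|c));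
 (let c:=(b (378 :type_of% (a _))<|b (-189 :type_of% (a _))<|b (0 :type_of% (a _))<|b (-351 :type_of% (a _))<|b (369 :type_of% (a _))<|b (161 :type_of% (a _))<|c);
 (d (4385745 :type_of% (a _))<|d (47313 :type_of% (a _))<|d (-1071 :type_of% (a _))<|d (209 :type_of% (a _))<|d (-687 :type_of% (a _))<|c))))))

/-- degree `4385745` -/
def r59 : List ℤ := (beta% delta% lq2675025b5c fun a b d _ f _ _ _ _ _ _ _ _ _ _ _ _ _ _ _ _ _ _ _ _ _ _ =>
 (let c:=(let c:=(let c:=(let c:=(b (0 :type_of% (a _))<|b (0 :type_of% (a _))<|b (0 :type_of% (a _))<|b (0 :type_of% (a _))<|b (0 :type_of% (a _))<|b (1 :type_of% (a _))<|f);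
 (b (-1 :type_of% (a _))<|b (1 :type_of% (a _))<|b (0 :type_of% (a _))<|b (0 :type_of% (a _))<|b (-1 :type_of% (a _))<|b (-1 :type_of% (a _))<|c));
 (let c:=(b (1 :type_of% (a _))<|b (-1 :type_of% (a _))<|b (-1 :type_of% (a _))<|b (0 :type_of% (a _))<|b (0 :type_of% (a _))<|b (0 :type_of% (a _))<|c);
 (b (0 :type_of% (a _))<|b (0 :type_of% (a _))<|b (0 :type_of% (a _))<|b (-2 :type_of% (a _))<|b (1 :type_of% (a _))<|c)));
 (let c:=(let c:=(b (0 :type_of% (a _))<|b (0 :type_of% (a _))<|b (-1 :type_of% (a _))<|b (2 :type_of% (a _))<|b (0 :type_of% (a _))<|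
 b (0 :type_of% (a _))<|c);
 (b (-1 :type_of% (a _))<|b (-1 :type_of% (a _))<|b (2 :type_of% (a _))<|b (2 :type_of% (a _))<|b (3 :type_of% (a _))<|b (-2 :type_of% (a _))<|c));
 (let c:=(b (1 :type_of% (a _))<|b (-1 :type_of% (a _))<|b (3 :type_of% (a _))<|b (6 :type_of% (a _))<|b (0 :type_of% (a _))<|b (0 :type_of% (a _))<|c);
 (b (1 :type_of% (a _))<|b (1 :type_of% (a _))<|b (0 :type_of% (a _))<|b (0 :type_of% (a _))<|b (-3 :type_of% (a _))<|c))));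
 (let c:=(let c:=(let c:=(b (9 :type_of% (a _))<|b (5 :type_of% (a _))<|b (-7 :type_of% (a _))<|b (1 :type_of% (a _))<|b (5 :type_of% (a _))<|b (-3 :type_of% (a _))<|c);
 (b (0 :type_of% (a _))<|b (0 :type_of% (a _))<|b (0 :type_of% (a _))<|b (5 :type_of% (a _))<|b (-3 :type_of% (a _))<|b (-3 :type_of% (a _))<|c));
 (let c:=(b (0 :type_of% (a _))<|b (0 :type_of% (a _))<|b (-13 :type_of% (a _))<|b (2 :type_of% (a _))<|b (3 :type_of% (a _))<|b (-6 :type_of% (a _))<|c);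
 (b (-5 :type_of% (a _))<|b (51 :type_of% (a _))<|
 b (-30 :type_of% (a _))<|b (3 :type_of% (a _))<|b (-6 :type_of% (a _))<|c)));
 (let c:=(let c:=(b (-19 :type_of% (a _))<|b (29 :type_of% (a _))<|b (9 :type_of% (a _))<|b (5 :type_of% (a _))<|b (-3 :type_of% (a _))<|b (1 :type_of% (a _))<|c);
 (b (-231 :type_of% (a _))<|b (-139 :type_of% (a _))<|b (149 :type_of% (a _))<|b (-87 :type_of% (a _))<|b (-39 :type_of% (a _))<|b (1 :type_of% (a _))<|c));
 (let c:=(b (-189 :type_of% (a _))<|b (378 :type_of% (a _))<|b (0 :type_of% (a _))<|b (-279 :type_of% (a _))<|b (441 :type_of% (a _))<|b (-119 :type_of% (a _))<|c);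
 (d (4385745 :type_of% (a _))<|d (23121 :type_of% (a _))<|d (-25263 :type_of% (a _))<|d (4049 :type_of% (a _))<|d (-111 :type_of% (a _))<|c))))))

/-- degree `4385745` -/
def r60 : List ℤ := (beta% delta% lq2675025b5c fun a b d _ f _ _ _ _ _ _ _ _ _ _ _ _ _ _ _ _ _ _ _ _ _ _ =>
 (let c:=(let c:=(let c:=(let c:=(b (0 :type_of% (a _))<|b (0 :type_of% (a _))<|b (0 :type_of% (a _))<|b (0 :type_of% (a _))<|b (0 :type_of% (a _))<|b (-1 :type_of% (a _))<|f);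
 (b (1 :type_of% (a _))<|b (1 :type_of% (a _))<|b (0 :type_of% (a _))<|b (0 :type_of% (a _))<|b (1 :type_of% (a _))<|b (1 :type_of% (a _))<|c));
 (let c:=(b (-1 :type_of% (a _))<|b (-1 :type_of% (a _))<|b (-1 :type_of% (a _))<|b (0 :type_of% (a _))<|b (0 :type_of% (a _))<|b (0 :type_of% (a _))<|c);
 (b (0 :type_of% (a _))<|
 b (0 :type_of% (a _))<|b (0 :type_of% (a _))<|b (-2 :type_of% (a _))<|b (1 :type_of% (a _))<|c)));
 (let c:=(let c:=(b (0 :type_of% (a _))<|b (0 :type_of% (a _))<|b (-1 :type_of% (a _))<|b (2 :type_of% (a _))<|b (0 :type_of% (a _))<|b (0 :type_of% (a _))<|c);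
 (b (-1 :type_of% (a _))<|b (-1 :type_of% (a _))<|b (2 :type_of% (a _))<|b (2 :type_of% (a _))<|b (-1 :type_of% (a _))<|b (-2 :type_of% (a _))<|c));
 (let c:=(b (-1 :type_of% (a _))<|b (-1 :type_of% (a _))<|b (-9 :type_of% (a _))<|b (6 :type_of% (a _))<|b (0 :type_of% (a _))<|b (0 :type_of% (a _))<|c);
 (b (1 :type_of% (a _))<|b (1 :type_of% (a _))<|b (0 :type_of% (a _))<|b (0 :type_of% (a _))<|b (3 :type_of% (a _))<|c))));
 (let c:=(let c:=(let c:=(b (-3 :type_of% (a _))<|b (1 :type_of% (a _))<|b (1 :type_of% (a _))<|b (5 :type_of% (a _))<|b (-3 :type_of% (a _))<|b (5 :type_of% (a _))<|c);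
 (b (0 :type_of% (a _))<|b (0 :type_of% (a _))<|b (0 :type_of% (a _))<|b (-3 :type_of% (a _))<|b (-3 :type_of% (a _))<|b (-3 :type_of% (a _))<|c));
 (let c:=(b (0 :type_of% (a _))<|b (0 :type_of% (a _))<|b (11 :type_of% (a _))<|b (2 :type_of% (a _))<|b (3 :type_of% (a _))<|b (-6 :type_of% (a _))<|c);
 (b (-5 :type_of% (a _))<|b (-21 :type_of% (a _))<|b (-30 :type_of% (a _))<|b (3 :type_of% (a _))<|
 b (-6 :type_of% (a _))<|c)));
 (let c:=(let c:=(b (41 :type_of% (a _))<|b (-7 :type_of% (a _))<|b (-15 :type_of% (a _))<|b (-7 :type_of% (a _))<|b (9 :type_of% (a _))<|b (1 :type_of% (a _))<|c);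
 (b (161 :type_of% (a _))<|b (41 :type_of% (a _))<|b (41 :type_of% (a _))<|b (-15 :type_of% (a _))<|b (-63 :type_of% (a _))<|b (65 :type_of% (a _))<|c));
 (let c:=(b (-189 :type_of% (a _))<|b (378 :type_of% (a _))<|b (0 :type_of% (a _))<|b (369 :type_of% (a _))<|b (-351 :type_of% (a _))<|b (49 :type_of% (a _))<|c);
 (d (4385745 :type_of% (a _))<|d (-1071 :type_of% (a _))<|d (47313 :type_of% (a _))<|d (209 :type_of% (a _))<|d (-687 :type_of% (a _))<|c))))))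

/-- degree `4385745` -/
def r61 : List ℤ := (beta% delta% lq2675025b5c fun a b d _ f _ _ _ _ _ _ _ _ _ _ _ _ _ _ _ _ _ _ _ _ _ _ =>
 (let c:=(let c:=(let c:=(let c:=(b (-1 :type_of% (a _))<|b (-1 :type_of% (a _))<|b (0 :type_of% (a _))<|b (0 :type_of% (a _))<|b (1 :type_of% (a _))<|b (0 :type_of% (a _))<|f);
 (b (-1 :type_of% (a _))<|b (1 :type_of% (a _))<|b (0 :type_of% (a _))<|b (0 :type_of% (a _))<|b (0 :type_of% (a _))<|b (0 :type_of% (a _))<|c));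
 (let c:=(b (1 :type_of% (a _))<|b (-1 :type_of% (a _))<|b (-1 :type_of% (a _))<|b (0 :type_of% (a _))<|b (0 :type_of% (a _))<|b (0 :type_of% (a _))<|c);
 (b (0 :type_of% (a _))<|b (0 :type_of% (a _))<|b (0 :type_of% (a _))<|b (1 :type_of% (a _))<|b (-2 :type_of% (a _))<|c)));
 (let c:=(let c:=(b (0 :type_of% (a _))<|b (0 :type_of% (a _))<|b (2 :type_of% (a _))<|b (-1 :type_of% (a _))<|b (0 :type_of% (a _))<|b (0 :type_of% (a _))<|
 c);
 (b (2 :type_of% (a _))<|b (2 :type_of% (a _))<|b (-1 :type_of% (a _))<|b (-1 :type_of% (a _))<|b (-2 :type_of% (a _))<|b (3 :type_of% (a _))<|c));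
 (let c:=(b (-3 :type_of% (a _))<|b (-1 :type_of% (a _))<|b (6 :type_of% (a _))<|b (3 :type_of% (a _))<|b (0 :type_of% (a _))<|b (0 :type_of% (a _))<|c);
 (b (1 :type_of% (a _))<|b (1 :type_of% (a _))<|b (0 :type_of% (a _))<|b (0 :type_of% (a _))<|b (1 :type_of% (a _))<|c))));
 (let c:=(let c:=(let c:=(b (5 :type_of% (a _))<|b (9 :type_of% (a _))<|b (-3 :type_of% (a _))<|b (1 :type_of% (a _))<|b (-3 :type_of% (a _))<|b (5 :type_of% (a _))<|c);
 (b (0 :type_of% (a _))<|b (0 :type_of% (a _))<|b (0 :type_of% (a _))<|b (5 :type_of% (a _))<|b (-3 :type_of% (a _))<|b (-7 :type_of% (a _))<|c));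
 (let c:=(b (0 :type_of% (a _))<|b (0 :type_of% (a _))<|b (2 :type_of% (a _))<|b (-13 :type_of% (a _))<|b (-6 :type_of% (a _))<|b (3 :type_of% (a _))<|c);
 (b (-5 :type_of% (a _))<|b (-30 :type_of% (a _))<|
 b (51 :type_of% (a _))<|b (-6 :type_of% (a _))<|b (3 :type_of% (a _))<|c)));
 (let c:=(let c:=(b (29 :type_of% (a _))<|b (-19 :type_of% (a _))<|b (9 :type_of% (a _))<|b (5 :type_of% (a _))<|b (-3 :type_of% (a _))<|b (1 :type_of% (a _))<|c);
 (b (-119 :type_of% (a _))<|b (-139 :type_of% (a _))<|b (149 :type_of% (a _))<|b (-39 :type_of% (a _))<|b (-87 :type_of% (a _))<|b (1 :type_of% (a _))<|c));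
 (let c:=(b (378 :type_of% (a _))<|b (-189 :type_of% (a _))<|b (0 :type_of% (a _))<|b (441 :type_of% (a _))<|b (-279 :type_of% (a _))<|b (-231 :type_of% (a _))<|c);
 (d (4385745 :type_of% (a _))<|d (-25263 :type_of% (a _))<|d (23121 :type_of% (a _))<|d (4049 :type_of% (a _))<|d (-111 :type_of% (a _))<|c))))))

/-- degree `4526080` -/
def r62 : List ℤ := (beta% delta% lq2675025b5c fun a b d _ f _ _ _ _ _ _ _ _ _ _ _ _ _ _ _ _ _ _ _ _ _ _ =>
 (let c:=(let c:=(let c:=(let c:=(b (0 :type_of% (a _))<|b (0 :type_of% (a _))<|b (0 :type_of% (a _))<|b (0 :type_of% (a _))<|b (0 :type_of% (a _))<|b (-1 :type_of% (a _))<|f);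
 (b (1 :type_of% (a _))<|b (-1 :type_of% (a _))<|b (1 :type_of% (a _))<|b (0 :type_of% (a _))<|b (0 :type_of% (a _))<|b (0 :type_of% (a _))<|c));
 (let c:=(b (0 :type_of% (a _))<|b (0 :type_of% (a _))<|b (0 :type_of% (a _))<|
 b (0 :type_of% (a _))<|b (-1 :type_of% (a _))<|b (0 :type_of% (a _))<|c);
 (b (0 :type_of% (a _))<|b (0 :type_of% (a _))<|b (2 :type_of% (a _))<|b (2 :type_of% (a _))<|b (-1 :type_of% (a _))<|c)));
 (let c:=(let c:=(b (0 :type_of% (a _))<|b (0 :type_of% (a _))<|b (0 :type_of% (a _))<|b (0 :type_of% (a _))<|b (0 :type_of% (a _))<|b (0 :type_of% (a _))<|c);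
 (b (4 :type_of% (a _))<|b (-4 :type_of% (a _))<|b (-4 :type_of% (a _))<|b (4 :type_of% (a _))<|b (0 :type_of% (a _))<|b (0 :type_of% (a _))<|c));
 (let c:=(b (-1 :type_of% (a _))<|b (1 :type_of% (a _))<|b (0 :type_of% (a _))<|b (0 :type_of% (a _))<|b (0 :type_of% (a _))<|b (0 :type_of% (a _))<|c);
 (b (0 :type_of% (a _))<|b (0 :type_of% (a _))<|b (1 :type_of% (a _))<|b (-2 :type_of% (a _))<|b (3 :type_of% (a _))<|c))));
 (let c:=(let c:=(let c:=(b (0 :type_of% (a _))<|b (0 :type_of% (a _))<|b (0 :type_of% (a _))<|b (0 :type_of% (a _))<|b (0 :type_of% (a _))<|b (0 :type_of% (a _))<|c);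
 (b (0 :type_of% (a _))<|b (-8 :type_of% (a _))<|b (6 :type_of% (a _))<|b (0 :type_of% (a _))<|b (0 :type_of% (a _))<|b (0 :type_of% (a _))<|c));
 (let c:=(b (0 :type_of% (a _))<|b (-16 :type_of% (a _))<|b (-8 :type_of% (a _))<|
 b (-8 :type_of% (a _))<|b (0 :type_of% (a _))<|b (0 :type_of% (a _))<|c);
 (b (5 :type_of% (a _))<|b (24 :type_of% (a _))<|b (-40 :type_of% (a _))<|b (8 :type_of% (a _))<|b (-24 :type_of% (a _))<|c)));
 (let c:=(let c:=(b (0 :type_of% (a _))<|b (0 :type_of% (a _))<|b (0 :type_of% (a _))<|b (0 :type_of% (a _))<|b (0 :type_of% (a _))<|b (0 :type_of% (a _))<|c);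
 (b (0 :type_of% (a _))<|b (-256 :type_of% (a _))<|b (256 :type_of% (a _))<|b (0 :type_of% (a _))<|b (0 :type_of% (a _))<|b (0 :type_of% (a _))<|c));
 (let c:=(b (-56 :type_of% (a _))<|b (232 :type_of% (a _))<|b (16 :type_of% (a _))<|b (0 :type_of% (a _))<|b (0 :type_of% (a _))<|b (0 :type_of% (a _))<|c);
 (d (4526080 :type_of% (a _))<|d (36864 :type_of% (a _))<|d (-28672 :type_of% (a _))<|d (4096 :type_of% (a _))<|d (0 :type_of% (a _))<|c))))))

/-- degree `4526080` -/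
def r63 : List ℤ := (beta% delta% lq2675025b5c fun a b d _ f _ _ _ _ _ _ _ _ _ _ _ _ _ _ _ _ _ _ _ _ _ _ =>
 (let c:=(let c:=(let c:=(let c:=(b (0 :type_of% (a _))<|b (0 :type_of% (a _))<|b (0 :type_of% (a _))<|b (0 :type_of% (a _))<|b (-1 :type_of% (a _))<|b (0 :type_of% (a _))<|f);
 (b (1 :type_of% (a _))<|b (-1 :type_of% (a _))<|b (0 :type_of% (a _))<|b (1 :type_of% (a _))<|b (0 :type_of% (a _))<|b (0 :type_of% (a _))<|c));
 (let c:=(b (0 :type_of% (a _))<|b (0 :type_of% (a _))<|b (0 :type_of% (a _))<|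
 b (0 :type_of% (a _))<|b (0 :type_of% (a _))<|b (-1 :type_of% (a _))<|c);
 (b (0 :type_of% (a _))<|b (2 :type_of% (a _))<|b (0 :type_of% (a _))<|b (-1 :type_of% (a _))<|b (2 :type_of% (a _))<|c)));
 (let c:=(let c:=(b (0 :type_of% (a _))<|b (0 :type_of% (a _))<|b (0 :type_of% (a _))<|b (0 :type_of% (a _))<|b (0 :type_of% (a _))<|b (0 :type_of% (a _))<|c);
 (b (4 :type_of% (a _))<|b (-4 :type_of% (a _))<|b (-4 :type_of% (a _))<|b (4 :type_of% (a _))<|b (0 :type_of% (a _))<|b (0 :type_of% (a _))<|c));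
 (let c:=(b (3 :type_of% (a _))<|b (1 :type_of% (a _))<|b (0 :type_of% (a _))<|b (0 :type_of% (a _))<|b (0 :type_of% (a _))<|b (0 :type_of% (a _))<|c);
 (b (0 :type_of% (a _))<|b (0 :type_of% (a _))<|b (-2 :type_of% (a _))<|b (1 :type_of% (a _))<|b (-1 :type_of% (a _))<|c))));
 (let c:=(let c:=(let c:=(b (0 :type_of% (a _))<|b (0 :type_of% (a _))<|b (0 :type_of% (a _))<|b (0 :type_of% (a _))<|b (0 :type_of% (a _))<|b (0 :type_of% (a _))<|c);
 (b (0 :type_of% (a _))<|b (6 :type_of% (a _))<|b (-8 :type_of% (a _))<|b (0 :type_of% (a _))<|b (0 :type_of% (a _))<|b (0 :type_of% (a _))<|c));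
 (let c:=(b (-16 :type_of% (a _))<|b (0 :type_of% (a _))<|b (-8 :type_of% (a _))<|
 b (-8 :type_of% (a _))<|b (0 :type_of% (a _))<|b (0 :type_of% (a _))<|c);
 (b (5 :type_of% (a _))<|b (-40 :type_of% (a _))<|b (24 :type_of% (a _))<|b (-24 :type_of% (a _))<|b (8 :type_of% (a _))<|c)));
 (let c:=(let c:=(b (0 :type_of% (a _))<|b (0 :type_of% (a _))<|b (0 :type_of% (a _))<|b (0 :type_of% (a _))<|b (0 :type_of% (a _))<|b (0 :type_of% (a _))<|c);
 (b (0 :type_of% (a _))<|b (-256 :type_of% (a _))<|b (256 :type_of% (a _))<|b (0 :type_of% (a _))<|b (0 :type_of% (a _))<|b (0 :type_of% (a _))<|c));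
 (let c:=(b (232 :type_of% (a _))<|b (-56 :type_of% (a _))<|b (16 :type_of% (a _))<|b (0 :type_of% (a _))<|b (0 :type_of% (a _))<|b (0 :type_of% (a _))<|c);
 (d (4526080 :type_of% (a _))<|d (-28672 :type_of% (a _))<|d (36864 :type_of% (a _))<|d (4096 :type_of% (a _))<|d (0 :type_of% (a _))<|c))))))

/-- degree `5012280` -/
def r64 : List ℤ := (beta% delta% lq2675025b5c fun a b d _ f _ _ _ _ _ _ _ _ _ _ _ _ _ _ _ _ _ _ _ _ _ _ =>
 (let c:=(let c:=(let c:=(let c:=(b (-1 :type_of% (a _))<|b (1 :type_of% (a _))<|b (1 :type_of% (a _))<|b (0 :type_of% (a _))<|b (0 :type_of% (a _))<|b (1 :type_of% (a _))<|f);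
 (b (-1 :type_of% (a _))<|b (-1 :type_of% (a _))<|b (-1 :type_of% (a _))<|b (0 :type_of% (a _))<|b (-1 :type_of% (a _))<|b (1 :type_of% (a _))<|c));
 (let c:=(b (0 :type_of% (a _))<|b (0 :type_of% (a _))<|b (0 :type_of% (a _))<|b (0 :type_of% (a _))<|b (0 :type_of% (a _))<|b (0 :type_of% (a _))<|c);
 (b (0 :type_of% (a _))<|b (1 :type_of% (a _))<|
 b (0 :type_of% (a _))<|b (2 :type_of% (a _))<|b (-1 :type_of% (a _))<|c)));
 (let c:=(let c:=(b (0 :type_of% (a _))<|b (0 :type_of% (a _))<|b (-1 :type_of% (a _))<|b (1 :type_of% (a _))<|b (0 :type_of% (a _))<|b (0 :type_of% (a _))<|c);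
 (b (-1 :type_of% (a _))<|b (-5 :type_of% (a _))<|b (1 :type_of% (a _))<|b (5 :type_of% (a _))<|b (1 :type_of% (a _))<|b (-1 :type_of% (a _))<|c));
 (let c:=(b (1 :type_of% (a _))<|b (1 :type_of% (a _))<|b (-3 :type_of% (a _))<|b (3 :type_of% (a _))<|b (0 :type_of% (a _))<|b (0 :type_of% (a _))<|c);
 (b (0 :type_of% (a _))<|b (0 :type_of% (a _))<|b (0 :type_of% (a _))<|b (0 :type_of% (a _))<|b (-3 :type_of% (a _))<|c))));
 (let c:=(let c:=(let c:=(b (-4 :type_of% (a _))<|b (4 :type_of% (a _))<|b (-4 :type_of% (a _))<|b (0 :type_of% (a _))<|b (0 :type_of% (a _))<|b (0 :type_of% (a _))<|c);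
 (b (0 :type_of% (a _))<|b (-7 :type_of% (a _))<|b (0 :type_of% (a _))<|b (8 :type_of% (a _))<|b (-8 :type_of% (a _))<|b (4 :type_of% (a _))<|c));
 (let c:=(b (0 :type_of% (a _))<|b (0 :type_of% (a _))<|b (1 :type_of% (a _))<|b (7 :type_of% (a _))<|b (-3 :type_of% (a _))<|b (3 :type_of% (a _))<|c);
 (b (5 :type_of% (a _))<|b (-39 :type_of% (a _))<|b (15 :type_of% (a _))<|
 b (21 :type_of% (a _))<|b (3 :type_of% (a _))<|c)));
 (let c:=(let c:=(b (16 :type_of% (a _))<|b (-16 :type_of% (a _))<|b (-24 :type_of% (a _))<|b (-16 :type_of% (a _))<|b (0 :type_of% (a _))<|b (-8 :type_of% (a _))<|c);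
 (b (-104 :type_of% (a _))<|b (304 :type_of% (a _))<|b (-16 :type_of% (a _))<|b (24 :type_of% (a _))<|b (-72 :type_of% (a _))<|b (-8 :type_of% (a _))<|c));
 (let c:=(b (189 :type_of% (a _))<|b (27 :type_of% (a _))<|b (0 :type_of% (a _))<|b (-72 :type_of% (a _))<|b (-360 :type_of% (a _))<|b (56 :type_of% (a _))<|c);
 (d (5012280 :type_of% (a _))<|d (44856 :type_of% (a _))<|d (31032 :type_of% (a _))<|d (1336 :type_of% (a _))<|d (-72 :type_of% (a _))<|c))))))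

/-- degree `5012280` -/
def r65 : List ℤ := (beta% delta% lq2675025b5c fun a b d _ f _ _ _ _ _ _ _ _ _ _ _ _ _ _ _ _ _ _ _ _ _ _ =>
 (let c:=(let c:=(let c:=(let c:=(b (1 :type_of% (a _))<|b (-1 :type_of% (a _))<|b (0 :type_of% (a _))<|b (1 :type_of% (a _))<|b (1 :type_of% (a _))<|b (0 :type_of% (a _))<|f);
 (b (-1 :type_of% (a _))<|b (-1 :type_of% (a _))<|b (0 :type_of% (a _))<|b (-1 :type_of% (a _))<|b (1 :type_of% (a _))<|b (-1 :type_of% (a _))<|c));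
 (let c:=(b (0 :type_of% (a _))<|b (0 :type_of% (a _))<|b (0 :type_of% (a _))<|b (0 :type_of% (a _))<|b (0 :type_of% (a _))<|b (0 :type_of% (a _))<|c);
 (b (0 :type_of% (a _))<|b (0 :type_of% (a _))<|
 b (1 :type_of% (a _))<|b (-1 :type_of% (a _))<|b (2 :type_of% (a _))<|c)));
 (let c:=(let c:=(b (0 :type_of% (a _))<|b (0 :type_of% (a _))<|b (1 :type_of% (a _))<|b (-1 :type_of% (a _))<|b (0 :type_of% (a _))<|b (0 :type_of% (a _))<|c);
 (b (5 :type_of% (a _))<|b (1 :type_of% (a _))<|b (-5 :type_of% (a _))<|b (-1 :type_of% (a _))<|b (-1 :type_of% (a _))<|b (1 :type_of% (a _))<|c));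
 (let c:=(b (-3 :type_of% (a _))<|b (1 :type_of% (a _))<|b (3 :type_of% (a _))<|b (-3 :type_of% (a _))<|b (0 :type_of% (a _))<|b (0 :type_of% (a _))<|c);
 (b (0 :type_of% (a _))<|b (0 :type_of% (a _))<|b (0 :type_of% (a _))<|b (0 :type_of% (a _))<|b (1 :type_of% (a _))<|c))));
 (let c:=(let c:=(let c:=(b (4 :type_of% (a _))<|b (-4 :type_of% (a _))<|b (4 :type_of% (a _))<|b (0 :type_of% (a _))<|b (0 :type_of% (a _))<|b (0 :type_of% (a _))<|c);
 (b (0 :type_of% (a _))<|b (0 :type_of% (a _))<|b (-7 :type_of% (a _))<|b (8 :type_of% (a _))<|b (-8 :type_of% (a _))<|b (-4 :type_of% (a _))<|c));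
 (let c:=(b (0 :type_of% (a _))<|b (0 :type_of% (a _))<|b (7 :type_of% (a _))<|b (1 :type_of% (a _))<|b (3 :type_of% (a _))<|b (-3 :type_of% (a _))<|c);
 (b (5 :type_of% (a _))<|b (15 :type_of% (a _))<|b (-39 :type_of% (a _))<|
 b (3 :type_of% (a _))<|b (21 :type_of% (a _))<|c)));
 (let c:=(let c:=(b (-16 :type_of% (a _))<|b (16 :type_of% (a _))<|b (-24 :type_of% (a _))<|b (-16 :type_of% (a _))<|b (0 :type_of% (a _))<|b (-8 :type_of% (a _))<|c);
 (b (56 :type_of% (a _))<|b (304 :type_of% (a _))<|b (-16 :type_of% (a _))<|b (-72 :type_of% (a _))<|b (24 :type_of% (a _))<|b (-8 :type_of% (a _))<|c));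
 (let c:=(b (27 :type_of% (a _))<|b (189 :type_of% (a _))<|b (0 :type_of% (a _))<|b (-360 :type_of% (a _))<|b (-72 :type_of% (a _))<|b (-104 :type_of% (a _))<|c);
 (d (5012280 :type_of% (a _))<|d (31032 :type_of% (a _))<|d (44856 :type_of% (a _))<|d (1336 :type_of% (a _))<|d (-72 :type_of% (a _))<|c))))))

/-- degree `5640192` -/
def r66 : List ℤ := (beta% delta% lq2675025b5c fun a b d _ f _ _ _ _ _ _ _ _ _ _ _ _ _ _ _ _ _ _ _ _ _ _ =>
 (let c:=(let c:=(let c:=(let c:=(b (0 :type_of% (a _))<|b (0 :type_of% (a _))<|b (0 :type_of% (a _))<|b (0 :type_of% (a _))<|b (-1 :type_of% (a _))<|b (-1 :type_of% (a _))<|f);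
 (b (-1 :type_of% (a _))<|b (1 :type_of% (a _))<|b (1 :type_of% (a _))<|b (1 :type_of% (a _))<|b (0 :type_of% (a _))<|b (0 :type_of% (a _))<|c));
 (let c:=(b (0 :type_of% (a _))<|b (0 :type_of% (a _))<|
 b (0 :type_of% (a _))<|b (0 :type_of% (a _))<|b (0 :type_of% (a _))<|b (0 :type_of% (a _))<|c);
 (b (-1 :type_of% (a _))<|b (2 :type_of% (a _))<|b (2 :type_of% (a _))<|b (-1 :type_of% (a _))<|b (-1 :type_of% (a _))<|c)));
 (let c:=(let c:=(b (0 :type_of% (a _))<|b (0 :type_of% (a _))<|b (0 :type_of% (a _))<|b (0 :type_of% (a _))<|b (0 :type_of% (a _))<|b (0 :type_of% (a _))<|c);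
 (b (-4 :type_of% (a _))<|b (4 :type_of% (a _))<|b (4 :type_of% (a _))<|b (-4 :type_of% (a _))<|b (0 :type_of% (a _))<|b (0 :type_of% (a _))<|c));
 (let c:=(b (-1 :type_of% (a _))<|b (1 :type_of% (a _))<|b (0 :type_of% (a _))<|b (0 :type_of% (a _))<|b (0 :type_of% (a _))<|b (0 :type_of% (a _))<|c);
 (b (0 :type_of% (a _))<|b (0 :type_of% (a _))<|b (0 :type_of% (a _))<|b (0 :type_of% (a _))<|b (-1 :type_of% (a _))<|c))));
 (let c:=(let c:=(let c:=(b (0 :type_of% (a _))<|b (0 :type_of% (a _))<|b (0 :type_of% (a _))<|b (0 :type_of% (a _))<|b (0 :type_of% (a _))<|b (0 :type_of% (a _))<|c);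
 (b (0 :type_of% (a _))<|b (-2 :type_of% (a _))<|b (-2 :type_of% (a _))<|b (0 :type_of% (a _))<|b (0 :type_of% (a _))<|b (0 :type_of% (a _))<|c));
 (let c:=(b (0 :type_of% (a _))<|b (0 :type_of% (a _))<|b (-8 :type_of% (a _))<|
 b (-8 :type_of% (a _))<|b (0 :type_of% (a _))<|b (0 :type_of% (a _))<|c);
 (b (17 :type_of% (a _))<|b (24 :type_of% (a _))<|b (24 :type_of% (a _))<|b (-24 :type_of% (a _))<|b (-24 :type_of% (a _))<|c)));
 (let c:=(let c:=(b (0 :type_of% (a _))<|b (0 :type_of% (a _))<|b (0 :type_of% (a _))<|b (0 :type_of% (a _))<|b (0 :type_of% (a _))<|b (0 :type_of% (a _))<|c);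
 (b (0 :type_of% (a _))<|b (256 :type_of% (a _))<|b (-256 :type_of% (a _))<|b (0 :type_of% (a _))<|b (0 :type_of% (a _))<|b (0 :type_of% (a _))<|c));
 (let c:=(b (-216 :type_of% (a _))<|b (-216 :type_of% (a _))<|b (0 :type_of% (a _))<|b (0 :type_of% (a _))<|b (0 :type_of% (a _))<|b (0 :type_of% (a _))<|c);
 (d (5640192 :type_of% (a _))<|d (36864 :type_of% (a _))<|d (36864 :type_of% (a _))<|d (4096 :type_of% (a _))<|d (0 :type_of% (a _))<|c))))))

/-- degree `5870592` -/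
def r67 : List ℤ := (beta% delta% lq2675025b5c fun a b d _ f _ _ _ _ _ _ _ _ _ _ _ _ _ _ _ _ _ _ _ _ _ _ =>
 (let c:=(let c:=(let c:=(let c:=(b (0 :type_of% (a _))<|b (0 :type_of% (a _))<|b (0 :type_of% (a _))<|b (0 :type_of% (a _))<|b (1 :type_of% (a _))<|b (1 :type_of% (a _))<|f);
 (b (0 :type_of% (a _))<|b (0 :type_of% (a _))<|b (0 :type_of% (a _))<|b (0 :type_of% (a _))<|b (0 :type_of% (a _))<|b (0 :type_of% (a _))<|c));
 (let c:=(b (0 :type_of% (a _))<|b (0 :type_of% (a _))<|b (0 :type_of% (a _))<|b (-1 :type_of% (a _))<|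
 b (0 :type_of% (a _))<|b (0 :type_of% (a _))<|c);
 (b (0 :type_of% (a _))<|b (0 :type_of% (a _))<|b (0 :type_of% (a _))<|b (1 :type_of% (a _))<|b (1 :type_of% (a _))<|c)));
 (let c:=(let c:=(b (0 :type_of% (a _))<|b (0 :type_of% (a _))<|b (0 :type_of% (a _))<|b (0 :type_of% (a _))<|b (0 :type_of% (a _))<|b (0 :type_of% (a _))<|c);
 (b (0 :type_of% (a _))<|b (0 :type_of% (a _))<|b (0 :type_of% (a _))<|b (0 :type_of% (a _))<|b (0 :type_of% (a _))<|b (0 :type_of% (a _))<|c));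
 (let c:=(b (4 :type_of% (a _))<|b (0 :type_of% (a _))<|b (0 :type_of% (a _))<|b (0 :type_of% (a _))<|b (0 :type_of% (a _))<|b (0 :type_of% (a _))<|c);
 (b (0 :type_of% (a _))<|b (0 :type_of% (a _))<|b (0 :type_of% (a _))<|b (0 :type_of% (a _))<|b (4 :type_of% (a _))<|c))));
 (let c:=(let c:=(let c:=(b (0 :type_of% (a _))<|b (0 :type_of% (a _))<|b (0 :type_of% (a _))<|b (0 :type_of% (a _))<|b (0 :type_of% (a _))<|b (0 :type_of% (a _))<|c);
 (b (4 :type_of% (a _))<|b (0 :type_of% (a _))<|b (0 :type_of% (a _))<|b (0 :type_of% (a _))<|b (0 :type_of% (a _))<|b (0 :type_of% (a _))<|c));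
 (let c:=(b (12 :type_of% (a _))<|b (12 :type_of% (a _))<|
 b (8 :type_of% (a _))<|b (8 :type_of% (a _))<|b (-8 :type_of% (a _))<|b (-8 :type_of% (a _))<|c);
 (b (-8 :type_of% (a _))<|b (-24 :type_of% (a _))<|b (-24 :type_of% (a _))<|b (-24 :type_of% (a _))<|b (-24 :type_of% (a _))<|c)));
 (let c:=(let c:=(b (0 :type_of% (a _))<|b (0 :type_of% (a _))<|b (0 :type_of% (a _))<|b (0 :type_of% (a _))<|b (0 :type_of% (a _))<|b (0 :type_of% (a _))<|c);
 (b (0 :type_of% (a _))<|b (0 :type_of% (a _))<|b (0 :type_of% (a _))<|b (0 :type_of% (a _))<|b (0 :type_of% (a _))<|b (0 :type_of% (a _))<|c));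
 (let c:=(b (-504 :type_of% (a _))<|b (-504 :type_of% (a _))<|b (36 :type_of% (a _))<|b (0 :type_of% (a _))<|b (0 :type_of% (a _))<|b (0 :type_of% (a _))<|c);
 (d (5870592 :type_of% (a _))<|d (21504 :type_of% (a _))<|d (21504 :type_of% (a _))<|d (5120 :type_of% (a _))<|d (1024 :type_of% (a _))<|c))))))

/-- degree `6497400` -/
def r68 : List ℤ := (beta% delta% lq2675025b5c fun a b d _ f _ _ _ _ _ _ _ _ _ _ _ _ _ _ _ _ _ _ _ _ _ _ =>
 (let c:=(let c:=(let c:=(let c:=(b (1 :type_of% (a _))<|b (-1 :type_of% (a _))<|b (0 :type_of% (a _))<|b (0 :type_of% (a _))<|b (0 :type_of% (a _))<|b (0 :type_of% (a _))<|f);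
 (b (0 :type_of% (a _))<|b (0 :type_of% (a _))<|b (0 :type_of% (a _))<|b (0 :type_of% (a _))<|b (1 :type_of% (a _))<|b (-1 :type_of% (a _))<|c));
 (let c:=(b (0 :type_of% (a _))<|b (0 :type_of% (a _))<|b (0 :type_of% (a _))<|b (0 :type_of% (a _))<|b (0 :type_of% (a _))<|b (0 :type_of% (a _))<|c);
 (b (0 :type_of% (a _))<|b (0 :type_of% (a _))<|b (0 :type_of% (a _))<|b (0 :type_of% (a _))<|b (0 :type_of% (a _))<|c)));
 (let c:=(let c:=(b (0 :type_of% (a _))<|b (-2 :type_of% (a _))<|b (1 :type_of% (a _))<|b (1 :type_of% (a _))<|b (0 :type_of% (a _))<|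
 b (0 :type_of% (a _))<|c);
 (b (-3 :type_of% (a _))<|b (1 :type_of% (a _))<|b (1 :type_of% (a _))<|b (-3 :type_of% (a _))<|b (3 :type_of% (a _))<|b (-1 :type_of% (a _))<|c));
 (let c:=(b (0 :type_of% (a _))<|b (0 :type_of% (a _))<|b (-1 :type_of% (a _))<|b (3 :type_of% (a _))<|b (0 :type_of% (a _))<|b (2 :type_of% (a _))<|c);
 (b (0 :type_of% (a _))<|b (0 :type_of% (a _))<|b (0 :type_of% (a _))<|b (0 :type_of% (a _))<|b (0 :type_of% (a _))<|c))));
 (let c:=(let c:=(let c:=(b (4 :type_of% (a _))<|b (-4 :type_of% (a _))<|b (4 :type_of% (a _))<|b (0 :type_of% (a _))<|b (0 :type_of% (a _))<|b (0 :type_of% (a _))<|c);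
 (b (2 :type_of% (a _))<|b (0 :type_of% (a _))<|b (0 :type_of% (a _))<|b (-8 :type_of% (a _))<|b (8 :type_of% (a _))<|b (-4 :type_of% (a _))<|c));
 (let c:=(b (-6 :type_of% (a _))<|b (-18 :type_of% (a _))<|b (-5 :type_of% (a _))<|b (19 :type_of% (a _))<|b (-1 :type_of% (a _))<|b (-1 :type_of% (a _))<|c);
 (b (0 :type_of% (a _))<|b (-45 :type_of% (a _))<|
 b (75 :type_of% (a _))<|b (15 :type_of% (a _))<|b (15 :type_of% (a _))<|c)));
 (let c:=(let c:=(b (16 :type_of% (a _))<|b (-80 :type_of% (a _))<|b (-24 :type_of% (a _))<|b (-16 :type_of% (a _))<|b (0 :type_of% (a _))<|b (-8 :type_of% (a _))<|c);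
 (b (-168 :type_of% (a _))<|b (-80 :type_of% (a _))<|b (240 :type_of% (a _))<|b (24 :type_of% (a _))<|b (-8 :type_of% (a _))<|b (-8 :type_of% (a _))<|c));
 (let c:=(b (-105 :type_of% (a _))<|b (-105 :type_of% (a _))<|b (-42 :type_of% (a _))<|b (-72 :type_of% (a _))<|b (344 :type_of% (a _))<|b (56 :type_of% (a _))<|c);
 (d (6497400 :type_of% (a _))<|d (46200 :type_of% (a _))<|d (-7560 :type_of% (a _))<|d (2680 :type_of% (a _))<|d (248 :type_of% (a _))<|c))))))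

/-- degree `6497400` -/
def r69 : List ℤ := (beta% delta% lq2675025b5c fun a b d _ f _ _ _ _ _ _ _ _ _ _ _ _ _ _ _ _ _ _ _ _ _ _ =>
 (let c:=(let c:=(let c:=(let c:=(b (-1 :type_of% (a _))<|b (1 :type_of% (a _))<|b (0 :type_of% (a _))<|b (0 :type_of% (a _))<|b (0 :type_of% (a _))<|b (0 :type_of% (a _))<|f);
 (b (0 :type_of% (a _))<|b (0 :type_of% (a _))<|b (0 :type_of% (a _))<|b (0 :type_of% (a _))<|b (-1 :type_of% (a _))<|b (1 :type_of% (a _))<|c));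
 (let c:=(b (0 :type_of% (a _))<|b (0 :type_of% (a _))<|b (0 :type_of% (a _))<|b (0 :type_of% (a _))<|b (0 :type_of% (a _))<|b (0 :type_of% (a _))<|c);
 (b (0 :type_of% (a _))<|b (0 :type_of% (a _))<|b (0 :type_of% (a _))<|b (0 :type_of% (a _))<|b (0 :type_of% (a _))<|c)));
 (let c:=(let c:=(b (-2 :type_of% (a _))<|b (0 :type_of% (a _))<|b (1 :type_of% (a _))<|b (1 :type_of% (a _))<|
 b (0 :type_of% (a _))<|b (0 :type_of% (a _))<|c);
 (b (-3 :type_of% (a _))<|b (1 :type_of% (a _))<|b (1 :type_of% (a _))<|b (-3 :type_of% (a _))<|b (-1 :type_of% (a _))<|b (3 :type_of% (a _))<|c));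
 (let c:=(b (0 :type_of% (a _))<|b (0 :type_of% (a _))<|b (3 :type_of% (a _))<|b (-1 :type_of% (a _))<|b (2 :type_of% (a _))<|b (0 :type_of% (a _))<|c);
 (b (0 :type_of% (a _))<|b (0 :type_of% (a _))<|b (0 :type_of% (a _))<|b (0 :type_of% (a _))<|b (0 :type_of% (a _))<|c))));
 (let c:=(let c:=(let c:=(b (-4 :type_of% (a _))<|b (4 :type_of% (a _))<|b (-4 :type_of% (a _))<|b (0 :type_of% (a _))<|b (0 :type_of% (a _))<|b (0 :type_of% (a _))<|c);
 (b (2 :type_of% (a _))<|b (0 :type_of% (a _))<|b (0 :type_of% (a _))<|b (-8 :type_of% (a _))<|b (8 :type_of% (a _))<|b (4 :type_of% (a _))<|c));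
 (let c:=(b (-18 :type_of% (a _))<|b (-6 :type_of% (a _))<|b (19 :type_of% (a _))<|b (-5 :type_of% (a _))<|b (-1 :type_of% (a _))<|b (-1 :type_of% (a _))<|c);
 (b (0 :type_of% (a _))<|b (75 :type_of% (a _))<|
 b (-45 :type_of% (a _))<|b (15 :type_of% (a _))<|b (15 :type_of% (a _))<|c)));
 (let c:=(let c:=(b (-80 :type_of% (a _))<|b (16 :type_of% (a _))<|b (-24 :type_of% (a _))<|b (-16 :type_of% (a _))<|b (0 :type_of% (a _))<|b (-8 :type_of% (a _))<|c);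
 (b (56 :type_of% (a _))<|b (-80 :type_of% (a _))<|b (240 :type_of% (a _))<|b (-8 :type_of% (a _))<|b (24 :type_of% (a _))<|b (-8 :type_of% (a _))<|c));
 (let c:=(b (-105 :type_of% (a _))<|b (-105 :type_of% (a _))<|b (-42 :type_of% (a _))<|b (344 :type_of% (a _))<|b (-72 :type_of% (a _))<|b (-168 :type_of% (a _))<|c);
 (d (6497400 :type_of% (a _))<|d (-7560 :type_of% (a _))<|d (46200 :type_of% (a _))<|d (2680 :type_of% (a _))<|d (248 :type_of% (a _))<|c))))))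

/-- degree `7309575` -/
def r70 : List ℤ := (beta% delta% lq2675025b5c fun a b d _ f _ _ _ _ _ _ _ _ _ _ _ _ _ _ _ _ _ _ _ _ _ _ =>
 (let c:=(let c:=(let c:=(let c:=(b (0 :type_of% (a _))<|b (0 :type_of% (a _))<|b (0 :type_of% (a _))<|b (0 :type_of% (a _))<|b (0 :type_of% (a _))<|b (0 :type_of% (a _))<|f);
 (b (0 :type_of% (a _))<|b (0 :type_of% (a _))<|b (0 :type_of% (a _))<|b (0 :type_of% (a _))<|b (0 :type_of% (a _))<|b (0 :type_of% (a _))<|c));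
 (let c:=(b (-1 :type_of% (a _))<|b (-1 :type_of% (a _))<|b (-1 :type_of% (a _))<|b (0 :type_of% (a _))<|b (0 :type_of% (a _))<|b (0 :type_of% (a _))<|c);
 (b (0 :type_of% (a _))<|b (0 :type_of% (a _))<|b (0 :type_of% (a _))<|b (0 :type_of% (a _))<|
 b (0 :type_of% (a _))<|c)));
 (let c:=(let c:=(b (3 :type_of% (a _))<|b (-1 :type_of% (a _))<|b (0 :type_of% (a _))<|b (0 :type_of% (a _))<|b (1 :type_of% (a _))<|b (1 :type_of% (a _))<|c);
 (b (0 :type_of% (a _))<|b (0 :type_of% (a _))<|b (0 :type_of% (a _))<|b (0 :type_of% (a _))<|b (0 :type_of% (a _))<|b (0 :type_of% (a _))<|c));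
 (let c:=(b (0 :type_of% (a _))<|b (0 :type_of% (a _))<|b (0 :type_of% (a _))<|b (0 :type_of% (a _))<|b (-9 :type_of% (a _))<|b (3 :type_of% (a _))<|c);
 (b (-1 :type_of% (a _))<|b (-1 :type_of% (a _))<|b (0 :type_of% (a _))<|b (0 :type_of% (a _))<|b (0 :type_of% (a _))<|c))));
 (let c:=(let c:=(let c:=(b (3 :type_of% (a _))<|b (3 :type_of% (a _))<|b (3 :type_of% (a _))<|b (-1 :type_of% (a _))<|b (7 :type_of% (a _))<|b (-9 :type_of% (a _))<|c);
 (b (-3 :type_of% (a _))<|b (0 :type_of% (a _))<|b (0 :type_of% (a _))<|b (-1 :type_of% (a _))<|b (-1 :type_of% (a _))<|b (3 :type_of% (a _))<|c));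
 (let c:=(b (9 :type_of% (a _))<|b (9 :type_of% (a _))<|b (0 :type_of% (a _))<|b (0 :type_of% (a _))<|b (0 :type_of% (a _))<|b (0 :type_of% (a _))<|c);
 (b (0 :type_of% (a _))<|b (0 :type_of% (a _))<|b (0 :type_of% (a _))<|b (0 :type_of% (a _))<|
 b (0 :type_of% (a _))<|c)));
 (let c:=(let c:=(b (-9 :type_of% (a _))<|b (-9 :type_of% (a _))<|b (7 :type_of% (a _))<|b (-25 :type_of% (a _))<|b (7 :type_of% (a _))<|b (7 :type_of% (a _))<|c);
 (b (-105 :type_of% (a _))<|b (135 :type_of% (a _))<|b (135 :type_of% (a _))<|b (-9 :type_of% (a _))<|b (119 :type_of% (a _))<|b (-25 :type_of% (a _))<|c));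
 (let c:=(b (0 :type_of% (a _))<|b (0 :type_of% (a _))<|b (-27 :type_of% (a _))<|b (855 :type_of% (a _))<|b (-681 :type_of% (a _))<|b (-105 :type_of% (a _))<|c);
 (d (7309575 :type_of% (a _))<|d (-28665 :type_of% (a _))<|d (-28665 :type_of% (a _))<|d (5895 :type_of% (a _))<|d (-249 :type_of% (a _))<|c))))))

/-- degree `7309575` -/
def r71 : List ℤ := (beta% delta% lq2675025b5c fun a b d _ f _ _ _ _ _ _ _ _ _ _ _ _ _ _ _ _ _ _ _ _ _ _ =>
 (let c:=(let c:=(let c:=(let c:=(b (0 :type_of% (a _))<|b (0 :type_of% (a _))<|b (0 :type_of% (a _))<|b (0 :type_of% (a _))<|b (0 :type_of% (a _))<|b (0 :type_of% (a _))<|f);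
 (b (0 :type_of% (a _))<|b (0 :type_of% (a _))<|b (0 :type_of% (a _))<|b (0 :type_of% (a _))<|b (0 :type_of% (a _))<|b (0 :type_of% (a _))<|c));
 (let c:=(b (-1 :type_of% (a _))<|b (-1 :type_of% (a _))<|b (-1 :type_of% (a _))<|b (0 :type_of% (a _))<|b (0 :type_of% (a _))<|b (0 :type_of% (a _))<|c);
 (b (0 :type_of% (a _))<|b (0 :type_of% (a _))<|b (0 :type_of% (a _))<|b (0 :type_of% (a _))<|
 b (0 :type_of% (a _))<|c)));
 (let c:=(let c:=(b (-1 :type_of% (a _))<|b (3 :type_of% (a _))<|b (0 :type_of% (a _))<|b (0 :type_of% (a _))<|b (1 :type_of% (a _))<|b (1 :type_of% (a _))<|c);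
 (b (0 :type_of% (a _))<|b (0 :type_of% (a _))<|b (0 :type_of% (a _))<|b (0 :type_of% (a _))<|b (0 :type_of% (a _))<|b (0 :type_of% (a _))<|c));
 (let c:=(b (0 :type_of% (a _))<|b (0 :type_of% (a _))<|b (0 :type_of% (a _))<|b (0 :type_of% (a _))<|b (3 :type_of% (a _))<|b (-9 :type_of% (a _))<|c);
 (b (-1 :type_of% (a _))<|b (-1 :type_of% (a _))<|b (0 :type_of% (a _))<|b (0 :type_of% (a _))<|b (0 :type_of% (a _))<|c))));
 (let c:=(let c:=(let c:=(b (3 :type_of% (a _))<|b (3 :type_of% (a _))<|b (3 :type_of% (a _))<|b (-1 :type_of% (a _))<|b (-9 :type_of% (a _))<|b (7 :type_of% (a _))<|c);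
 (b (-3 :type_of% (a _))<|b (0 :type_of% (a _))<|b (0 :type_of% (a _))<|b (-1 :type_of% (a _))<|b (-1 :type_of% (a _))<|b (3 :type_of% (a _))<|c));
 (let c:=(b (9 :type_of% (a _))<|b (9 :type_of% (a _))<|b (0 :type_of% (a _))<|b (0 :type_of% (a _))<|b (0 :type_of% (a _))<|b (0 :type_of% (a _))<|c);
 (b (0 :type_of% (a _))<|b (0 :type_of% (a _))<|b (0 :type_of% (a _))<|b (0 :type_of% (a _))<|
 b (0 :type_of% (a _))<|c)));
 (let c:=(let c:=(b (-9 :type_of% (a _))<|b (-9 :type_of% (a _))<|b (7 :type_of% (a _))<|b (-25 :type_of% (a _))<|b (7 :type_of% (a _))<|b (7 :type_of% (a _))<|c);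
 (b (-105 :type_of% (a _))<|b (135 :type_of% (a _))<|b (135 :type_of% (a _))<|b (119 :type_of% (a _))<|b (-9 :type_of% (a _))<|b (-25 :type_of% (a _))<|c));
 (let c:=(b (0 :type_of% (a _))<|b (0 :type_of% (a _))<|b (-27 :type_of% (a _))<|b (-681 :type_of% (a _))<|b (855 :type_of% (a _))<|b (-105 :type_of% (a _))<|c);
 (d (7309575 :type_of% (a _))<|d (-28665 :type_of% (a _))<|d (-28665 :type_of% (a _))<|d (5895 :type_of% (a _))<|d (-249 :type_of% (a _))<|c))))))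

/-- degree `7894341` -/
def r72 : List ℤ := (beta% delta% lq2675025b5c fun a b d _ f _ _ _ _ _ _ _ _ _ _ _ _ _ _ _ _ _ _ _ _ _ _ =>
 (let c:=(let c:=(let c:=(let c:=(b (0 :type_of% (a _))<|b (0 :type_of% (a _))<|b (0 :type_of% (a _))<|b (0 :type_of% (a _))<|b (0 :type_of% (a _))<|b (0 :type_of% (a _))<|f);
 (b (1 :type_of% (a _))<|b (-1 :type_of% (a _))<|b (0 :type_of% (a _))<|b (0 :type_of% (a _))<|b (0 :type_of% (a _))<|b (0 :type_of% (a _))<|c));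
 (let c:=(b (-1 :type_of% (a _))<|b (1 :type_of% (a _))<|b (1 :type_of% (a _))<|b (0 :type_of% (a _))<|b (0 :type_of% (a _))<|b (0 :type_of% (a _))<|c);
 (b (0 :type_of% (a _))<|b (0 :type_of% (a _))<|b (0 :type_of% (a _))<|b (0 :type_of% (a _))<|b (0 :type_of% (a _))<|
 c)));
 (let c:=(let c:=(b (0 :type_of% (a _))<|b (0 :type_of% (a _))<|b (0 :type_of% (a _))<|b (0 :type_of% (a _))<|b (0 :type_of% (a _))<|b (0 :type_of% (a _))<|c);
 (b (0 :type_of% (a _))<|b (0 :type_of% (a _))<|b (0 :type_of% (a _))<|b (0 :type_of% (a _))<|b (0 :type_of% (a _))<|b (0 :type_of% (a _))<|c));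
 (let c:=(b (-3 :type_of% (a _))<|b (-1 :type_of% (a _))<|b (0 :type_of% (a _))<|b (0 :type_of% (a _))<|b (0 :type_of% (a _))<|b (0 :type_of% (a _))<|c);
 (b (1 :type_of% (a _))<|b (1 :type_of% (a _))<|b (0 :type_of% (a _))<|b (0 :type_of% (a _))<|b (-3 :type_of% (a _))<|c))));
 (let c:=(let c:=(let c:=(b (-3 :type_of% (a _))<|b (-3 :type_of% (a _))<|b (9 :type_of% (a _))<|b (9 :type_of% (a _))<|b (5 :type_of% (a _))<|b (5 :type_of% (a _))<|c);
 (b (0 :type_of% (a _))<|b (0 :type_of% (a _))<|b (0 :type_of% (a _))<|b (-3 :type_of% (a _))<|b (5 :type_of% (a _))<|b (9 :type_of% (a _))<|c));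
 (let c:=(b (0 :type_of% (a _))<|b (0 :type_of% (a _))<|b (0 :type_of% (a _))<|b (0 :type_of% (a _))<|b (0 :type_of% (a _))<|b (0 :type_of% (a _))<|c);
 (b (-9 :type_of% (a _))<|b (0 :type_of% (a _))<|b (0 :type_of% (a _))<|b (0 :type_of% (a _))<|
 b (0 :type_of% (a _))<|c)));
 (let c:=(let c:=(b (33 :type_of% (a _))<|b (33 :type_of% (a _))<|b (-3 :type_of% (a _))<|b (9 :type_of% (a _))<|b (-15 :type_of% (a _))<|b (-11 :type_of% (a _))<|c);
 (b (-483 :type_of% (a _))<|b (9 :type_of% (a _))<|b (-279 :type_of% (a _))<|b (-99 :type_of% (a _))<|b (-99 :type_of% (a _))<|b (-59 :type_of% (a _))<|c));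
 (let c:=(b (0 :type_of% (a _))<|b (0 :type_of% (a _))<|b (0 :type_of% (a _))<|b (189 :type_of% (a _))<|b (189 :type_of% (a _))<|b (-483 :type_of% (a _))<|c);
 (d (7894341 :type_of% (a _))<|d (-16443 :type_of% (a _))<|d (-16443 :type_of% (a _))<|d (7749 :type_of% (a _))<|d (261 :type_of% (a _))<|c))))))

/-- degree `8055450` -/
def r73 : List ℤ := (beta% delta% lq2675025b5c fun a b d _ f _ _ _ _ _ _ _ _ _ _ _ _ _ _ _ _ _ _ _ _ _ _ =>
 (let c:=(let c:=(let c:=(let c:=(b (0 :type_of% (a _))<|b (0 :type_of% (a _))<|b (-1 :type_of% (a _))<|b (1 :type_of% (a _))<|b (0 :type_of% (a _))<|b (0 :type_of% (a _))<|f);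
 (b (0 :type_of% (a _))<|b (0 :type_of% (a _))<|b (0 :type_of% (a _))<|b (0 :type_of% (a _))<|b (0 :type_of% (a _))<|b (0 :type_of% (a _))<|c));
 (let c:=(b (0 :type_of% (a _))<|b (0 :type_of% (a _))<|b (0 :type_of% (a _))<|b (0 :type_of% (a _))<|b (0 :type_of% (a _))<|b (0 :type_of% (a _))<|c);
 (b (0 :type_of% (a _))<|b (1 :type_of% (a _))<|b (-3 :type_of% (a _))<|b (0 :type_of% (a _))<|b (0 :type_of% (a _))<|
 c)));
 (let c:=(let c:=(b (0 :type_of% (a _))<|b (0 :type_of% (a _))<|b (0 :type_of% (a _))<|b (0 :type_of% (a _))<|b (0 :type_of% (a _))<|b (0 :type_of% (a _))<|c);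
 (b (0 :type_of% (a _))<|b (0 :type_of% (a _))<|b (0 :type_of% (a _))<|b (0 :type_of% (a _))<|b (0 :type_of% (a _))<|b (0 :type_of% (a _))<|c));
 (let c:=(b (0 :type_of% (a _))<|b (0 :type_of% (a _))<|b (0 :type_of% (a _))<|b (0 :type_of% (a _))<|b (0 :type_of% (a _))<|b (0 :type_of% (a _))<|c);
 (b (2 :type_of% (a _))<|b (2 :type_of% (a _))<|b (0 :type_of% (a _))<|b (0 :type_of% (a _))<|b (0 :type_of% (a _))<|c))));
 (let c:=(let c:=(let c:=(b (-6 :type_of% (a _))<|b (6 :type_of% (a _))<|b (6 :type_of% (a _))<|b (-2 :type_of% (a _))<|b (-2 :type_of% (a _))<|b (6 :type_of% (a _))<|c);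
 (b (0 :type_of% (a _))<|b (-3 :type_of% (a _))<|b (-3 :type_of% (a _))<|b (6 :type_of% (a _))<|b (6 :type_of% (a _))<|b (-6 :type_of% (a _))<|c));
 (let c:=(b (0 :type_of% (a _))<|b (0 :type_of% (a _))<|b (0 :type_of% (a _))<|b (0 :type_of% (a _))<|b (0 :type_of% (a _))<|b (0 :type_of% (a _))<|c);
 (b (0 :type_of% (a _))<|b (0 :type_of% (a _))<|b (0 :type_of% (a _))<|b (0 :type_of% (a _))<|b (0 :type_of% (a _))<|
 c)));
 (let c:=(let c:=(b (-30 :type_of% (a _))<|b (18 :type_of% (a _))<|b (-6 :type_of% (a _))<|b (2 :type_of% (a _))<|b (18 :type_of% (a _))<|b (10 :type_of% (a _))<|c);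
 (b (90 :type_of% (a _))<|b (-270 :type_of% (a _))<|b (-270 :type_of% (a _))<|b (42 :type_of% (a _))<|b (90 :type_of% (a _))<|b (-54 :type_of% (a _))<|c));
 (let c:=(b (0 :type_of% (a _))<|b (0 :type_of% (a _))<|b (0 :type_of% (a _))<|b (-54 :type_of% (a _))<|b (-486 :type_of% (a _))<|b (330 :type_of% (a _))<|c);
 (d (8055450 :type_of% (a _))<|d (72090 :type_of% (a _))<|d (-31590 :type_of% (a _))<|d (2970 :type_of% (a _))<|d (-486 :type_of% (a _))<|c))))))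

/-- degree `8055450` -/
def r74 : List ℤ := (beta% delta% lq2675025b5c fun a b d _ f _ _ _ _ _ _ _ _ _ _ _ _ _ _ _ _ _ _ _ _ _ _ =>
 (let c:=(let c:=(let c:=(let c:=(b (0 :type_of% (a _))<|b (0 :type_of% (a _))<|b (1 :type_of% (a _))<|b (-1 :type_of% (a _))<|b (0 :type_of% (a _))<|b (0 :type_of% (a _))<|f);
 (b (0 :type_of% (a _))<|b (0 :type_of% (a _))<|b (0 :type_of% (a _))<|b (0 :type_of% (a _))<|b (0 :type_of% (a _))<|b (0 :type_of% (a _))<|c));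
 (let c:=(b (0 :type_of% (a _))<|b (0 :type_of% (a _))<|b (0 :type_of% (a _))<|b (0 :type_of% (a _))<|b (0 :type_of% (a _))<|b (0 :type_of% (a _))<|c);
 (b (0 :type_of% (a _))<|b (-3 :type_of% (a _))<|b (1 :type_of% (a _))<|b (0 :type_of% (a _))<|b (0 :type_of% (a _))<|
 c)));
 (let c:=(let c:=(b (0 :type_of% (a _))<|b (0 :type_of% (a _))<|b (0 :type_of% (a _))<|b (0 :type_of% (a _))<|b (0 :type_of% (a _))<|b (0 :type_of% (a _))<|c);
 (b (0 :type_of% (a _))<|b (0 :type_of% (a _))<|b (0 :type_of% (a _))<|b (0 :type_of% (a _))<|b (0 :type_of% (a _))<|b (0 :type_of% (a _))<|c));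
 (let c:=(b (0 :type_of% (a _))<|b (0 :type_of% (a _))<|b (0 :type_of% (a _))<|b (0 :type_of% (a _))<|b (0 :type_of% (a _))<|b (0 :type_of% (a _))<|c);
 (b (2 :type_of% (a _))<|b (2 :type_of% (a _))<|b (0 :type_of% (a _))<|b (0 :type_of% (a _))<|b (0 :type_of% (a _))<|c))));
 (let c:=(let c:=(let c:=(b (6 :type_of% (a _))<|b (-6 :type_of% (a _))<|b (-6 :type_of% (a _))<|b (-2 :type_of% (a _))<|b (6 :type_of% (a _))<|b (-2 :type_of% (a _))<|c);
 (b (0 :type_of% (a _))<|b (-3 :type_of% (a _))<|b (-3 :type_of% (a _))<|b (6 :type_of% (a _))<|b (6 :type_of% (a _))<|b (6 :type_of% (a _))<|c));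
 (let c:=(b (0 :type_of% (a _))<|b (0 :type_of% (a _))<|b (0 :type_of% (a _))<|b (0 :type_of% (a _))<|b (0 :type_of% (a _))<|b (0 :type_of% (a _))<|c);
 (b (0 :type_of% (a _))<|b (0 :type_of% (a _))<|b (0 :type_of% (a _))<|b (0 :type_of% (a _))<|b (0 :type_of% (a _))<|
 c)));
 (let c:=(let c:=(b (18 :type_of% (a _))<|b (-30 :type_of% (a _))<|b (-6 :type_of% (a _))<|b (2 :type_of% (a _))<|b (18 :type_of% (a _))<|b (10 :type_of% (a _))<|c);
 (b (330 :type_of% (a _))<|b (-270 :type_of% (a _))<|b (-270 :type_of% (a _))<|b (90 :type_of% (a _))<|b (42 :type_of% (a _))<|b (-54 :type_of% (a _))<|c));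
 (let c:=(b (0 :type_of% (a _))<|b (0 :type_of% (a _))<|b (0 :type_of% (a _))<|b (-486 :type_of% (a _))<|b (-54 :type_of% (a _))<|b (90 :type_of% (a _))<|c);
 (d (8055450 :type_of% (a _))<|d (-31590 :type_of% (a _))<|d (72090 :type_of% (a _))<|d (2970 :type_of% (a _))<|d (-486 :type_of% (a _))<|c))))))

/-- degree `8771490` -/
def r75 : List ℤ := (beta% delta% lq2675025b5c fun a b d _ f _ _ _ _ _ _ _ _ _ _ _ _ _ _ _ _ _ _ _ _ _ _ =>
 (let c:=(let c:=(let c:=(let c:=(b (-1 :type_of% (a _))<|b (-1 :type_of% (a _))<|b (0 :type_of% (a _))<|b (0 :type_of% (a _))<|b (1 :type_of% (a _))<|b (-1 :type_of% (a _))<|f);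
 (b (0 :type_of% (a _))<|b (0 :type_of% (a _))<|b (0 :type_of% (a _))<|b (0 :type_of% (a _))<|b (1 :type_of% (a _))<|b (1 :type_of% (a _))<|c));
 (let c:=(b (0 :type_of% (a _))<|b (0 :type_of% (a _))<|b (0 :type_of% (a _))<|b (0 :type_of% (a _))<|b (0 :type_of% (a _))<|b (0 :type_of% (a _))<|c);
 (b (0 :type_of% (a _))<|b (0 :type_of% (a _))<|b (0 :type_of% (a _))<|b (-1 :type_of% (a _))<|b (-1 :type_of% (a _))<|c)));
 (let c:=(let c:=(b (0 :type_of% (a _))<|b (0 :type_of% (a _))<|b (1 :type_of% (a _))<|b (1 :type_of% (a _))<|b (0 :type_of% (a _))<|b (0 :type_of% (a _))<|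
 c);
 (b (1 :type_of% (a _))<|b (1 :type_of% (a _))<|b (1 :type_of% (a _))<|b (1 :type_of% (a _))<|b (-3 :type_of% (a _))<|b (1 :type_of% (a _))<|c));
 (let c:=(b (2 :type_of% (a _))<|b (2 :type_of% (a _))<|b (-3 :type_of% (a _))<|b (9 :type_of% (a _))<|b (0 :type_of% (a _))<|b (0 :type_of% (a _))<|c);
 (b (-2 :type_of% (a _))<|b (-2 :type_of% (a _))<|b (0 :type_of% (a _))<|b (0 :type_of% (a _))<|b (-2 :type_of% (a _))<|c))));
 (let c:=(let c:=(let c:=(b (2 :type_of% (a _))<|b (-2 :type_of% (a _))<|b (-2 :type_of% (a _))<|b (6 :type_of% (a _))<|b (6 :type_of% (a _))<|b (-2 :type_of% (a _))<|c);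
 (b (0 :type_of% (a _))<|b (0 :type_of% (a _))<|b (0 :type_of% (a _))<|b (-2 :type_of% (a _))<|b (-2 :type_of% (a _))<|b (2 :type_of% (a _))<|c));
 (let c:=(b (0 :type_of% (a _))<|b (0 :type_of% (a _))<|b (13 :type_of% (a _))<|b (-11 :type_of% (a _))<|b (-3 :type_of% (a _))<|b (-3 :type_of% (a _))<|c);
 (b (-10 :type_of% (a _))<|b (-51 :type_of% (a _))<|b (21 :type_of% (a _))<|
 b (-3 :type_of% (a _))<|b (-3 :type_of% (a _))<|c)));
 (let c:=(let c:=(b (-38 :type_of% (a _))<|b (10 :type_of% (a _))<|b (18 :type_of% (a _))<|b (26 :type_of% (a _))<|b (-6 :type_of% (a _))<|b (2 :type_of% (a _))<|c);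
 (b (-126 :type_of% (a _))<|b (10 :type_of% (a _))<|b (10 :type_of% (a _))<|b (18 :type_of% (a _))<|b (66 :type_of% (a _))<|b (-46 :type_of% (a _))<|c));
 (let c:=(b (189 :type_of% (a _))<|b (189 :type_of% (a _))<|b (0 :type_of% (a _))<|b (-270 :type_of% (a _))<|b (450 :type_of% (a _))<|b (-14 :type_of% (a _))<|c);
 (d (8771490 :type_of% (a _))<|d (46242 :type_of% (a _))<|d (-2142 :type_of% (a _))<|d (-4958 :type_of% (a _))<|d (-222 :type_of% (a _))<|c))))))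

/-- degree `8771490` -/
def r76 : List ℤ := (beta% delta% lq2675025b5c fun a b d _ f _ _ _ _ _ _ _ _ _ _ _ _ _ _ _ _ _ _ _ _ _ _ =>
 (let c:=(let c:=(let c:=(let c:=(b (1 :type_of% (a _))<|b (1 :type_of% (a _))<|b (0 :type_of% (a _))<|b (0 :type_of% (a _))<|b (-1 :type_of% (a _))<|b (1 :type_of% (a _))<|f);
 (b (0 :type_of% (a _))<|b (0 :type_of% (a _))<|b (0 :type_of% (a _))<|b (0 :type_of% (a _))<|b (-1 :type_of% (a _))<|b (-1 :type_of% (a _))<|c));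
 (let c:=(b (0 :type_of% (a _))<|b (0 :type_of% (a _))<|b (0 :type_of% (a _))<|b (0 :type_of% (a _))<|b (0 :type_of% (a _))<|b (0 :type_of% (a _))<|c);
 (b (0 :type_of% (a _))<|b (0 :type_of% (a _))<|b (0 :type_of% (a _))<|b (-1 :type_of% (a _))<|b (-1 :type_of% (a _))<|c)));
 (let c:=(let c:=(b (0 :type_of% (a _))<|b (0 :type_of% (a _))<|b (1 :type_of% (a _))<|b (1 :type_of% (a _))<|b (0 :type_of% (a _))<|b (0 :type_of% (a _))<|
 c);
 (b (1 :type_of% (a _))<|b (1 :type_of% (a _))<|b (1 :type_of% (a _))<|b (1 :type_of% (a _))<|b (1 :type_of% (a _))<|b (-3 :type_of% (a _))<|c));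
 (let c:=(b (-2 :type_of% (a _))<|b (2 :type_of% (a _))<|b (9 :type_of% (a _))<|b (-3 :type_of% (a _))<|b (0 :type_of% (a _))<|b (0 :type_of% (a _))<|c);
 (b (-2 :type_of% (a _))<|b (-2 :type_of% (a _))<|b (0 :type_of% (a _))<|b (0 :type_of% (a _))<|b (2 :type_of% (a _))<|c))));
 (let c:=(let c:=(let c:=(b (-2 :type_of% (a _))<|b (2 :type_of% (a _))<|b (2 :type_of% (a _))<|b (6 :type_of% (a _))<|b (-2 :type_of% (a _))<|b (6 :type_of% (a _))<|c);
 (b (0 :type_of% (a _))<|b (0 :type_of% (a _))<|b (0 :type_of% (a _))<|b (-2 :type_of% (a _))<|b (-2 :type_of% (a _))<|b (-2 :type_of% (a _))<|c));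
 (let c:=(b (0 :type_of% (a _))<|b (0 :type_of% (a _))<|b (-11 :type_of% (a _))<|b (13 :type_of% (a _))<|b (-3 :type_of% (a _))<|b (-3 :type_of% (a _))<|c);
 (b (-10 :type_of% (a _))<|b (21 :type_of% (a _))<|b (-51 :type_of% (a _))<|
 b (-3 :type_of% (a _))<|b (-3 :type_of% (a _))<|c)));
 (let c:=(let c:=(b (10 :type_of% (a _))<|b (-38 :type_of% (a _))<|b (18 :type_of% (a _))<|b (26 :type_of% (a _))<|b (-6 :type_of% (a _))<|b (2 :type_of% (a _))<|c);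
 (b (-14 :type_of% (a _))<|b (10 :type_of% (a _))<|b (10 :type_of% (a _))<|b (66 :type_of% (a _))<|b (18 :type_of% (a _))<|b (-46 :type_of% (a _))<|c));
 (let c:=(b (189 :type_of% (a _))<|b (189 :type_of% (a _))<|b (0 :type_of% (a _))<|b (450 :type_of% (a _))<|b (-270 :type_of% (a _))<|b (-126 :type_of% (a _))<|c);
 (d (8771490 :type_of% (a _))<|d (-2142 :type_of% (a _))<|d (46242 :type_of% (a _))<|d (-4958 :type_of% (a _))<|d (-222 :type_of% (a _))<|c))))))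

/-- degree `9398025` -/
def r77 : List ℤ := (beta% delta% lq2675025b5c fun a b d _ f _ _ _ _ _ _ _ _ _ _ _ _ _ _ _ _ _ _ _ _ _ _ =>
 (let c:=(let c:=(let c:=(let c:=(b (0 :type_of% (a _))<|b (0 :type_of% (a _))<|b (0 :type_of% (a _))<|b (1 :type_of% (a _))<|b (0 :type_of% (a _))<|b (0 :type_of% (a _))<|f);
 (b (0 :type_of% (a _))<|b (0 :type_of% (a _))<|b (0 :type_of% (a _))<|b (-1 :type_of% (a _))<|b (1 :type_of% (a _))<|b (1 :type_of% (a _))<|c));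
 (let c:=(b (-1 :type_of% (a _))<|b (-1 :type_of% (a _))<|b (-1 :type_of% (a _))<|b (0 :type_of% (a _))<|b (0 :type_of% (a _))<|b (0 :type_of% (a _))<|c);
 (b (0 :type_of% (a _))<|b (0 :type_of% (a _))<|
 b (1 :type_of% (a _))<|b (0 :type_of% (a _))<|b (0 :type_of% (a _))<|c)));
 (let c:=(let c:=(b (0 :type_of% (a _))<|b (0 :type_of% (a _))<|b (1 :type_of% (a _))<|b (0 :type_of% (a _))<|b (0 :type_of% (a _))<|b (0 :type_of% (a _))<|c);
 (b (-3 :type_of% (a _))<|b (-3 :type_of% (a _))<|b (0 :type_of% (a _))<|b (0 :type_of% (a _))<|b (5 :type_of% (a _))<|b (0 :type_of% (a _))<|c));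
 (let c:=(b (0 :type_of% (a _))<|b (0 :type_of% (a _))<|b (-3 :type_of% (a _))<|b (0 :type_of% (a _))<|b (0 :type_of% (a _))<|b (0 :type_of% (a _))<|c);
 (b (1 :type_of% (a _))<|b (1 :type_of% (a _))<|b (0 :type_of% (a _))<|b (0 :type_of% (a _))<|b (0 :type_of% (a _))<|c))));
 (let c:=(let c:=(let c:=(b (-3 :type_of% (a _))<|b (1 :type_of% (a _))<|b (1 :type_of% (a _))<|b (-3 :type_of% (a _))<|b (5 :type_of% (a _))<|b (-3 :type_of% (a _))<|c);
 (b (0 :type_of% (a _))<|b (0 :type_of% (a _))<|b (-7 :type_of% (a _))<|b (5 :type_of% (a _))<|b (5 :type_of% (a _))<|b (-3 :type_of% (a _))<|c));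
 (let c:=(b (0 :type_of% (a _))<|b (0 :type_of% (a _))<|b (-3 :type_of% (a _))<|b (0 :type_of% (a _))<|b (-3 :type_of% (a _))<|b (0 :type_of% (a _))<|c);
 (b (0 :type_of% (a _))<|b (45 :type_of% (a _))<|b (0 :type_of% (a _))<|
 b (-27 :type_of% (a _))<|b (0 :type_of% (a _))<|c)));
 (let c:=(let c:=(b (-15 :type_of% (a _))<|b (1 :type_of% (a _))<|b (9 :type_of% (a _))<|b (1 :type_of% (a _))<|b (-15 :type_of% (a _))<|b (-7 :type_of% (a _))<|c);
 (b (665 :type_of% (a _))<|b (-15 :type_of% (a _))<|b (-15 :type_of% (a _))<|b (105 :type_of% (a _))<|b (-135 :type_of% (a _))<|b (-7 :type_of% (a _))<|c));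
 (let c:=(b (405 :type_of% (a _))<|b (0 :type_of% (a _))<|b (0 :type_of% (a _))<|b (297 :type_of% (a _))<|b (153 :type_of% (a _))<|b (-279 :type_of% (a _))<|c);
 (d (9398025 :type_of% (a _))<|d (-2295 :type_of% (a _))<|d (-36855 :type_of% (a _))<|d (-6135 :type_of% (a _))<|d (393 :type_of% (a _))<|c))))))

/-- degree `9398025` -/
def r78 : List ℤ := (beta% delta% lq2675025b5c fun a b d _ f _ _ _ _ _ _ _ _ _ _ _ _ _ _ _ _ _ _ _ _ _ _ =>
 (let c:=(let c:=(let c:=(let c:=(b (1 :type_of% (a _))<|b (1 :type_of% (a _))<|b (1 :type_of% (a _))<|b (0 :type_of% (a _))<|b (0 :type_of% (a _))<|b (0 :type_of% (a _))<|f);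
 (b (0 :type_of% (a _))<|b (0 :type_of% (a _))<|b (-1 :type_of% (a _))<|b (0 :type_of% (a _))<|b (0 :type_of% (a _))<|b (0 :type_of% (a _))<|c));
 (let c:=(b (-1 :type_of% (a _))<|b (-1 :type_of% (a _))<|b (-1 :type_of% (a _))<|b (0 :type_of% (a _))<|b (0 :type_of% (a _))<|b (0 :type_of% (a _))<|c);
 (b (0 :type_of% (a _))<|b (1 :type_of% (a _))<|b (0 :type_of% (a _))<|
 b (0 :type_of% (a _))<|b (0 :type_of% (a _))<|c)));
 (let c:=(let c:=(b (0 :type_of% (a _))<|b (0 :type_of% (a _))<|b (0 :type_of% (a _))<|b (1 :type_of% (a _))<|b (0 :type_of% (a _))<|b (0 :type_of% (a _))<|c);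
 (b (0 :type_of% (a _))<|b (0 :type_of% (a _))<|b (-3 :type_of% (a _))<|b (-3 :type_of% (a _))<|b (0 :type_of% (a _))<|b (5 :type_of% (a _))<|c));
 (let c:=(b (0 :type_of% (a _))<|b (0 :type_of% (a _))<|b (0 :type_of% (a _))<|b (-3 :type_of% (a _))<|b (0 :type_of% (a _))<|b (0 :type_of% (a _))<|c);
 (b (1 :type_of% (a _))<|b (1 :type_of% (a _))<|b (0 :type_of% (a _))<|b (0 :type_of% (a _))<|b (0 :type_of% (a _))<|c))));
 (let c:=(let c:=(let c:=(b (1 :type_of% (a _))<|b (-3 :type_of% (a _))<|b (-3 :type_of% (a _))<|b (-3 :type_of% (a _))<|b (-3 :type_of% (a _))<|b (5 :type_of% (a _))<|c);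
 (b (0 :type_of% (a _))<|b (-7 :type_of% (a _))<|b (0 :type_of% (a _))<|b (5 :type_of% (a _))<|b (5 :type_of% (a _))<|b (1 :type_of% (a _))<|c));
 (let c:=(b (0 :type_of% (a _))<|b (0 :type_of% (a _))<|b (0 :type_of% (a _))<|b (-3 :type_of% (a _))<|b (0 :type_of% (a _))<|b (-3 :type_of% (a _))<|c);
 (b (0 :type_of% (a _))<|b (0 :type_of% (a _))<|b (45 :type_of% (a _))<|b (0 :type_of% (a _))<|
 b (-27 :type_of% (a _))<|c)));
 (let c:=(let c:=(b (1 :type_of% (a _))<|b (-15 :type_of% (a _))<|b (9 :type_of% (a _))<|b (1 :type_of% (a _))<|b (-15 :type_of% (a _))<|b (-7 :type_of% (a _))<|c);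
 (b (-279 :type_of% (a _))<|b (-15 :type_of% (a _))<|b (-15 :type_of% (a _))<|b (-135 :type_of% (a _))<|b (105 :type_of% (a _))<|b (-7 :type_of% (a _))<|c));
 (let c:=(b (0 :type_of% (a _))<|b (405 :type_of% (a _))<|b (0 :type_of% (a _))<|b (153 :type_of% (a _))<|b (297 :type_of% (a _))<|b (665 :type_of% (a _))<|c);
 (d (9398025 :type_of% (a _))<|d (-36855 :type_of% (a _))<|d (-2295 :type_of% (a _))<|d (-6135 :type_of% (a _))<|d (393 :type_of% (a _))<|c))))))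

/-- degree `10740600` -/
def r79 : List ℤ := (beta% delta% lq2675025b5c fun a b d _ f _ _ _ _ _ _ _ _ _ _ _ _ _ _ _ _ _ _ _ _ _ _ =>
 (let c:=(let c:=(let c:=(let c:=(b (0 :type_of% (a _))<|b (0 :type_of% (a _))<|b (1 :type_of% (a _))<|b (-1 :type_of% (a _))<|b (0 :type_of% (a _))<|b (0 :type_of% (a _))<|f);
 (b (0 :type_of% (a _))<|b (0 :type_of% (a _))<|b (0 :type_of% (a _))<|b (1 :type_of% (a _))<|b (-1 :type_of% (a _))<|b (-1 :type_of% (a _))<|c));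
 (let c:=(b (0 :type_of% (a _))<|b (0 :type_of% (a _))<|b (0 :type_of% (a _))<|b (0 :type_of% (a _))<|b (0 :type_of% (a _))<|b (0 :type_of% (a _))<|c);
 (b (0 :type_of% (a _))<|b (-1 :type_of% (a _))<|b (1 :type_of% (a _))<|
 b (0 :type_of% (a _))<|b (0 :type_of% (a _))<|c)));
 (let c:=(let c:=(b (0 :type_of% (a _))<|b (0 :type_of% (a _))<|b (-1 :type_of% (a _))<|b (0 :type_of% (a _))<|b (0 :type_of% (a _))<|b (0 :type_of% (a _))<|c);
 (b (3 :type_of% (a _))<|b (3 :type_of% (a _))<|b (0 :type_of% (a _))<|b (0 :type_of% (a _))<|b (-5 :type_of% (a _))<|b (0 :type_of% (a _))<|c));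
 (let c:=(b (0 :type_of% (a _))<|b (0 :type_of% (a _))<|b (3 :type_of% (a _))<|b (0 :type_of% (a _))<|b (0 :type_of% (a _))<|b (0 :type_of% (a _))<|c);
 (b (0 :type_of% (a _))<|b (0 :type_of% (a _))<|b (0 :type_of% (a _))<|b (0 :type_of% (a _))<|b (0 :type_of% (a _))<|c))));
 (let c:=(let c:=(let c:=(b (0 :type_of% (a _))<|b (8 :type_of% (a _))<|b (8 :type_of% (a _))<|b (0 :type_of% (a _))<|b (0 :type_of% (a _))<|b (0 :type_of% (a _))<|c);
 (b (0 :type_of% (a _))<|b (3 :type_of% (a _))<|b (-11 :type_of% (a _))<|b (0 :type_of% (a _))<|b (0 :type_of% (a _))<|b (0 :type_of% (a _))<|c));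
 (let c:=(b (0 :type_of% (a _))<|b (0 :type_of% (a _))<|b (3 :type_of% (a _))<|b (0 :type_of% (a _))<|b (3 :type_of% (a _))<|b (0 :type_of% (a _))<|c);
 (b (0 :type_of% (a _))<|b (-45 :type_of% (a _))<|
 b (0 :type_of% (a _))<|b (27 :type_of% (a _))<|b (0 :type_of% (a _))<|c)));
 (let c:=(let c:=(b (-24 :type_of% (a _))<|b (8 :type_of% (a _))<|b (24 :type_of% (a _))<|b (-24 :type_of% (a _))<|b (-24 :type_of% (a _))<|b (-8 :type_of% (a _))<|c);
 (b (568 :type_of% (a _))<|b (-120 :type_of% (a _))<|b (-120 :type_of% (a _))<|b (24 :type_of% (a _))<|b (-72 :type_of% (a _))<|b (24 :type_of% (a _))<|c));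
 (let c:=(b (-405 :type_of% (a _))<|b (0 :type_of% (a _))<|b (0 :type_of% (a _))<|b (216 :type_of% (a _))<|b (-72 :type_of% (a _))<|b (216 :type_of% (a _))<|c);
 (d (10740600 :type_of% (a _))<|d (27000 :type_of% (a _))<|d (-42120 :type_of% (a _))<|d (-3720 :type_of% (a _))<|d (120 :type_of% (a _))<|c))))))

/-- degree `10740600` -/
def r80 : List ℤ := (beta% delta% lq2675025b5c fun a b d _ f _ _ _ _ _ _ _ _ _ _ _ _ _ _ _ _ _ _ _ _ _ _ =>
 (let c:=(let c:=(let c:=(let c:=(b (-1 :type_of% (a _))<|b (-1 :type_of% (a _))<|b (-1 :type_of% (a _))<|b (1 :type_of% (a _))<|b (0 :type_of% (a _))<|b (0 :type_of% (a _))<|f);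
 (b (0 :type_of% (a _))<|b (0 :type_of% (a _))<|b (1 :type_of% (a _))<|b (0 :type_of% (a _))<|b (0 :type_of% (a _))<|b (0 :type_of% (a _))<|c));
 (let c:=(b (0 :type_of% (a _))<|b (0 :type_of% (a _))<|b (0 :type_of% (a _))<|b (0 :type_of% (a _))<|b (0 :type_of% (a _))<|b (0 :type_of% (a _))<|c);
 (b (0 :type_of% (a _))<|b (1 :type_of% (a _))<|
 b (-1 :type_of% (a _))<|b (0 :type_of% (a _))<|b (0 :type_of% (a _))<|c)));
 (let c:=(let c:=(b (0 :type_of% (a _))<|b (0 :type_of% (a _))<|b (0 :type_of% (a _))<|b (-1 :type_of% (a _))<|b (0 :type_of% (a _))<|b (0 :type_of% (a _))<|c);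
 (b (0 :type_of% (a _))<|b (0 :type_of% (a _))<|b (3 :type_of% (a _))<|b (3 :type_of% (a _))<|b (0 :type_of% (a _))<|b (-5 :type_of% (a _))<|c));
 (let c:=(b (0 :type_of% (a _))<|b (0 :type_of% (a _))<|b (0 :type_of% (a _))<|b (3 :type_of% (a _))<|b (0 :type_of% (a _))<|b (0 :type_of% (a _))<|c);
 (b (0 :type_of% (a _))<|b (0 :type_of% (a _))<|b (0 :type_of% (a _))<|b (0 :type_of% (a _))<|b (0 :type_of% (a _))<|c))));
 (let c:=(let c:=(let c:=(b (8 :type_of% (a _))<|b (0 :type_of% (a _))<|b (0 :type_of% (a _))<|b (0 :type_of% (a _))<|b (0 :type_of% (a _))<|b (0 :type_of% (a _))<|c);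
 (b (0 :type_of% (a _))<|b (-11 :type_of% (a _))<|b (3 :type_of% (a _))<|b (0 :type_of% (a _))<|b (0 :type_of% (a _))<|b (8 :type_of% (a _))<|c));
 (let c:=(b (0 :type_of% (a _))<|b (0 :type_of% (a _))<|b (0 :type_of% (a _))<|b (3 :type_of% (a _))<|b (0 :type_of% (a _))<|b (3 :type_of% (a _))<|c);
 (b (0 :type_of% (a _))<|b (0 :type_of% (a _))<|
 b (-45 :type_of% (a _))<|b (0 :type_of% (a _))<|b (27 :type_of% (a _))<|c)));
 (let c:=(let c:=(b (8 :type_of% (a _))<|b (-24 :type_of% (a _))<|b (24 :type_of% (a _))<|b (-24 :type_of% (a _))<|b (-24 :type_of% (a _))<|b (-8 :type_of% (a _))<|c);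
 (b (216 :type_of% (a _))<|b (-120 :type_of% (a _))<|b (-120 :type_of% (a _))<|b (-72 :type_of% (a _))<|b (24 :type_of% (a _))<|b (24 :type_of% (a _))<|c));
 (let c:=(b (0 :type_of% (a _))<|b (-405 :type_of% (a _))<|b (0 :type_of% (a _))<|b (-72 :type_of% (a _))<|b (216 :type_of% (a _))<|b (568 :type_of% (a _))<|c);
 (d (10740600 :type_of% (a _))<|d (-42120 :type_of% (a _))<|d (27000 :type_of% (a _))<|d (-3720 :type_of% (a _))<|d (120 :type_of% (a _))<|c))))))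

/-- degree `11880960` -/
def r81 : List ℤ := (beta% delta% lq2675025b5c fun a b d _ f _ _ _ _ _ _ _ _ _ _ _ _ _ _ _ _ _ _ _ _ _ _ =>
 (let c:=(let c:=(let c:=(let c:=(b (0 :type_of% (a _))<|b (0 :type_of% (a _))<|b (0 :type_of% (a _))<|b (-1 :type_of% (a _))<|b (-1 :type_of% (a _))<|b (1 :type_of% (a _))<|f);
 (b (0 :type_of% (a _))<|b (0 :type_of% (a _))<|b (0 :type_of% (a _))<|b (1 :type_of% (a _))<|b (0 :type_of% (a _))<|b (0 :type_of% (a _))<|c));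
 (let c:=(b (0 :type_of% (a _))<|
 b (0 :type_of% (a _))<|b (0 :type_of% (a _))<|b (0 :type_of% (a _))<|b (0 :type_of% (a _))<|b (0 :type_of% (a _))<|c);
 (b (0 :type_of% (a _))<|b (0 :type_of% (a _))<|b (-1 :type_of% (a _))<|b (1 :type_of% (a _))<|b (1 :type_of% (a _))<|c)));
 (let c:=(let c:=(b (0 :type_of% (a _))<|b (0 :type_of% (a _))<|b (0 :type_of% (a _))<|b (0 :type_of% (a _))<|b (0 :type_of% (a _))<|b (0 :type_of% (a _))<|c);
 (b (0 :type_of% (a _))<|b (0 :type_of% (a _))<|b (0 :type_of% (a _))<|b (0 :type_of% (a _))<|b (0 :type_of% (a _))<|b (4 :type_of% (a _))<|c));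
 (let c:=(b (-2 :type_of% (a _))<|b (-2 :type_of% (a _))<|b (0 :type_of% (a _))<|b (4 :type_of% (a _))<|b (-8 :type_of% (a _))<|b (0 :type_of% (a _))<|c);
 (b (0 :type_of% (a _))<|b (0 :type_of% (a _))<|b (0 :type_of% (a _))<|b (0 :type_of% (a _))<|b (2 :type_of% (a _))<|c))));
 (let c:=(let c:=(let c:=(b (0 :type_of% (a _))<|b (0 :type_of% (a _))<|b (0 :type_of% (a _))<|b (0 :type_of% (a _))<|b (0 :type_of% (a _))<|b (0 :type_of% (a _))<|c);
 (b (-4 :type_of% (a _))<|b (0 :type_of% (a _))<|b (7 :type_of% (a _))<|b (0 :type_of% (a _))<|b (0 :type_of% (a _))<|b (0 :type_of% (a _))<|c));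
 (let c:=(b (12 :type_of% (a _))<|
 b (-12 :type_of% (a _))<|b (8 :type_of% (a _))<|b (-4 :type_of% (a _))<|b (8 :type_of% (a _))<|b (-4 :type_of% (a _))<|c);
 (b (10 :type_of% (a _))<|b (-24 :type_of% (a _))<|b (-36 :type_of% (a _))<|b (-24 :type_of% (a _))<|b (12 :type_of% (a _))<|c)));
 (let c:=(let c:=(b (0 :type_of% (a _))<|b (0 :type_of% (a _))<|b (0 :type_of% (a _))<|b (0 :type_of% (a _))<|b (0 :type_of% (a _))<|b (0 :type_of% (a _))<|c);
 (b (0 :type_of% (a _))<|b (0 :type_of% (a _))<|b (0 :type_of% (a _))<|b (0 :type_of% (a _))<|b (0 :type_of% (a _))<|b (0 :type_of% (a _))<|c));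
 (let c:=(b (456 :type_of% (a _))<|b (-84 :type_of% (a _))<|b (-12 :type_of% (a _))<|b (-512 :type_of% (a _))<|b (0 :type_of% (a _))<|b (-512 :type_of% (a _))<|c);
 (d (11880960 :type_of% (a _))<|d (35328 :type_of% (a _))<|d (10752 :type_of% (a _))<|d (-5632 :type_of% (a _))<|d (512 :type_of% (a _))<|c))))))

/-- degree `11880960` -/
def r82 : List ℤ := (beta% delta% lq2675025b5c fun a b d _ f _ _ _ _ _ _ _ _ _ _ _ _ _ _ _ _ _ _ _ _ _ _ =>
 (let c:=(let c:=(let c:=(let c:=(b (0 :type_of% (a _))<|b (0 :type_of% (a _))<|b (-1 :type_of% (a _))<|b (0 :type_of% (a _))<|b (1 :type_of% (a _))<|b (-1 :type_of% (a _))<|f);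
 (b (0 :type_of% (a _))<|b (0 :type_of% (a _))<|b (1 :type_of% (a _))<|b (0 :type_of% (a _))<|b (0 :type_of% (a _))<|b (0 :type_of% (a _))<|c));
 (let c:=(b (0 :type_of% (a _))<|
 b (0 :type_of% (a _))<|b (0 :type_of% (a _))<|b (0 :type_of% (a _))<|b (0 :type_of% (a _))<|b (0 :type_of% (a _))<|c);
 (b (0 :type_of% (a _))<|b (-1 :type_of% (a _))<|b (0 :type_of% (a _))<|b (1 :type_of% (a _))<|b (1 :type_of% (a _))<|c)));
 (let c:=(let c:=(b (0 :type_of% (a _))<|b (0 :type_of% (a _))<|b (0 :type_of% (a _))<|b (0 :type_of% (a _))<|b (0 :type_of% (a _))<|b (0 :type_of% (a _))<|c);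
 (b (0 :type_of% (a _))<|b (0 :type_of% (a _))<|b (0 :type_of% (a _))<|b (0 :type_of% (a _))<|b (4 :type_of% (a _))<|b (0 :type_of% (a _))<|c));
 (let c:=(b (2 :type_of% (a _))<|b (-2 :type_of% (a _))<|b (4 :type_of% (a _))<|b (0 :type_of% (a _))<|b (0 :type_of% (a _))<|b (-8 :type_of% (a _))<|c);
 (b (0 :type_of% (a _))<|b (0 :type_of% (a _))<|b (0 :type_of% (a _))<|b (0 :type_of% (a _))<|b (-2 :type_of% (a _))<|c))));
 (let c:=(let c:=(let c:=(b (0 :type_of% (a _))<|b (0 :type_of% (a _))<|b (0 :type_of% (a _))<|b (0 :type_of% (a _))<|b (0 :type_of% (a _))<|b (0 :type_of% (a _))<|c);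
 (b (-4 :type_of% (a _))<|b (7 :type_of% (a _))<|b (0 :type_of% (a _))<|b (0 :type_of% (a _))<|b (0 :type_of% (a _))<|b (0 :type_of% (a _))<|c));
 (let c:=(b (-12 :type_of% (a _))<|
 b (12 :type_of% (a _))<|b (-4 :type_of% (a _))<|b (8 :type_of% (a _))<|b (-4 :type_of% (a _))<|b (8 :type_of% (a _))<|c);
 (b (10 :type_of% (a _))<|b (-36 :type_of% (a _))<|b (-24 :type_of% (a _))<|b (12 :type_of% (a _))<|b (-24 :type_of% (a _))<|c)));
 (let c:=(let c:=(b (0 :type_of% (a _))<|b (0 :type_of% (a _))<|b (0 :type_of% (a _))<|b (0 :type_of% (a _))<|b (0 :type_of% (a _))<|b (0 :type_of% (a _))<|c);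
 (b (-512 :type_of% (a _))<|b (0 :type_of% (a _))<|b (0 :type_of% (a _))<|b (0 :type_of% (a _))<|b (0 :type_of% (a _))<|b (0 :type_of% (a _))<|c));
 (let c:=(b (-84 :type_of% (a _))<|b (456 :type_of% (a _))<|b (-12 :type_of% (a _))<|b (0 :type_of% (a _))<|b (-512 :type_of% (a _))<|b (0 :type_of% (a _))<|c);
 (d (11880960 :type_of% (a _))<|d (10752 :type_of% (a _))<|d (35328 :type_of% (a _))<|d (-5632 :type_of% (a _))<|d (512 :type_of% (a _))<|c))))))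

/-- degree `14034384` -/
def r83 : List ℤ := (beta% delta% lq2675025b5c fun a b d _ f _ _ _ _ _ _ _ _ _ _ _ _ _ _ _ _ _ _ _ _ _ _ =>
 (let c:=(let c:=(let c:=(let c:=(b (0 :type_of% (a _))<|b (0 :type_of% (a _))<|b (0 :type_of% (a _))<|b (0 :type_of% (a _))<|b (0 :type_of% (a _))<|b (0 :type_of% (a _))<|f);
 (b (0 :type_of% (a _))<|b (0 :type_of% (a _))<|b (0 :type_of% (a _))<|b (0 :type_of% (a _))<|b (0 :type_of% (a _))<|b (0 :type_of% (a _))<|c));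
 (let c:=(b (0 :type_of% (a _))<|b (0 :type_of% (a _))<|b (0 :type_of% (a _))<|b (0 :type_of% (a _))<|b (0 :type_of% (a _))<|b (0 :type_of% (a _))<|c);
 (b (0 :type_of% (a _))<|b (0 :type_of% (a _))<|b (0 :type_of% (a _))<|b (2 :type_of% (a _))<|b (2 :type_of% (a _))<|c)));
 (let c:=(let c:=(b (0 :type_of% (a _))<|b (0 :type_of% (a _))<|b (-2 :type_of% (a _))<|b (-2 :type_of% (a _))<|b (0 :type_of% (a _))<|b (0 :type_of% (a _))<|
 c);
 (b (-2 :type_of% (a _))<|b (-2 :type_of% (a _))<|b (-2 :type_of% (a _))<|b (-2 :type_of% (a _))<|b (2 :type_of% (a _))<|b (2 :type_of% (a _))<|c));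
 (let c:=(b (0 :type_of% (a _))<|b (0 :type_of% (a _))<|b (-6 :type_of% (a _))<|b (-6 :type_of% (a _))<|b (0 :type_of% (a _))<|b (0 :type_of% (a _))<|c);
 (b (0 :type_of% (a _))<|b (0 :type_of% (a _))<|b (0 :type_of% (a _))<|b (0 :type_of% (a _))<|b (0 :type_of% (a _))<|c))));
 (let c:=(let c:=(let c:=(b (0 :type_of% (a _))<|b (0 :type_of% (a _))<|b (0 :type_of% (a _))<|b (0 :type_of% (a _))<|b (0 :type_of% (a _))<|b (0 :type_of% (a _))<|c);
 (b (0 :type_of% (a _))<|b (0 :type_of% (a _))<|b (0 :type_of% (a _))<|b (0 :type_of% (a _))<|b (0 :type_of% (a _))<|b (0 :type_of% (a _))<|c));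
 (let c:=(b (0 :type_of% (a _))<|b (0 :type_of% (a _))<|b (-2 :type_of% (a _))<|b (-2 :type_of% (a _))<|b (6 :type_of% (a _))<|b (6 :type_of% (a _))<|c);
 (b (-16 :type_of% (a _))<|
 b (30 :type_of% (a _))<|b (30 :type_of% (a _))<|b (6 :type_of% (a _))<|b (6 :type_of% (a _))<|c)));
 (let c:=(let c:=(b (-32 :type_of% (a _))<|b (-32 :type_of% (a _))<|b (48 :type_of% (a _))<|b (32 :type_of% (a _))<|b (0 :type_of% (a _))<|b (16 :type_of% (a _))<|c);
 (b (-112 :type_of% (a _))<|b (160 :type_of% (a _))<|b (160 :type_of% (a _))<|b (-48 :type_of% (a _))<|b (-48 :type_of% (a _))<|b (16 :type_of% (a _))<|c));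
 (let c:=(b (-378 :type_of% (a _))<|b (-378 :type_of% (a _))<|b (0 :type_of% (a _))<|b (144 :type_of% (a _))<|b (144 :type_of% (a _))<|b (-112 :type_of% (a _))<|c);
 (d (14034384 :type_of% (a _))<|d (35280 :type_of% (a _))<|d (35280 :type_of% (a _))<|d (-560 :type_of% (a _))<|d (-816 :type_of% (a _))<|c))))))

/-- degree `14619150` -/
def r84 : List ℤ := (beta% delta% lq2675025b5c fun a b d _ f _ _ _ _ _ _ _ _ _ _ _ _ _ _ _ _ _ _ _ _ _ _ =>
 (let c:=(let c:=(let c:=(let c:=(b (0 :type_of% (a _))<|b (0 :type_of% (a _))<|b (0 :type_of% (a _))<|b (0 :type_of% (a _))<|b (0 :type_of% (a _))<|b (0 :type_of% (a _))<|f);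
 (b (0 :type_of% (a _))<|b (0 :type_of% (a _))<|b (0 :type_of% (a _))<|b (0 :type_of% (a _))<|b (0 :type_of% (a _))<|b (0 :type_of% (a _))<|c));
 (let c:=(b (0 :type_of% (a _))<|b (0 :type_of% (a _))<|b (0 :type_of% (a _))<|b (0 :type_of% (a _))<|b (0 :type_of% (a _))<|b (0 :type_of% (a _))<|c);
 (b (0 :type_of% (a _))<|b (0 :type_of% (a _))<|b (0 :type_of% (a _))<|b (0 :type_of% (a _))<|
 b (0 :type_of% (a _))<|c)));
 (let c:=(let c:=(b (0 :type_of% (a _))<|b (2 :type_of% (a _))<|b (0 :type_of% (a _))<|b (0 :type_of% (a _))<|b (0 :type_of% (a _))<|b (0 :type_of% (a _))<|c);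
 (b (0 :type_of% (a _))<|b (0 :type_of% (a _))<|b (0 :type_of% (a _))<|b (0 :type_of% (a _))<|b (0 :type_of% (a _))<|b (0 :type_of% (a _))<|c));
 (let c:=(b (0 :type_of% (a _))<|b (0 :type_of% (a _))<|b (0 :type_of% (a _))<|b (0 :type_of% (a _))<|b (0 :type_of% (a _))<|b (6 :type_of% (a _))<|c);
 (b (-2 :type_of% (a _))<|b (-2 :type_of% (a _))<|b (0 :type_of% (a _))<|b (0 :type_of% (a _))<|b (0 :type_of% (a _))<|c))));
 (let c:=(let c:=(let c:=(b (6 :type_of% (a _))<|b (-6 :type_of% (a _))<|b (-6 :type_of% (a _))<|b (-6 :type_of% (a _))<|b (-6 :type_of% (a _))<|b (2 :type_of% (a _))<|c);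
 (b (6 :type_of% (a _))<|b (0 :type_of% (a _))<|b (0 :type_of% (a _))<|b (2 :type_of% (a _))<|b (2 :type_of% (a _))<|b (6 :type_of% (a _))<|c));
 (let c:=(b (-18 :type_of% (a _))<|b (18 :type_of% (a _))<|b (0 :type_of% (a _))<|b (0 :type_of% (a _))<|b (0 :type_of% (a _))<|b (0 :type_of% (a _))<|c);
 (b (0 :type_of% (a _))<|b (0 :type_of% (a _))<|b (0 :type_of% (a _))<|b (0 :type_of% (a _))<|
 b (0 :type_of% (a _))<|c)));
 (let c:=(let c:=(b (54 :type_of% (a _))<|b (6 :type_of% (a _))<|b (-18 :type_of% (a _))<|b (22 :type_of% (a _))<|b (6 :type_of% (a _))<|b (-2 :type_of% (a _))<|c);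
 (b (462 :type_of% (a _))<|b (-90 :type_of% (a _))<|b (-90 :type_of% (a _))<|b (-66 :type_of% (a _))<|b (14 :type_of% (a _))<|b (30 :type_of% (a _))<|c));
 (let c:=(b (0 :type_of% (a _))<|b (0 :type_of% (a _))<|b (-54 :type_of% (a _))<|b (-162 :type_of% (a _))<|b (-498 :type_of% (a _))<|b (-546 :type_of% (a _))<|c);
 (d (14619150 :type_of% (a _))<|d (23310 :type_of% (a _))<|d (-57330 :type_of% (a _))<|d (270 :type_of% (a _))<|d (-114 :type_of% (a _))<|c))))))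

/-- degree `14619150` -/
def r85 : List ℤ := (beta% delta% lq2675025b5c fun a b d _ f _ _ _ _ _ _ _ _ _ _ _ _ _ _ _ _ _ _ _ _ _ _ =>
 (let c:=(let c:=(let c:=(let c:=(b (0 :type_of% (a _))<|b (0 :type_of% (a _))<|b (0 :type_of% (a _))<|b (0 :type_of% (a _))<|b (0 :type_of% (a _))<|b (0 :type_of% (a _))<|f);
 (b (0 :type_of% (a _))<|b (0 :type_of% (a _))<|b (0 :type_of% (a _))<|b (0 :type_of% (a _))<|b (0 :type_of% (a _))<|b (0 :type_of% (a _))<|c));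
 (let c:=(b (0 :type_of% (a _))<|b (0 :type_of% (a _))<|b (0 :type_of% (a _))<|b (0 :type_of% (a _))<|b (0 :type_of% (a _))<|b (0 :type_of% (a _))<|c);
 (b (0 :type_of% (a _))<|b (0 :type_of% (a _))<|b (0 :type_of% (a _))<|b (0 :type_of% (a _))<|
 b (0 :type_of% (a _))<|c)));
 (let c:=(let c:=(b (2 :type_of% (a _))<|b (0 :type_of% (a _))<|b (0 :type_of% (a _))<|b (0 :type_of% (a _))<|b (0 :type_of% (a _))<|b (0 :type_of% (a _))<|c);
 (b (0 :type_of% (a _))<|b (0 :type_of% (a _))<|b (0 :type_of% (a _))<|b (0 :type_of% (a _))<|b (0 :type_of% (a _))<|b (0 :type_of% (a _))<|c));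
 (let c:=(b (0 :type_of% (a _))<|b (0 :type_of% (a _))<|b (0 :type_of% (a _))<|b (0 :type_of% (a _))<|b (6 :type_of% (a _))<|b (0 :type_of% (a _))<|c);
 (b (-2 :type_of% (a _))<|b (-2 :type_of% (a _))<|b (0 :type_of% (a _))<|b (0 :type_of% (a _))<|b (0 :type_of% (a _))<|c))));
 (let c:=(let c:=(let c:=(b (-6 :type_of% (a _))<|b (6 :type_of% (a _))<|b (6 :type_of% (a _))<|b (-6 :type_of% (a _))<|b (2 :type_of% (a _))<|b (-6 :type_of% (a _))<|c);
 (b (6 :type_of% (a _))<|b (0 :type_of% (a _))<|b (0 :type_of% (a _))<|b (2 :type_of% (a _))<|b (2 :type_of% (a _))<|b (-6 :type_of% (a _))<|c));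
 (let c:=(b (18 :type_of% (a _))<|b (-18 :type_of% (a _))<|b (0 :type_of% (a _))<|b (0 :type_of% (a _))<|b (0 :type_of% (a _))<|b (0 :type_of% (a _))<|c);
 (b (0 :type_of% (a _))<|b (0 :type_of% (a _))<|b (0 :type_of% (a _))<|b (0 :type_of% (a _))<|
 b (0 :type_of% (a _))<|c)));
 (let c:=(let c:=(b (6 :type_of% (a _))<|b (54 :type_of% (a _))<|b (-18 :type_of% (a _))<|b (22 :type_of% (a _))<|b (6 :type_of% (a _))<|b (-2 :type_of% (a _))<|c);
 (b (-546 :type_of% (a _))<|b (-90 :type_of% (a _))<|b (-90 :type_of% (a _))<|b (14 :type_of% (a _))<|b (-66 :type_of% (a _))<|b (30 :type_of% (a _))<|c));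
 (let c:=(b (0 :type_of% (a _))<|b (0 :type_of% (a _))<|b (-54 :type_of% (a _))<|b (-498 :type_of% (a _))<|b (-162 :type_of% (a _))<|b (462 :type_of% (a _))<|c);
 (d (14619150 :type_of% (a _))<|d (-57330 :type_of% (a _))<|d (23310 :type_of% (a _))<|d (270 :type_of% (a _))<|d (-114 :type_of% (a _))<|c))))))

/-- degree `15181425` -/
def r86 : List ℤ := (beta% delta% lq2675025b5c fun a b d _ f _ _ _ _ _ _ _ _ _ _ _ _ _ _ _ _ _ _ _ _ _ _ =>
 (let c:=(let c:=(let c:=(let c:=(b (0 :type_of% (a _))<|b (0 :type_of% (a _))<|b (0 :type_of% (a _))<|b (0 :type_of% (a _))<|b (0 :type_of% (a _))<|b (0 :type_of% (a _))<|f);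
 (b (0 :type_of% (a _))<|b (0 :type_of% (a _))<|b (0 :type_of% (a _))<|b (0 :type_of% (a _))<|b (0 :type_of% (a _))<|b (0 :type_of% (a _))<|c));
 (let c:=(b (1 :type_of% (a _))<|b (1 :type_of% (a _))<|b (1 :type_of% (a _))<|b (0 :type_of% (a _))<|b (0 :type_of% (a _))<|b (0 :type_of% (a _))<|c);
 (b (-1 :type_of% (a _))<|b (0 :type_of% (a _))<|b (0 :type_of% (a _))<|
 b (0 :type_of% (a _))<|b (0 :type_of% (a _))<|c)));
 (let c:=(let c:=(b (0 :type_of% (a _))<|b (0 :type_of% (a _))<|b (0 :type_of% (a _))<|b (0 :type_of% (a _))<|b (0 :type_of% (a _))<|b (0 :type_of% (a _))<|c);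
 (b (0 :type_of% (a _))<|b (0 :type_of% (a _))<|b (0 :type_of% (a _))<|b (0 :type_of% (a _))<|b (0 :type_of% (a _))<|b (0 :type_of% (a _))<|c));
 (let c:=(b (0 :type_of% (a _))<|b (0 :type_of% (a _))<|b (0 :type_of% (a _))<|b (0 :type_of% (a _))<|b (0 :type_of% (a _))<|b (0 :type_of% (a _))<|c);
 (b (1 :type_of% (a _))<|b (1 :type_of% (a _))<|b (0 :type_of% (a _))<|b (0 :type_of% (a _))<|b (0 :type_of% (a _))<|c))));
 (let c:=(let c:=(let c:=(b (-3 :type_of% (a _))<|b (-3 :type_of% (a _))<|b (-3 :type_of% (a _))<|b (9 :type_of% (a _))<|b (1 :type_of% (a _))<|b (1 :type_of% (a _))<|c);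
 (b (0 :type_of% (a _))<|b (0 :type_of% (a _))<|b (0 :type_of% (a _))<|b (-7 :type_of% (a _))<|b (-7 :type_of% (a _))<|b (-3 :type_of% (a _))<|c));
 (let c:=(b (0 :type_of% (a _))<|b (0 :type_of% (a _))<|b (0 :type_of% (a _))<|b (0 :type_of% (a _))<|b (0 :type_of% (a _))<|b (0 :type_of% (a _))<|c);
 (b (0 :type_of% (a _))<|b (0 :type_of% (a _))<|b (0 :type_of% (a _))<|
 b (0 :type_of% (a _))<|b (0 :type_of% (a _))<|c)));
 (let c:=(let c:=(b (-15 :type_of% (a _))<|b (-15 :type_of% (a _))<|b (-15 :type_of% (a _))<|b (1 :type_of% (a _))<|b (33 :type_of% (a _))<|b (17 :type_of% (a _))<|c);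
 (b (609 :type_of% (a _))<|b (225 :type_of% (a _))<|b (225 :type_of% (a _))<|b (-63 :type_of% (a _))<|b (-63 :type_of% (a _))<|b (-47 :type_of% (a _))<|c));
 (let c:=(b (0 :type_of% (a _))<|b (0 :type_of% (a _))<|b (0 :type_of% (a _))<|b (-351 :type_of% (a _))<|b (-351 :type_of% (a _))<|b (609 :type_of% (a _))<|c);
 (d (15181425 :type_of% (a _))<|d (-59535 :type_of% (a _))<|d (-59535 :type_of% (a _))<|d (-1935 :type_of% (a _))<|d (369 :type_of% (a _))<|c))))))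

/-- degree `16777216` -/
def r87 : List ℤ := (beta% delta% lq2675025b5c fun a b d _ f _ _ _ _ _ _ _ _ _ _ _ _ _ _ _ _ _ _ _ _ _ _ =>
 (let c:=(let c:=(let c:=(let c:=(b (0 :type_of% (a _))<|b (0 :type_of% (a _))<|b (0 :type_of% (a _))<|b (0 :type_of% (a _))<|b (0 :type_of% (a _))<|b (0 :type_of% (a _))<|f);
 (b (0 :type_of% (a _))<|b (0 :type_of% (a _))<|b (-1 :type_of% (a _))<|b (-1 :type_of% (a _))<|b (0 :type_of% (a _))<|
 b (0 :type_of% (a _))<|c));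
 (let c:=(b (0 :type_of% (a _))<|b (0 :type_of% (a _))<|b (0 :type_of% (a _))<|b (1 :type_of% (a _))<|b (0 :type_of% (a _))<|b (0 :type_of% (a _))<|c);
 (b (1 :type_of% (a _))<|b (0 :type_of% (a _))<|b (0 :type_of% (a _))<|b (-2 :type_of% (a _))<|b (-2 :type_of% (a _))<|c)));
 (let c:=(let c:=(b (0 :type_of% (a _))<|b (0 :type_of% (a _))<|b (0 :type_of% (a _))<|b (0 :type_of% (a _))<|b (0 :type_of% (a _))<|b (0 :type_of% (a _))<|c);
 (b (0 :type_of% (a _))<|b (0 :type_of% (a _))<|b (0 :type_of% (a _))<|b (0 :type_of% (a _))<|b (0 :type_of% (a _))<|b (0 :type_of% (a _))<|c));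
 (let c:=(b (0 :type_of% (a _))<|b (0 :type_of% (a _))<|b (0 :type_of% (a _))<|b (0 :type_of% (a _))<|b (0 :type_of% (a _))<|b (0 :type_of% (a _))<|c);
 (b (0 :type_of% (a _))<|b (0 :type_of% (a _))<|b (-2 :type_of% (a _))<|b (-2 :type_of% (a _))<|b (0 :type_of% (a _))<|c))));
 (let c:=(let c:=(let c:=(b (0 :type_of% (a _))<|b (0 :type_of% (a _))<|b (0 :type_of% (a _))<|b (0 :type_of% (a _))<|b (0 :type_of% (a _))<|b (0 :type_of% (a _))<|c);
 (b (0 :type_of% (a _))<|b (8 :type_of% (a _))<|b (8 :type_of% (a _))<|b (0 :type_of% (a _))<|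
 b (0 :type_of% (a _))<|b (0 :type_of% (a _))<|c));
 (let c:=(b (0 :type_of% (a _))<|b (0 :type_of% (a _))<|b (0 :type_of% (a _))<|b (0 :type_of% (a _))<|b (0 :type_of% (a _))<|b (0 :type_of% (a _))<|c);
 (b (16 :type_of% (a _))<|b (0 :type_of% (a _))<|b (0 :type_of% (a _))<|b (0 :type_of% (a _))<|b (0 :type_of% (a _))<|c)));
 (let c:=(let c:=(b (0 :type_of% (a _))<|b (0 :type_of% (a _))<|b (0 :type_of% (a _))<|b (0 :type_of% (a _))<|b (0 :type_of% (a _))<|b (0 :type_of% (a _))<|c);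
 (b (0 :type_of% (a _))<|b (0 :type_of% (a _))<|b (0 :type_of% (a _))<|b (0 :type_of% (a _))<|b (0 :type_of% (a _))<|b (0 :type_of% (a _))<|c));
 (let c:=(b (-512 :type_of% (a _))<|b (-512 :type_of% (a _))<|b (64 :type_of% (a _))<|b (0 :type_of% (a _))<|b (0 :type_of% (a _))<|b (0 :type_of% (a _))<|c);
 (d (16777216 :type_of% (a _))<|d (0 :type_of% (a _))<|d (0 :type_of% (a _))<|d (0 :type_of% (a _))<|d (0 :type_of% (a _))<|c))))))

/-- degree `17326400` -/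
def r88 : List ℤ := (beta% delta% lq2675025b5c fun a b d _ f _ _ _ _ _ _ _ _ _ _ _ _ _ _ _ _ _ _ _ _ _ _ =>
 (let c:=(let c:=(let c:=(let c:=(b (0 :type_of% (a _))<|b (0 :type_of% (a _))<|b (0 :type_of% (a _))<|b (0 :type_of% (a _))<|b (0 :type_of% (a _))<|b (0 :type_of% (a _))<|f);
 (b (0 :type_of% (a _))<|b (0 :type_of% (a _))<|b (0 :type_of% (a _))<|b (0 :type_of% (a _))<|b (0 :type_of% (a _))<|b (0 :type_of% (a _))<|c));
 (let c:=(b (0 :type_of% (a _))<|b (0 :type_of% (a _))<|b (0 :type_of% (a _))<|b (0 :type_of% (a _))<|b (0 :type_of% (a _))<|b (0 :type_of% (a _))<|c);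
 (b (0 :type_of% (a _))<|b (0 :type_of% (a _))<|b (0 :type_of% (a _))<|b (0 :type_of% (a _))<|
 b (0 :type_of% (a _))<|c)));
 (let c:=(let c:=(b (-2 :type_of% (a _))<|b (-2 :type_of% (a _))<|b (0 :type_of% (a _))<|b (0 :type_of% (a _))<|b (0 :type_of% (a _))<|b (0 :type_of% (a _))<|c);
 (b (0 :type_of% (a _))<|b (0 :type_of% (a _))<|b (0 :type_of% (a _))<|b (0 :type_of% (a _))<|b (-4 :type_of% (a _))<|b (-4 :type_of% (a _))<|c));
 (let c:=(b (0 :type_of% (a _))<|b (0 :type_of% (a _))<|b (-4 :type_of% (a _))<|b (-4 :type_of% (a _))<|b (2 :type_of% (a _))<|b (2 :type_of% (a _))<|c);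
 (b (0 :type_of% (a _))<|b (0 :type_of% (a _))<|b (2 :type_of% (a _))<|b (2 :type_of% (a _))<|b (0 :type_of% (a _))<|c))));
 (let c:=(let c:=(let c:=(b (0 :type_of% (a _))<|b (0 :type_of% (a _))<|b (0 :type_of% (a _))<|b (0 :type_of% (a _))<|b (0 :type_of% (a _))<|b (0 :type_of% (a _))<|c);
 (b (-4 :type_of% (a _))<|b (0 :type_of% (a _))<|b (0 :type_of% (a _))<|b (0 :type_of% (a _))<|b (0 :type_of% (a _))<|b (0 :type_of% (a _))<|c));
 (let c:=(b (0 :type_of% (a _))<|b (0 :type_of% (a _))<|b (-4 :type_of% (a _))<|b (-4 :type_of% (a _))<|b (-4 :type_of% (a _))<|b (-4 :type_of% (a _))<|c);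
 (b (0 :type_of% (a _))<|b (60 :type_of% (a _))<|b (60 :type_of% (a _))<|b (12 :type_of% (a _))<|b (12 :type_of% (a _))<|
 c)));
 (let c:=(let c:=(b (0 :type_of% (a _))<|b (0 :type_of% (a _))<|b (0 :type_of% (a _))<|b (0 :type_of% (a _))<|b (0 :type_of% (a _))<|b (0 :type_of% (a _))<|c);
 (b (-448 :type_of% (a _))<|b (0 :type_of% (a _))<|b (0 :type_of% (a _))<|b (64 :type_of% (a _))<|b (64 :type_of% (a _))<|b (64 :type_of% (a _))<|c));
 (let c:=(b (140 :type_of% (a _))<|b (140 :type_of% (a _))<|b (68 :type_of% (a _))<|b (-448 :type_of% (a _))<|b (-448 :type_of% (a _))<|b (-448 :type_of% (a _))<|c);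
 (d (17326400 :type_of% (a _))<|d (-20160 :type_of% (a _))<|d (-20160 :type_of% (a _))<|d (320 :type_of% (a _))<|d (320 :type_of% (a _))<|c))))))

/-- the rational irreducible characters -/
def rA : List (List ℤ) := (beta% delta% lq2675025b5c fun _ _ d _ f _ _ _ _ _ l _ _ _ _ _ _ _ _ _ _ _ _ _ _ _ _ =>
 (let c:=(let c:=(let c:=(let c:=(l r83<|
 l r84<|l r85<|l r86<|l r87<|l r88<|f);
 (l r77<|l r78<|l r79<|l r80<|l r81<|l r82<|c));
 (let c:=(l r71<|l r72<|l r73<|l r74<|l r75<|l r76<|c);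
 (l r66<|l r67<|l r68<|l r69<|l r70<|c)));
 (let c:=(let c:=(l r60<|l r61<|l r62<|l r63<|l r64<|l r65<|c);
 (l r55<|l r56<|l r57<|l r58<|l r59<|c));
 (let c:=(l r49<|l r50<|l r51<|l r52<|l r53<|l r54<|
 c);
 (l r44<|l r45<|l r46<|l r47<|l r48<|c))));
 (let c:=(let c:=(let c:=(l r38<|l r39<|l r40<|l r41<|l r42<|l r43<|c);
 (l r33<|l r34<|l r35<|l r36<|l r37<|c));
 (let c:=(l r27<|l r28<|l r29<|l r30<|l r31<|l r32<|c);
 (l r22<|l r23<|l r24<|l r25<|
 l r26<|c)));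
 (let c:=(let c:=(l r16<|l r17<|l r18<|l r19<|l r20<|l r21<|c);
 (l r11<|l r12<|l r13<|l r14<|l r15<|c));
 (let c:=(l r5<|l r6<|l r7<|l r8<|l r9<|l r10<|c);
 (d r0<|d r1<|d r2<|d r3<|d r4<|c))))))

/-- degree `285768` -/
def r89 : List ℤ := (beta% delta% lq2675025b5c fun a b d _ f _ _ _ _ _ _ _ _ _ _ _ _ _ _ _ _ _ _ _ _ _ _ =>
 (let c:=(let c:=(let c:=(let c:=(b (0 :type_of% (a _))<|b (0 :type_of% (a _))<|b (0 :type_of% (a _))<|b (0 :type_of% (a _))<|b (0 :type_of% (a _))<|b (0 :type_of% (a _))<|f);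
 (b (2 :type_of% (a _))<|b (2 :type_of% (a _))<|b (0 :type_of% (a _))<|b (0 :type_of% (a _))<|b (0 :type_of% (a _))<|b (0 :type_of% (a _))<|c));
 (let c:=(b (0 :type_of% (a _))<|b (0 :type_of% (a _))<|
 b (0 :type_of% (a _))<|b (-2 :type_of% (a _))<|b (0 :type_of% (a _))<|b (0 :type_of% (a _))<|c);
 (b (2 :type_of% (a _))<|b (0 :type_of% (a _))<|b (0 :type_of% (a _))<|b (0 :type_of% (a _))<|b (0 :type_of% (a _))<|c)));
 (let c:=(let c:=(b (0 :type_of% (a _))<|b (0 :type_of% (a _))<|b (0 :type_of% (a _))<|b (0 :type_of% (a _))<|b (0 :type_of% (a _))<|b (0 :type_of% (a _))<|c);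
 (b (0 :type_of% (a _))<|b (0 :type_of% (a _))<|b (0 :type_of% (a _))<|b (0 :type_of% (a _))<|b (0 :type_of% (a _))<|b (0 :type_of% (a _))<|c));
 (let c:=(b (-6 :type_of% (a _))<|b (2 :type_of% (a _))<|b (0 :type_of% (a _))<|b (0 :type_of% (a _))<|b (0 :type_of% (a _))<|b (0 :type_of% (a _))<|c);
 (b (0 :type_of% (a _))<|b (0 :type_of% (a _))<|b (0 :type_of% (a _))<|b (0 :type_of% (a _))<|b (-6 :type_of% (a _))<|c))));
 (let c:=(let c:=(let c:=(b (0 :type_of% (a _))<|b (0 :type_of% (a _))<|b (0 :type_of% (a _))<|b (-8 :type_of% (a _))<|b (8 :type_of% (a _))<|b (8 :type_of% (a _))<|c);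
 (b (0 :type_of% (a _))<|b (0 :type_of% (a _))<|b (0 :type_of% (a _))<|b (-8 :type_of% (a _))<|b (-8 :type_of% (a _))<|b (0 :type_of% (a _))<|c));
 (let c:=(b (0 :type_of% (a _))<|
 b (0 :type_of% (a _))<|b (0 :type_of% (a _))<|b (0 :type_of% (a _))<|b (0 :type_of% (a _))<|b (0 :type_of% (a _))<|c);
 (b (18 :type_of% (a _))<|b (0 :type_of% (a _))<|b (0 :type_of% (a _))<|b (0 :type_of% (a _))<|b (0 :type_of% (a _))<|c)));
 (let c:=(let c:=(b (-24 :type_of% (a _))<|b (-24 :type_of% (a _))<|b (-24 :type_of% (a _))<|b (8 :type_of% (a _))<|b (-24 :type_of% (a _))<|b (40 :type_of% (a _))<|c);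
 (b (168 :type_of% (a _))<|b (72 :type_of% (a _))<|b (72 :type_of% (a _))<|b (-24 :type_of% (a _))<|b (-24 :type_of% (a _))<|b (8 :type_of% (a _))<|c));
 (let c:=(b (0 :type_of% (a _))<|b (0 :type_of% (a _))<|b (0 :type_of% (a _))<|b (-216 :type_of% (a _))<|b (-216 :type_of% (a _))<|b (168 :type_of% (a _))<|c);
 (d (285768 :type_of% (a _))<|d (-4536 :type_of% (a _))<|d (-4536 :type_of% (a _))<|d (72 :type_of% (a _))<|d (72 :type_of% (a _))<|c))))))

/-- degree `367200` -/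
def r90 : List ℤ := (beta% delta% lq2675025b5c fun a b d _ f _ _ _ _ _ _ _ _ _ _ _ _ _ _ _ _ _ _ _ _ _ _ =>
 (let c:=(let c:=(let c:=(let c:=(b (0 :type_of% (a _))<|b (0 :type_of% (a _))<|b (-2 :type_of% (a _))<|b (-2 :type_of% (a _))<|b (0 :type_of% (a _))<|b (0 :type_of% (a _))<|f);
 (b (0 :type_of% (a _))<|b (0 :type_of% (a _))<|b (0 :type_of% (a _))<|b (0 :type_of% (a _))<|b (0 :type_of% (a _))<|b (0 :type_of% (a _))<|c));
 (let c:=(b (0 :type_of% (a _))<|b (0 :type_of% (a _))<|b (0 :type_of% (a _))<|b (0 :type_of% (a _))<|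
 b (0 :type_of% (a _))<|b (0 :type_of% (a _))<|c);
 (b (2 :type_of% (a _))<|b (2 :type_of% (a _))<|b (2 :type_of% (a _))<|b (0 :type_of% (a _))<|b (0 :type_of% (a _))<|c)));
 (let c:=(let c:=(b (-2 :type_of% (a _))<|b (-2 :type_of% (a _))<|b (0 :type_of% (a _))<|b (0 :type_of% (a _))<|b (2 :type_of% (a _))<|b (-2 :type_of% (a _))<|c);
 (b (0 :type_of% (a _))<|b (0 :type_of% (a _))<|b (0 :type_of% (a _))<|b (0 :type_of% (a _))<|b (0 :type_of% (a _))<|b (0 :type_of% (a _))<|c));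
 (let c:=(b (0 :type_of% (a _))<|b (0 :type_of% (a _))<|b (0 :type_of% (a _))<|b (0 :type_of% (a _))<|b (6 :type_of% (a _))<|b (6 :type_of% (a _))<|c);
 (b (0 :type_of% (a _))<|b (0 :type_of% (a _))<|b (0 :type_of% (a _))<|b (0 :type_of% (a _))<|b (0 :type_of% (a _))<|c))));
 (let c:=(let c:=(let c:=(b (0 :type_of% (a _))<|b (0 :type_of% (a _))<|b (0 :type_of% (a _))<|b (0 :type_of% (a _))<|b (0 :type_of% (a _))<|b (0 :type_of% (a _))<|c);
 (b (-6 :type_of% (a _))<|b (-6 :type_of% (a _))<|b (-6 :type_of% (a _))<|b (0 :type_of% (a _))<|b (0 :type_of% (a _))<|b (0 :type_of% (a _))<|c));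
 (let c:=(b (18 :type_of% (a _))<|b (18 :type_of% (a _))<|b (0 :type_of% (a _))<|
 b (0 :type_of% (a _))<|b (0 :type_of% (a _))<|b (0 :type_of% (a _))<|c);
 (b (0 :type_of% (a _))<|b (0 :type_of% (a _))<|b (0 :type_of% (a _))<|b (0 :type_of% (a _))<|b (0 :type_of% (a _))<|c)));
 (let c:=(let c:=(b (0 :type_of% (a _))<|b (0 :type_of% (a _))<|b (32 :type_of% (a _))<|b (0 :type_of% (a _))<|b (64 :type_of% (a _))<|b (-32 :type_of% (a _))<|c);
 (b (96 :type_of% (a _))<|b (0 :type_of% (a _))<|b (0 :type_of% (a _))<|b (-32 :type_of% (a _))<|b (-32 :type_of% (a _))<|b (-32 :type_of% (a _))<|c));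
 (let c:=(b (0 :type_of% (a _))<|b (0 :type_of% (a _))<|b (-54 :type_of% (a _))<|b (96 :type_of% (a _))<|b (96 :type_of% (a _))<|b (96 :type_of% (a _))<|c);
 (d (367200 :type_of% (a _))<|d (-1440 :type_of% (a _))<|d (-1440 :type_of% (a _))<|d (-1440 :type_of% (a _))<|d (96 :type_of% (a _))<|c))))))

/-- degree `23218650` -/
def r91 : List ℤ := (beta% delta% lq2675025b5c fun a b d _ f _ _ _ _ _ _ _ _ _ _ _ _ _ _ _ _ _ _ _ _ _ _ =>
 (let c:=(let c:=(let c:=(let c:=(b (0 :type_of% (a _))<|b (0 :type_of% (a _))<|b (0 :type_of% (a _))<|b (0 :type_of% (a _))<|b (0 :type_of% (a _))<|b (0 :type_of% (a _))<|f);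
 (b (0 :type_of% (a _))<|b (0 :type_of% (a _))<|b (0 :type_of% (a _))<|b (0 :type_of% (a _))<|b (0 :type_of% (a _))<|b (0 :type_of% (a _))<|c));
 (let c:=(b (2 :type_of% (a _))<|b (2 :type_of% (a _))<|b (2 :type_of% (a _))<|b (-1 :type_of% (a _))<|b (0 :type_of% (a _))<|b (0 :type_of% (a _))<|c);
 (b (0 :type_of% (a _))<|b (0 :type_of% (a _))<|b (0 :type_of% (a _))<|b (0 :type_of% (a _))<|
 b (0 :type_of% (a _))<|c)));
 (let c:=(let c:=(b (0 :type_of% (a _))<|b (0 :type_of% (a _))<|b (0 :type_of% (a _))<|b (0 :type_of% (a _))<|b (0 :type_of% (a _))<|b (0 :type_of% (a _))<|c);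
 (b (0 :type_of% (a _))<|b (0 :type_of% (a _))<|b (0 :type_of% (a _))<|b (0 :type_of% (a _))<|b (0 :type_of% (a _))<|b (0 :type_of% (a _))<|c));
 (let c:=(b (0 :type_of% (a _))<|b (0 :type_of% (a _))<|b (0 :type_of% (a _))<|b (0 :type_of% (a _))<|b (0 :type_of% (a _))<|b (0 :type_of% (a _))<|c);
 (b (2 :type_of% (a _))<|b (2 :type_of% (a _))<|b (0 :type_of% (a _))<|b (0 :type_of% (a _))<|b (0 :type_of% (a _))<|c))));
 (let c:=(let c:=(let c:=(b (-6 :type_of% (a _))<|b (-6 :type_of% (a _))<|b (-6 :type_of% (a _))<|b (-6 :type_of% (a _))<|b (-6 :type_of% (a _))<|b (-6 :type_of% (a _))<|c);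
 (b (0 :type_of% (a _))<|b (0 :type_of% (a _))<|b (0 :type_of% (a _))<|b (-6 :type_of% (a _))<|b (-6 :type_of% (a _))<|b (-6 :type_of% (a _))<|c));
 (let c:=(b (0 :type_of% (a _))<|b (0 :type_of% (a _))<|b (0 :type_of% (a _))<|b (0 :type_of% (a _))<|b (0 :type_of% (a _))<|b (0 :type_of% (a _))<|c);
 (b (0 :type_of% (a _))<|b (0 :type_of% (a _))<|b (0 :type_of% (a _))<|b (0 :type_of% (a _))<|
 b (0 :type_of% (a _))<|c)));
 (let c:=(let c:=(b (90 :type_of% (a _))<|b (90 :type_of% (a _))<|b (-6 :type_of% (a _))<|b (-38 :type_of% (a _))<|b (-6 :type_of% (a _))<|b (-6 :type_of% (a _))<|c);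
 (b (-294 :type_of% (a _))<|b (90 :type_of% (a _))<|b (90 :type_of% (a _))<|b (90 :type_of% (a _))<|b (90 :type_of% (a _))<|b (-38 :type_of% (a _))<|c));
 (let c:=(b (0 :type_of% (a _))<|b (0 :type_of% (a _))<|b (0 :type_of% (a _))<|b (1242 :type_of% (a _))<|b (1242 :type_of% (a _))<|b (-294 :type_of% (a _))<|c);
 (d (23218650 :type_of% (a _))<|d (-5670 :type_of% (a _))<|d (-5670 :type_of% (a _))<|d (-5670 :type_of% (a _))<|d (-1062 :type_of% (a _))<|c))))))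

/-- the sums of the pairs of degrees `142884`, `183600`, `11609325` -/
def rB : List (List ℤ) := [r89, r90, r91]

/-- the degrees -/
def degL : List ℕ := (beta% delta% lq2675025b5c fun _ _ d _ f _ _ i j _ _ _ _ _ _ _ _ _ _ _ _ _ _ _ _ _ _ =>
 (let c:=(let c:=(let c:=(let c:=(j (142884 :type_of% (i _))<|j (142884 :type_of% (i _))<|j (183600 :type_of% (i _))<|j (183600 :type_of% (i _))<|j (11609325 :type_of% (i _))<|j (11609325 :type_of% (i _))<|f);
 (j (14034384 :type_of% (i _))<|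
 j (14619150 :type_of% (i _))<|j (14619150 :type_of% (i _))<|j (15181425 :type_of% (i _))<|j (16777216 :type_of% (i _))<|j (17326400 :type_of% (i _))<|c));
 (let c:=(j (9398025 :type_of% (i _))<|j (9398025 :type_of% (i _))<|j (10740600 :type_of% (i _))<|j (10740600 :type_of% (i _))<|j (11880960 :type_of% (i _))<|j (11880960 :type_of% (i _))<|c);
 (j (7309575 :type_of% (i _))<|j (7894341 :type_of% (i _))<|j (8055450 :type_of% (i _))<|j (8055450 :type_of% (i _))<|j (8771490 :type_of% (i _))<|j (8771490 :type_of% (i _))<|c)));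
 (let c:=(let c:=(j (5012280 :type_of% (i _))<|j (5640192 :type_of% (i _))<|j (5870592 :type_of% (i _))<|j (6497400 :type_of% (i _))<|
 j (6497400 :type_of% (i _))<|j (7309575 :type_of% (i _))<|c);
 (j (4385745 :type_of% (i _))<|j (4385745 :type_of% (i _))<|j (4385745 :type_of% (i _))<|j (4526080 :type_of% (i _))<|j (4526080 :type_of% (i _))<|j (5012280 :type_of% (i _))<|c));
 (let c:=(j (3411968 :type_of% (i _))<|j (3898440 :type_of% (i _))<|j (3898440 :type_of% (i _))<|j (4331600 :type_of% (i _))<|j (4331600 :type_of% (i _))<|j (4385745 :type_of% (i _))<|c);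
 (j (2165800 :type_of% (i _))<|j (2165800 :type_of% (i _))<|j (2784600 :type_of% (i _))<|j (2784600 :type_of% (i _))<|j (2828800 :type_of% (i _))<|j (2828800 :type_of% (i _))<|
 c))));
 (let c:=(let c:=(let c:=(j (1299480 :type_of% (i _))<|j (1299480 :type_of% (i _))<|j (1342575 :type_of% (i _))<|j (1342575 :type_of% (i _))<|j (1949220 :type_of% (i _))<|j (1949220 :type_of% (i _))<|c);
 (j (812175 :type_of% (i _))<|j (812175 :type_of% (i _))<|
 j (877149 :type_of% (i _))<|j (877149 :type_of% (i _))<|j (947700 :type_of% (i _))<|j (1082900 :type_of% (i _))<|c));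
 (let c:=(j (541450 :type_of% (i _))<|j (541450 :type_of% (i _))<|j (541450 :type_of% (i _))<|j (584766 :type_of% (i _))<|j (626535 :type_of% (i _))<|j (626535 :type_of% (i _))<|c);
 (j (348075 :type_of% (i _))<|j (348075 :type_of% (i _))<|j (358020 :type_of% (i _))<|j (358020 :type_of% (i _))<|j (519792 :type_of% (i _))<|j (541450 :type_of% (i _))<|c)));
 (let c:=(let c:=(j (216580 :type_of% (i _))<|j (216580 :type_of% (i _))<|
 j (249900 :type_of% (i _))<|j (269892 :type_of% (i _))<|j (270725 :type_of% (i _))<|j (322218 :type_of% (i _))<|c);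
 (j (44200 :type_of% (i _))<|j (63700 :type_of% (i _))<|j (99450 :type_of% (i _))<|j (99450 :type_of% (i _))<|j (162435 :type_of% (i _))<|j (162435 :type_of% (i _))<|c));
 (let c:=(j (1377 :type_of% (i _))<|j (21658 :type_of% (i _))<|j (22932 :type_of% (i _))<|j (23205 :type_of% (i _))<|j (23205 :type_of% (i _))<|j (44200 :type_of% (i _))<|c);
 (d (1 :type_of% (i _))<|d (833 :type_of% (i _))<|d (1105 :type_of% (i _))<|d (1105 :type_of% (i _))<|d (1326 :type_of% (i _))<|c))))))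

/-- the primes and the sections -/
def PL : List (ℕ × ℕ × List ℕ) := (beta% delta% lq2675025b5c fun _ _ d e f _ _ _ _ _ _ _ _ _ _ _ _ _ _ _ _ _ _ _ _ _ _ =>
 (d (e 2<|e 24 (d 0<|d 5<|d 6<|d 7<|d 23<|d 35<|d 36<|d 48<|d 49<|d 72<|d 73<|f))<|
 d (e 3<|e 6 (d 0<|d 1<|d 2<|d 3<|d 4<|d 8<|d 9<|d 10<|d 11<|d 12<|d 13<|d 14<|d 15<|d 17<|d 18<|d 19<|d 21<|d 23<|d 35<|d 36<|d 39<|d 40<|d 41<|d 42<|d 50<|d 51<|f))<|
 d (e 5<|e 2 (d 0<|d 1<|d 2<|d 3<|d 5<|d 6<|d 12<|d 13<|d 24<|d 25<|f))<|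
 d (e 7<|e 2 (d 0<|d 1<|d 2<|d 5<|d 6<|d 10<|d 11<|f))<|
 d (e 13<|e 1 (d 0<|f))<|
 d (e 17<|e 1 (d 0<|f))<|f))

/-- the certificates -/
def CL : List (ℕ × ℕ × List Cert) := (beta% delta% lq2675025b5c fun _ _ d e f g h _ _ k _ m n o p q r _ _ _ _ _ _ _ _ _ _ =>
 (d (e 2<|e 24 (d (q 0 (let c:=(let c:=(let c:=(let c:=(p (g (d (e 5592408 31)<|d (e 14680063 30)<|d (e 3495251 29)<|d (e 2796204 28)<|f) :type_of% (o _))<|p (g (d (e 5592406 32)<|d (e 5592405 30)<|d (e 11184811 29)<|f) :type_of% (o _))<|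
 p (g (d (e 1 34)<|d (e 16777215 33)<|d (e 16777215 31)<|f) :type_of% (o _))<|p (g (d (e 1 32)<|f) :type_of% (o _))<|p (g (d (e 1 35)<|f) :type_of% (o _))<|f);
 (p (g (d (e 16536099 34)<|d (e 8321320 32)<|d (e 9700730 31)<|d (e 2310232 29)<|d (e 7076486 28)<|d (e 185043 27)<|d (e 9330644 25)<|d (e 7446572 24)<|f) :type_of% (o _))<|p (g (d (e 3495253
 33)<|f) :type_of% (o _))<|p (g (d (e 6008057 33)<|d (e 3514147 31)<|d (e 10769159 30)<|d (e 2833989 29)<|d (e 8728687 27)<|d (e 8048529 26)<|f) :type_of% (o _))<|p (g (d (e 1 32)<|d (e 5592405 30)<|d (e 5592406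
 28)<|d (e 11184810 27)<|f) :type_of% (o _))<|c));
 (let c:=(p (g (d (e 2706392 32)<|d (e 5357800 31)<|d (e 4028247
 30)<|d (e 1827723 29)<|d (e 14300114 28)<|d (e 6675256 27)<|d (e 2810866 26)<|d (e 5400689 25)<|d (e 3344775 24)<|d (e 3911678 23)<|d (e 10791480 22)<|d (e 10050274 20)<|
 d (e 6726942 19)<|f) :type_of% (o _))<|p (g (d (e 6303962 33)<|d (e 7566158 32)<|d (e 5088216 30)<|d (e 14626213 29)<|d (e 9705166 28)<|d (e 2487896 27)<|d (e 5654552 26)<|d (e 11413871 25)<|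
 d (e 13639910 24)<|d (e 13385710 23)<|d (e 13476824 21)<|d (e 3300392 20)<|f) :type_of% (o _))<|p (g (d (e 11965323 34)<|d (e 13730138 33)<|d (e 1299386 31)<|d (e 13449166 30)<|d (e 2873905
 29)<|d (e 7235931 28)<|d (e 7050694 27)<|d (e 2906985 26)<|d (e 13015264 25)<|d (e 1326627 24)<|d (e 13882298 22)<|d (e 11283526 21)<|f) :type_of% (o _))<|p (g (d (e 5459826 32)<|
 d (e 12890243 31)<|d (e 14860854 30)<|d (e 14137690 29)<|d (e 8605551 28)<|d (e 2983028 27)<|d (e 15439381 26)<|d (e 14607749 25)<|d (e 13848434 23)<|d (e 7123086 22)<|f) :type_of% (o _))<|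
 p (g (d (e 6513965 35)<|d (e 3115132 33)<|d (e 9929487 31)<|d (e 10574764 30)<|d (e 8004780 28)<|d (e 6202452 27)<|d (e 6764289 26)<|d (e 15698045 24)<|d (e 1079171 23)<|f) :type_of% (o _))<|
 c);
 (p (g (d (e 1737377 39)<|d (e 697426 37)<|d (e 812455 32)<|d (e 12208932 31)<|
 d (e 7018528 30)<|d (e 16174704 29)<|d (e 9616326 28)<|d (e 9940311 27)<|d (e 9164271 26)<|d (e 3205280 25)<|d (e 4531206 24)<|d (e 13313215 23)<|d (e 16191219 22)<|
 d (e 5128186 21)<|d (e 5880710 20)<|d (e 10153858 19)<|d (e 7163046 18)<|d (e 8175247 16)<|d (e 12796273 15)<|f) :type_of% (o _))<|p (g (d (e 6350705 33)<|d (e 6194812 32)<|d (e 4058104 31)<|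
 d (e 6249316 30)<|d (e 255614 29)<|d (e 15253694 28)<|d (e 7123407 27)<|d (e 212765 26)<|d (e 1250840 25)<|d (e 16001767 24)<|d (e 2460428 23)<|d (e 7933363 22)<|d (e 2399105
 21)<|d (e 3952120 20)<|d (e 9630396 19)<|d (e 7336172 17)<|d (e 1052436 16)<|f) :type_of% (o _))<|p (g (d (e 14463006 32)<|d (e 16030409 31)<|d (e 32856 30)<|d (e 4536231 29)<|d (e 9969262
 28)<|d (e 3231199 27)<|d (e 752113 26)<|d (e 8912556 25)<|d (e 6019613 24)<|d (e 13730755 23)<|d (e 11718373 22)<|d (e 13453244 21)<|d (e 14871467 20)<|d (e 4811853 18)<|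
 d (e 7771059 17)<|f) :type_of% (o _))<|p (g (d (e 7172663 40)<|d (e 12396038 31)<|d (e 3114080 30)<|d (e 12383076 29)<|d (e 11307718 28)<|d (e 1372094 27)<|d (e 13705964 26)<|d (e 11674990
 25)<|d (e 12153330 24)<|d (e 8934168 23)<|d (e 3443737 22)<|d (e 8867048 21)<|d (e 11107882 19)<|d (e 1475030 18)<|f) :type_of% (o _))<|c)));
 (let c:=(let c:=(p (g (d (e 16609667 38)<|d (e 529474 36)<|d (e 15059765 34)<|d (e 9607565 33)<|d (e 4115983 32)<|d (e 747830 30)<|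
 d (e 6832142 29)<|d (e 15581691 28)<|d (e 9587864 27)<|d (e 12624096 26)<|d (e 12134212 25)<|d (e 11402205 24)<|d (e 13178718 23)<|d (e 15468583 22)<|d (e 8286205 21)<|
 d (e 6056683 20)<|d (e 8098534 19)<|d (e 11456513 18)<|d (e 3333578 17)<|d (e 8102457 16)<|d (e 1649467 15)<|d (e 16575261 14)<|d (e 10033975 13)<|d (e 1752436 11)<|
 d (e 10830476 10)<|f) :type_of% (o _))<|p (g (d (e 9123114 35)<|d (e 13135477 34)<|d (e 357573 33)<|d (e 5421677 31)<|d (e 13858838 30)<|d (e 7989333 29)<|d (e 6907891 28)<|d (e 6850404 27)<|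
 d (e 7851588 26)<|d (e 9874457 25)<|d (e 13192674 24)<|d (e 7260887 23)<|d (e 2224978 22)<|d (e 15940785 21)<|d (e 4550087 20)<|d (e 869761 19)<|d (e 3255748 18)<|
 d (e 4100380 17)<|d (e 11218804 16)<|d (e 11206029 15)<|d (e 2121559 14)<|d (e 1941112 12)<|d (e 2253192 11)<|f) :type_of% (o _))<|p (g (d (e 9091217 38)<|d (e 3670782 36)<|d (e 3919652 35)<|
 d (e 12799067 34)<|d (e 10235672 31)<|d (e 5170811 30)<|d (e 2500307 29)<|d (e 7773268 28)<|d (e 10632576 27)<|d (e 2083387 26)<|d (e 4809878 25)<|d (e 9015109 24)<|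
 d (e 7663514 23)<|d (e 4122758 22)<|d (e 9141534 21)<|d (e 8614214 20)<|d (e 2854930 19)<|d (e 3582266 18)<|d (e 9611070 17)<|d (e 3797127 16)<|d (e 13487061 15)<|
 d (e 14300706 13)<|d (e 6670814 12)<|f) :type_of% (o _))<|p (g (d (e 8523789 44)<|d (e 639413 37)<|d (e 2012703 35)<|d (e 3209405 31)<|d (e 14314325 30)<|d (e 3610636 29)<|d (e 3671224 28)<|
 d (e 13936193 27)<|d (e 286599 26)<|d (e 13287298 25)<|d (e 3179945 24)<|d (e 2843087 23)<|d (e 4702734 22)<|d (e 13224714 21)<|d (e 12032337 20)<|d (e 2070514 19)<|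
 d (e 14181304 18)<|d (e 7662319 17)<|d (e 11178285 16)<|d (e 10217336 14)<|d (e 10754184 13)<|f) :type_of% (o _))<|p (g (d (e 984065 32)<|d (e 13392934 31)<|d (e 2376584 30)<|d (e 12625210
 29)<|d (e 2181356 28)<|d (e 5905264 27)<|d (e 11345156 26)<|d (e 8619664 25)<|d (e 6062028 24)<|d (e 14641068 23)<|d (e 7198353 22)<|d (e 14790940 21)<|d (e 4838284 20)<|
 d (e 2875700 19)<|d (e 9538960 18)<|d (e 5854724 17)<|d (e 2098780 15)<|d (e 14678436 14)<|f) :type_of% (o _))<|c);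
 (p (g (d (e 15194662 33)<|d (e 14361278 32)<|d (e 11202413 31)<|d (e 14664751 30)<|d (e 16128572 29)<|
 d (e 3356696 28)<|d (e 11578600 27)<|d (e 13662223 26)<|d (e 12278627 25)<|d (e 11011323 24)<|d (e 10416612 23)<|d (e 5616225 22)<|d (e 4708465 21)<|d (e 8451066 20)<|
 d (e 1777471 19)<|d (e 2223407 18)<|d (e 6209896 17)<|d (e 5758372 16)<|d (e 8047864 15)<|d (e 13010014 14)<|d (e 2391740 13)<|d (e 11579447 12)<|d (e 6442285 11)<|
 d (e 16774773 10)<|d (e 7737451 9)<|d (e 6733696 7)<|d (e 5849216 6)<|f) :type_of% (o _))<|p (g (d (e 9585479 34)<|d (e 10846307 33)<|d (e 7626548 31)<|d (e 599422 30)<|d (e 15754604 29)<|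
 d (e 16056754 28)<|d (e 1525457 27)<|d (e 6160839 26)<|d (e 8802667 25)<|d (e 6496138 24)<|d (e 16536985 23)<|d (e 9182356 22)<|d (e 9606870 21)<|d (e 15761620 20)<|
 d (e 3163950 19)<|d (e 13694226 18)<|d (e 15414296 17)<|d (e 15232742 16)<|d (e 3205832 15)<|d (e 8637712 14)<|d (e 5522924 13)<|d (e 15483900 12)<|d (e 15963597 11)<|
 d (e 13353211 10)<|d (e 9815892 8)<|d (e 2767020 7)<|f) :type_of% (o _))<|p (g (d (e 10942961 42)<|d (e 11381781 39)<|d (e 3682980 37)<|d (e 2246719 36)<|d (e 11143766 34)<|d (e 3192699 32)<|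
 d (e 4842044 31)<|d (e 11856168 30)<|d (e 4180225 28)<|d (e 9862096 27)<|d (e 8859198 26)<|d (e 15285113 25)<|d (e 6287788 24)<|d (e 14362400 23)<|d (e 12738012 22)<|
 d (e 4812846 21)<|d (e 12866352 20)<|d (e 1611990 19)<|d (e 13459733 18)<|d (e 6965751 17)<|d (e 9795972 16)<|d (e 11125242 15)<|d (e 16682920 14)<|d (e 8888076 13)<|
 d (e 9328879 12)<|d (e 13892377 11)<|d (e 7750238 9)<|d (e 13221282 8)<|f) :type_of% (o _))<|p (g (d (e 16267691 38)<|d (e 10256051 37)<|d (e 13568325 35)<|d (e 7298046 33)<|d (e 817966 32)<|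
 d (e 168499 31)<|d (e 7012479 29)<|d (e 16761932 28)<|d (e 5068268 27)<|d (e 16392748 26)<|d (e 8904512 25)<|d (e 4099234 24)<|d (e 13249301 23)<|d (e 2307583 22)<|
 d (e 5745860 21)<|d (e 2117213 20)<|d (e 6951579 19)<|d (e 8599456 18)<|d (e 11103229 17)<|d (e 5097682 16)<|d (e 8951700 15)<|d (e 13332904 14)<|d (e 4341672 13)<|
 d (e 13339096 12)<|d (e 5079546 10)<|d (e 11697670 9)<|f) :type_of% (o _))<|c));
 (let c:=(p (g (d (e 3196536 32)<|d (e 336682 31)<|d (e 3506456 30)<|d (e 5274208 29)<|d (e 500956 28)<|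
 d (e 2434086 27)<|d (e 80160 26)<|d (e 10967726 25)<|d (e 8085146 24)<|d (e 6692300 23)<|d (e 16753386 22)<|d (e 4712909 21)<|d (e 7262845 20)<|d (e 15615179 19)<|
 d (e 2393309 18)<|d (e 15435460 17)<|d (e 13503935 16)<|d (e 9776326 15)<|d (e 11097340 14)<|d (e 8457482 13)<|d (e 16404244 12)<|d (e 2992592 11)<|d (e 10810008 10)<|
 d (e 6537836 9)<|d (e 11274008 8)<|d (e 9386432 7)<|d (e 9685304 6)<|d (e 10222504 5)<|d (e 13233696 4)<|d (e 9757724 2)<|d (e 7019492 1)<|f) :type_of% (o _))<|p (g (let c:=(let c:=(let c:=(k ((e 11692181 7) :type_of% (h _))<|k ((e 15523695 6) :type_of% (h _))<|k ((e 7544549 5) :type_of% (h _))<|k ((e 10424570 3) :type_of% (h _))<|k ((e 2158342 2) :type_of% (h _))<|f);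
 (k ((e 5805671 11) :type_of% (h _))<|k ((e 7220295 10) :type_of% (h _))<|k ((e 13692296 9) :type_of% (h _))<|k ((e 1789243 8) :type_of% (h _))<|
 c));
 (let c:=(k ((e 5421601 15) :type_of% (h _))<|k ((e 10330934 14) :type_of% (h _))<|k ((e 12313664 13) :type_of% (h _))<|k ((e 826553 12) :type_of% (h _))<|c);
 (k ((e 8625748 19) :type_of% (h _))<|k ((e 5624269 18) :type_of% (h _))<|k ((e 12986388 17) :type_of% (h _))<|
 k ((e 2364189 16) :type_of% (h _))<|c)));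
 (let c:=(let c:=(k ((e 7923861 23) :type_of% (h _))<|k ((e 14769503 22) :type_of% (h _))<|k ((e 14412949 21) :type_of% (h _))<|k ((e 15417715 20) :type_of% (h _))<|c);
 (k ((e 2399469 27) :type_of% (h _))<|k ((e 5574131 26) :type_of% (h _))<|
 k ((e 11476469 25) :type_of% (h _))<|k ((e 11674024 24) :type_of% (h _))<|c));
 (let c:=(k ((e 14455988 31) :type_of% (h _))<|k ((e 14805179 30) :type_of% (h _))<|k ((e 8396523 29) :type_of% (h _))<|k ((e 13442256 28) :type_of% (h _))<|c);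
 (d ((e 2709003 35) :type_of% (h _))<|
 d ((e 10060659 34) :type_of% (h _))<|d ((e 2027680 33) :type_of% (h _))<|d ((e 4418579 32) :type_of% (h _))<|c)))) :type_of% (o _))<|p (g (d ((e 14754971 35) :type_of% (h _))<|d ((e 4974141 34) :type_of% (h _))<|d ((e 5856319 33) :type_of% (h _))<|d ((e 12166941 32) :type_of% (h _))<|
 d ((e 16068290 31) :type_of% (h _))<|d ((e 14439049 30) :type_of% (h _))<|d ((e 16431884 29) :type_of% (h _))<|d ((e 7728311 28) :type_of% (h _))<|d ((e 159331 27) :type_of% (h _))<|d ((e 4014808 26) :type_of% (h _))<|d ((e 3002573 25) :type_of% (h _))<|d ((e 3472434 24) :type_of% (h _))<|d ((e 12260883 23) :type_of% (h _))<|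
 d ((e 11030600 22) :type_of% (h _))<|d ((e 5339850 21) :type_of% (h _))<|d ((e 6615634 20) :type_of% (h _))<|d ((e 3359256 19) :type_of% (h _))<|d ((e 7858069 18) :type_of% (h _))<|d ((e 2051785 17) :type_of% (h _))<|d ((e 9812224 16) :type_of% (h _))<|d ((e 11484259 15) :type_of% (h _))<|d ((e 2553337 14) :type_of% (h _))<|
 d ((e 3790609 13) :type_of% (h _))<|d ((e 9614654 12) :type_of% (h _))<|d ((e 8256511 11) :type_of% (h _))<|d ((e 16082686 10) :type_of% (h _))<|d ((e 7347483 9) :type_of% (h _))<|d ((e 7244541 8) :type_of% (h _))<|d ((e 7497941 7) :type_of% (h _))<|d ((e 8677263 6) :type_of% (h _))<|d ((e 7874262 4) :type_of% (h _))<|d ((e 13097258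
 3) :type_of% (h _))<|f) :type_of% (o _))<|p (g (d (e 6469266 32)<|d (e 9274872 31)<|d (e 11972984 30)<|d (e 6814432 29)<|d (e 10931698 28)<|d (e 15476104 27)<|d (e 12997448 26)<|d (e 7073781 25)<|d (e 3529278
 24)<|d (e 11105073 23)<|d (e 14968439 22)<|d (e 11101198 21)<|d (e 9839187 20)<|d (e 1614955 19)<|d (e 14870132 18)<|d (e 2340644 17)<|d (e 5146504 16)<|d (e 821964 15)<|
 d (e 5820442 14)<|d (e 9327514 13)<|d (e 9618528 12)<|d (e 10268892 11)<|d (e 15440792 10)<|d (e 8215688 9)<|d (e 2333892 8)<|d (e 16045180 7)<|d (e 7063584 5)<|d (e 9713632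
 4)<|f) :type_of% (o _))<|p (g (d (e 11280749 35)<|d (e 15714624 34)<|d (e 10897799 33)<|d (e 9236050 32)<|d (e 3423166 31)<|d (e 11669468 30)<|d (e 1524252 29)<|d (e 10304914 28)<|
 d (e 3863982 27)<|d (e 12113393 26)<|d (e 16331785 25)<|d (e 4052936 24)<|d (e 6445955 23)<|d (e 5439713 22)<|d (e 2325054 21)<|d (e 5273511 20)<|d (e 2091317 19)<|
 d (e 4756028 18)<|d (e 4331811 17)<|d (e 4768030 16)<|d (e 8531120 15)<|d (e 11740774 14)<|d (e 5510096 13)<|d (e 14215836 12)<|d (e 6259324 11)<|d (e 2924508 10)<|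
 d (e 2937254 9)<|d (e 1549810 8)<|d (e 6818676 6)<|d (e 1569932 5)<|f) :type_of% (o _))<|c);
 (p (n 0 1 1 :type_of% (o _))<|p (m 35 0 :type_of% (o _))<|p (n 1 1 1 :type_of% (o _))<|p (g (let c:=(let c:=(let c:=(k ((e 8392498
 5) :type_of% (h _))<|k ((e 5104506 4) :type_of% (h _))<|k ((e 10740534 3) :type_of% (h _))<|k ((e 14014556 1) :type_of% (h _))<|k ((e 11151268 0) :type_of% (h _))<|f);
 (k ((e 16761244 9) :type_of% (h _))<|k ((e 9786283 8) :type_of% (h _))<|k ((e 9869102 7) :type_of% (h _))<|k ((e 9390966 6) :type_of% (h _))<|c));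
 (let c:=(k ((e 4903598 13) :type_of% (h _))<|k ((e 9220754 12) :type_of% (h _))<|k ((e 9095076 11) :type_of% (h _))<|k ((e 7315838 10) :type_of% (h _))<|c);
 (k ((e 5170087 17) :type_of% (h _))<|k ((e 10275872 16) :type_of% (h _))<|k ((e 2513910 15) :type_of% (h _))<|
 k ((e 5519254 14) :type_of% (h _))<|c)));
 (let c:=(let c:=(k ((e 10134852 21) :type_of% (h _))<|k ((e 13094712 20) :type_of% (h _))<|k ((e 11613253 19) :type_of% (h _))<|k ((e 8080929 18) :type_of% (h _))<|c);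
 (k ((e 16268304 25) :type_of% (h _))<|k ((e 10888100 24) :type_of% (h _))<|
 k ((e 13432270 23) :type_of% (h _))<|k ((e 15895894 22) :type_of% (h _))<|c));
 (let c:=(k ((e 316644 29) :type_of% (h _))<|k ((e 11973624 28) :type_of% (h _))<|k ((e 3880198 27) :type_of% (h _))<|k ((e 15761802 26) :type_of% (h _))<|c);
 (d ((e 5012910
 33) :type_of% (h _))<|d ((e 707006 32) :type_of% (h _))<|d ((e 1575718 31) :type_of% (h _))<|d ((e 11165104 30) :type_of% (h _))<|c)))) :type_of% (o _))<|c))));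
 (let c:=(let c:=(let c:=(p (m 6 6 :type_of% (o _))<|p (n 5 1 0 :type_of% (o _))<|p (m 31 0 :type_of% (o _))<|p (n 7 1 0 :type_of% (o _))<|p (m 33 0 :type_of% (o _))<|c);
 (p (m 24
 2 :type_of% (o _))<|p (m 25 2 :type_of% (o _))<|p (m 25 4 :type_of% (o _))<|p (m 12 5 :type_of% (o _))<|c));
 (let c:=(p (m 18 3 :type_of% (o _))<|p (m 5 5 :type_of% (o _))<|p (n 4 1 0 :type_of% (o _))<|p (m 23 0 :type_of% (o _))<|p (m 24 0 :type_of% (o _))<|c);
 (p (m 16 0 :type_of% (o _))<|p (m 17 0 :type_of% (o _))<|p (m 17 2 :type_of% (o _))<|p (m 17 3 :type_of% (o _))<|c)));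
 (let c:=(let c:=(p (m 9 9 :type_of% (o _))<|p (m 10
 9 :type_of% (o _))<|p (m 11 6 :type_of% (o _))<|p (m 12 2 :type_of% (o _))<|p (n 3 1 0 :type_of% (o _))<|c);
 (p (m 6 4 :type_of% (o _))<|p (m 7 4 :type_of% (o _))<|p (m 8 2 :type_of% (o _))<|p (m 9 2 :type_of% (o _))<|c));
 (let c:=(p (m 3 0 :type_of% (o _))<|p (m 4 0 :type_of% (o _))<|p (m 5 0 :type_of% (o _))<|p (m 5 4 :type_of% (o _))<|c);
 (d (n 0 1 0 :type_of% (o _))<|d (n 1 1 0 :type_of% (o _))<|d (n 2 1 0 :type_of% (o _))<|d (m 2 0 :type_of% (o _))<|c))))) (let c:=(let c:=(let c:=(k ((e 8 8192) :type_of% (h _))<|k ((e 4 1024) :type_of% (h _))<|k ((e 0 8192) :type_of% (h _))<|k ((e 1 65536) :type_of% (h _))<|k ((e 2 131072) :type_of% (h _))<|f);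
 (k ((e 13 128) :type_of% (h _))<|k ((e 5 512) :type_of% (h _))<|k ((e 6 512) :type_of% (h _))<|k ((e 7 2048) :type_of% (h _))<|c));
 (let c:=(k ((e 9 256) :type_of% (h _))<|k ((e 10
 1024) :type_of% (h _))<|k ((e 11 64) :type_of% (h _))<|k ((e 12 256) :type_of% (h _))<|c);
 (k ((e 19 128) :type_of% (h _))<|k ((e 14 32) :type_of% (h _))<|k ((e 15 128) :type_of% (h _))<|k ((e 17 64) :type_of% (h _))<|c)));
 (let c:=(let c:=(k ((e 20 16) :type_of% (h _))<|k ((e 21 64) :type_of% (h _))<|k ((e 18 16) :type_of% (h _))<|k ((e 16 16) :type_of% (h _))<|c);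
 (k ((e 25 16) :type_of% (h _))<|k ((e 26 4) :type_of% (h _))<|k ((e 27 16) :type_of% (h _))<|k ((e 28 16) :type_of% (h _))<|c));
 (let c:=(k ((e 30 8) :type_of% (h _))<|k ((e 22 4) :type_of% (h _))<|k ((e 23 8) :type_of% (h _))<|
 k ((e 24 8) :type_of% (h _))<|c);
 (d ((e 31 1) :type_of% (h _))<|d ((e 32 2) :type_of% (h _))<|d ((e 33 4) :type_of% (h _))<|d ((e 29 2) :type_of% (h _))<|c)))))<|
 d (q 5 (d r<|d (n 0 1 0)<|d (m 0 0)<|d (m 1 0)<|d (m 2 0)<|d (m 3 0)<|d (n 1 1 0)<|d (m 5 0)<|d (m 6 0)<|d (m 2 2)<|d (n 2 1 0)<|d (m 9 0)<|d (g (d (e 7307241 11)<|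
 d (e 2256617 10)<|d (e 11687286 9)<|d (e 327686 8)<|d (e 14559905 7)<|d (e 14192913 6)<|d (e 9437168 5)<|d (e 7340048 3)<|f))<|d (g (d (e 1703921 12)<|d (e 14155784 11)<|
 d (e 16515078 10)<|d (e 9961472 9)<|d (e 7995393 8)<|d (e 3670016 6)<|d (e 13107200 4)<|d (e 7340040 2)<|d (e 9437176 1)<|f))<|d (g (d (e 349544 13)<|d (e 6000177 12)<|
 d (e 15262596 11)<|d (e 11942115 10)<|d (e 5068119 7)<|d (e 11709097 5)<|d (e 1165076 3)<|d (e 15612140 2)<|f))<|d (g (d (e 2936013 14)<|d (e 1118481 13)<|d (e 4334114 12)<|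
 d (e 9507089 4)<|d (e 15658735 3)<|f))<|d (g (d (e 9437187 15)<|d (e 13631485 14)<|d (e 9437183 13)<|d (e 15728639 12)<|d (e 12582908 9)<|d (e 4194308 8)<|d (e 2097154 6)<|f))<|
 d (g (d (e 4194304 16)<|d (e 2796202 15)<|d (e 15379115 14)<|d (e 2796202 10)<|d (e 13981014 9)<|d (e 11184811 7)<|f))<|d (g (d (e 10485761 17)<|d (e 12582913 16)<|
 d (e 10485758 15)<|d (e 4194305 11)<|d (e 12582911 10)<|f))<|d (g (d (e 14680067 18)<|d (e 14680063 16)<|d (e 4194302 8)<|f))<|d (g (d (e 4194305 19)<|d (e 12582911 9)<|f))<|d (g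
 (d (e 8388608 20)<|d (e 8388609 19)<|d (e 1 14)<|f))<|d (g (d (e 1 21)<|d (e 1 20)<|f))<|d (g (d (e 1 22)<|f))<|f) (d (e 10 1)<|d (e 11 2)<|d (e 9 2)<|d (e 6 4)<|d (e 7 8)<|d (e 4 4)<|d (e 5 8)<|
 d (e 8 16)<|d (e 0 16)<|d (e 1 32)<|d (e 2 128)<|d (e 3 512)<|f))<|
 d (q 6 (d (n 1 1 0)<|d (m 0 0)<|d (m 1 0)<|d (m 2 0)<|d (m 3 0)<|d (m 4 0)<|d (n 3 1 0)<|d (m 6 0)<|d (m 7 0)<|d (m 8 0)<|d (m 3 3)<|d (m 4 3)<|d (m 5 3)<|d (m 6 2)<|
 d (n 4 1 0)<|d (m 14 0)<|d (g (d (e 9218044 11)<|d (e 8624956 10)<|d (e 13855258 9)<|d (e 14340724 8)<|d (e 2058174 7)<|d (e 8077164 6)<|d (e 6532249 5)<|d (e 11445010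
 4)<|d (e 2461369 3)<|d (e 9291538 2)<|d (e 9218044 1)<|d (e 8624956 0)<|f))<|d (g (d (e 12538584 11)<|d (e 571808 10)<|d (e 9184726 9)<|d (e 14309032 8)<|d (e 5954190 7)<|
 d (e 6929239 6)<|d (e 9207758 5)<|d (e 9050991 4)<|d (e 10320853 3)<|d (e 12538584 1)<|f))<|d (g (d (e 13310462 13)<|d (e 1885950 12)<|d (e 14451663 11)<|d (e 9499101 10)<|
 d (e 3862397 9)<|d (e 5741271 8)<|d (e 11527839 7)<|d (e 8793255 6)<|d (e 14023740 5)<|d (e 13310462 3)<|d (e 1885950 2)<|f))<|d (g (d (e 9561395 16)<|d (e 9048473 15)<|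
 d (e 14586920 14)<|d (e 15347900 13)<|d (e 14242672 11)<|d (e 7371099 10)<|d (e 11940661 9)<|d (e 893480 6)<|d (e 15759707 4)<|d (e 16007765 3)<|f))<|d (g (d (e 15052909 15)<|
 d (e 4247675 14)<|d (e 1243366 12)<|d (e 2470001 11)<|d (e 13063849 10)<|d (e 7126924 7)<|d (e 6664301 5)<|d (e 12636283 4)<|f))<|d (g (d (e 11006106 15)<|d (e 9079784 13)<|
 d (e 9019318 12)<|d (e 15455330 11)<|d (e 11274163 8)<|d (e 11006106 5)<|f))<|d (g (d (e 4055261 18)<|d (e 12721955 16)<|d (e 8446143 13)<|d (e 8331073 12)<|f))<|d (g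
 (d (e 9395241 14)<|d (e 7381975 13)<|f))<|d (g (d (e 1 18)<|d (e 16777215 14)<|d (e 1 8)<|f))<|d (g (d (e 1 15)<|f))<|d (g (d (e 8388607 11)<|d (e 8388607 10)<|f))<|d (g (d (e 16777215
 11)<|f))<|f) (d (e 10 1)<|d (e 11 2)<|d (e 9 2)<|d (e 6 4)<|d (e 7 8)<|d (e 4 4)<|d (e 5 8)<|d (e 8 16)<|d (e 0 16)<|d (e 1 32)<|d (e 2 128)<|d (e 3 512)<|f))<|
 d (q 7 (d r<|d (n 0 1 0)<|d (m 0 0)<|d (n 2 1 0)<|d (m 2 0)<|d (m 3 0)<|d (m 2 2)<|d (m 3 2)<|d (m 4 2)<|d (n 0 3 0)<|d (g (d (e 12582912 8)<|d (e 14680064 7)<|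
 d (e 699052 5)<|d (e 10835286 4)<|d (e 7689558 2)<|d (e 11184811 1)<|f))<|d (g (d (e 8388612 9)<|d (e 4194306 8)<|d (e 8388610 6)<|d (e 1 5)<|f))<|d (g (d (e 15379116 10)<|
 d (e 11883866 9)<|d (e 16078170 7)<|d (e 12932437 4)<|f))<|d (g (d (e 12582912 11)<|d (e 9646899 10)<|d (e 15938355 8)<|f))<|d (g (d (e 12582918 12)<|d (e 2097153 11)<|
 d (e 12582918 10)<|d (e 14680063 7)<|f))<|d (g (d (e 2 13)<|d (e 1 12)<|f))<|d (g (d (e 2796203 14)<|d (e 11184811 12)<|f))<|d (g (d (e 8388607 15)<|f))<|d (g (d (e 4194307 17)<|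
 d (e 1398101 8)<|f))<|d (g (d (e 1 18)<|f))<|f) (d (e 8 1)<|d (e 9 4)<|d (e 4 2)<|d (e 5 2)<|d (e 6 8)<|d (e 7 8)<|d (e 0 4)<|d (e 1 16)<|d (e 2 16)<|d (e 3 64)<|f))<|
 d (q 23 (d r<|d (n 0 1 0)<|d (m 0 0)<|d (m 1 0)<|d (n 1 1 0)<|d (m 3 0)<|d (g (d (e 13631485 5)<|d (e 5242881 4)<|d (e 11534339 3)<|d (e 3145727 2)<|d (e 4194308 1)<|
 d (e 12582916 0)<|f))<|d (g (d (e 3495253 5)<|d (e 8388608 4)<|d (e 4893355 3)<|d (e 1398098 2)<|d (e 9786706 1)<|f))<|d (g (d (e 8388610 5)<|d (e 8388606 4)<|d (e 4194319 3)<|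
 d (e 4194321 2)<|f))<|d (g (d (e 8761435 6)<|d (e 8015781 5)<|d (e 372827 3)<|f))<|d (g (d (e 8388607 4)<|f))<|d (g (d (e 1 7)<|f))<|f) (d (e 4 1)<|d (e 5 2)<|d (e 0 2)<|d (e 1 4)<|d (e 2 8)<|d (e 3
 16)<|f))<|
 d (q 35 (d r<|d (n 1 1 0)<|d (m 0 0)<|d (g (d (e 10485765 2)<|d (e 8388612 1)<|d (e 14680063 0)<|f))<|d (g (d (e 11184811 3)<|d (e 11184811 2)<|f))<|d (g (d (e 1 4)<|f))<|f) (d (e 2 1)<|d (e 0
 2)<|d (e 1 8)<|f))<|
 d (q 36 (d r<|d (n 0 1 0)<|d (m 0 0)<|d (g (d (e 12582918 1)<|d (e 14680063 0)<|f))<|d (g (d (e 11184811 2)<|f))<|d (g (d (e 1 4)<|f))<|f) (d (e 2 1)<|d (e 0 2)<|d (e 1 8)<|f))<|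
 d (q 48 (d r<|d (n 0 1 0)<|d (g (d (e 8388609 1)<|d (e 8388607 0)<|f))<|d (g (d (e 1 2)<|f))<|f) (d (e 0 1)<|d (e 1 2)<|f))<|
 d (q 49 (d r<|d (n 3 1 0)<|d (g (d (e 8388609 1)<|d (e 8388607 0)<|f))<|d (g (d (e 1 2)<|f))<|f) (d (e 0 1)<|d (e 1 2)<|f))<|
 d (q 72 (d r<|d (n 1 1 0)<|d (g (d (e 2 1)<|d (e 8388607 0)<|f))<|d (g (d (e 1 2)<|f))<|f) (d (e 0 1)<|d (e 1 2)<|f))<|
 d (q 73 (d r<|d (n 0 1 0)<|d (g (d (e 2 1)<|d (e 8388607 0)<|f))<|d (g (d (e 1 2)<|f))<|f) (d (e 0 1)<|d (e 1 2)<|f))<|f))<|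
 d (e 3<|e 6 (d (q 0 (d r<|d (n 2 1 0)<|d (m 0 0)<|d (n 3 1 0)<|d (m 2 0)<|d (g (d (e 549 3)<|d (e 319 2)<|d (e 195 0)<|f))<|d (g (d (e 293 4)<|d (e 175 1)<|f))<|d (g (d (e 307 5)<|f))<|d (g (d (e 2 7)<|
 d (e 1 4)<|f))<|d (g (d (e 1 8)<|f))<|f) (d (e 4 1)<|d (e 5 3)<|d (e 1 3)<|d (e 2 27)<|d (e 0 27)<|f))<|
 d (q 1 (d (n 0 1 0)<|d (m 0 0)<|d (m 1 0)<|d (m 2 0)<|d (n 1 1 0)<|d (g (d (e 146 4)<|d (e 489 3)<|d (e 645 2)<|d (e 178 1)<|d (e 108 0)<|f))<|d (g (d (e 677 4)<|d (e 569 3)<|d (e 212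
 2)<|d (e 126 1)<|f))<|d (g (d (e 293 4)<|d (e 436 3)<|d (e 313 2)<|f))<|d (g (d (e 146 3)<|f))<|d (g (d (e 1 5)<|f))<|f) (d (e 4 1)<|d (e 1 3)<|d (e 2 3)<|d (e 0 9)<|d (e 3 81)<|f))<|
 d (q 2 (d r<|d (n 0 1 0)<|d (m 0 0)<|d (m 1 0)<|d (n 1 1 0)<|d (g (d (e 653 4)<|d (e 339 3)<|d (e 51 2)<|d (e 365 1)<|f))<|d (g (d (e 728 5)<|d (e 676 4)<|d (e 677 3)<|f))<|d (g (d (e 728
 6)<|d (e 728 5)<|d (e 1 2)<|f))<|d (g (d (e 146 7)<|d (e 146 6)<|f))<|d (g (d (e 1 8)<|f))<|f) (d (e 4 1)<|d (e 1 3)<|d (e 2 3)<|d (e 0 9)<|d (e 3 81)<|f))<|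
 d (q 3 (d r<|d (n 0 1 0)<|d (m 0 0)<|d (g (d (e 486 2)<|d (e 363 1)<|d (e 716 0)<|f))<|d (g (d (e 648 3)<|d (e 514 2)<|f))<|d (g (d (e 1 4)<|f))<|f) (d (e 0 1)<|d (e 1 3)<|d (e 2 9)<|f))<|
 d (q 4 (d r<|d (n 0 1 0)<|d (n 1 1 0)<|d (m 1 0)<|d (g (d (e 156 3)<|d (e 291 2)<|d (e 677 1)<|d (e 146 0)<|f))<|d (g (d (e 343 4)<|d (e 487 3)<|d (e 534 2)<|f))<|d (g (d (e 222 5)<|d (e 413
 3)<|f))<|d (g (d (e 1 6)<|f))<|f) (d (e 0 1)<|d (e 1 3)<|d (e 2 3)<|d (e 3 9)<|f))<|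
 d (q 8 (d r<|d (n 1 1 0)<|d (m 0 0)<|d (g (d (e 27 2)<|d (e 717 1)<|d (e 1 0)<|f))<|d (g (d (e 363 3)<|d (e 365 2)<|f))<|d (g (d (e 1 4)<|f))<|f) (d (e 1 1)<|d (e 0 3)<|d (e 2 27)<|f))<|
 d (q 9 (d r<|d (n 0 1 0)<|d (m 0 0)<|d (g (d (e 27 2)<|d (e 717 1)<|d (e 1 0)<|f))<|d (g (d (e 363 3)<|d (e 365 2)<|f))<|d (g (d (e 1 4)<|f))<|f) (d (e 1 1)<|d (e 0 3)<|d (e 2 27)<|f))<|
 d (q 10 (d r<|d (n 1 1 0)<|d (g (d (e 541 1)<|d (e 538 0)<|f))<|d (g (d (e 1 2)<|f))<|f) (d (e 0 1)<|d (e 1 3)<|f))<|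
 d (q 11 (d r<|d (n 0 1 0)<|d (g (d (e 541 1)<|d (e 538 0)<|f))<|d (g (d (e 1 2)<|f))<|f) (d (e 0 1)<|d (e 1 3)<|f))<|
 d (q 12 (d r<|d (n 0 1 0)<|d (m 0 0)<|d (g (d (e 338 2)<|d (e 245 1)<|d (e 146 0)<|f))<|d (g (d (e 185 3)<|d (e 547 2)<|f))<|d (g (d (e 1 4)<|f))<|f) (d (e 0 1)<|d (e 1 3)<|d (e 2 9)<|f))<|
 d (q 13 (d r<|d (n 0 1 0)<|d (m 0 0)<|d (g (d (e 9 2)<|d (e 558 1)<|d (e 266 0)<|f))<|d (g (d (e 276 3)<|d (e 577 2)<|f))<|d (g (d (e 1 4)<|f))<|f) (d (e 0 1)<|d (e 1 3)<|d (e 2 9)<|f))<|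
 d (q 14 (d r<|d (n 5 1 0)<|d (g (d (e 491 1)<|d (e 485 0)<|f))<|d (g (d (e 1 2)<|f))<|f) (d (e 0 1)<|d (e 1 3)<|f))<|
 d (q 15 (d r<|d (n 2 1 0)<|d (g (d (e 491 1)<|d (e 485 0)<|f))<|d (g (d (e 1 2)<|f))<|f) (d (e 0 1)<|d (e 1 3)<|f))<|
 d (q 17 (d r<|d (n 0 1 0)<|d (g (d (e 3 1)<|d (e 1 0)<|f))<|d (g (d (e 1 2)<|f))<|f) (d (e 0 1)<|d (e 1 3)<|f))<|
 d (q 18 (d r<|d (n 0 1 0)<|d (g (d (e 64 1)<|d (e 668 0)<|f))<|d (g (d (e 1 2)<|f))<|f) (d (e 0 1)<|d (e 1 3)<|f))<|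
 d (q 19 (d r<|d (n 2 1 0)<|d (g (d (e 3 1)<|d (e 590 0)<|f))<|d (g (d (e 1 2)<|f))<|f) (d (e 0 1)<|d (e 1 3)<|f))<|
 d (q 21 (d r<|d (n 0 1 0)<|d (g (d (e 3 1)<|d (e 1 0)<|f))<|d (g (d (e 1 2)<|f))<|f) (d (e 0 1)<|d (e 1 3)<|f))<|
 d (q 23 (d r<|d (n 0 1 0)<|d (m 0 0)<|d (g (d (e 410 2)<|d (e 328 1)<|d (e 647 0)<|f))<|d (g (d (e 124 3)<|d (e 121 2)<|f))<|d (g (d (e 1 4)<|f))<|f) (d (e 0 1)<|d (e 1 3)<|d (e 2 9)<|f))<|
 d (q 35 (d r<|d (n 1 1 0)<|d (g (d (e 124 1)<|d (e 121 0)<|f))<|d (g (d (e 1 2)<|f))<|f) (d (e 0 1)<|d (e 1 3)<|f))<|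
 d (q 36 (d r<|d (n 0 1 0)<|d (g (d (e 3 1)<|d (e 121 0)<|f))<|d (g (d (e 1 2)<|f))<|f) (d (e 0 1)<|d (e 1 3)<|f))<|
 d (q 39 (d r<|d (n 0 1 0)<|d (g (d (e 244 1)<|d (e 485 0)<|f))<|d (g (d (e 1 2)<|f))<|f) (d (e 0 1)<|d (e 1 3)<|f))<|
 d (q 40 (d r<|d (n 0 1 0)<|d (g (d (e 3 1)<|d (e 1 0)<|f))<|d (g (d (e 1 2)<|f))<|f) (d (e 0 1)<|d (e 1 3)<|f))<|
 d (q 41 (d r<|d (n 1 1 0)<|d (g (d (e 124 1)<|d (e 121 0)<|f))<|d (g (d (e 1 2)<|f))<|f) (d (e 0 1)<|d (e 1 3)<|f))<|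
 d (q 42 (d r<|d (n 0 1 0)<|d (g (d (e 124 1)<|d (e 121 0)<|f))<|d (g (d (e 1 2)<|f))<|f) (d (e 0 1)<|d (e 1 3)<|f))<|
 d (q 50 (d r<|d (n 4 1 0)<|d (g (d (e 3 1)<|d (e 485 0)<|f))<|d (g (d (e 1 2)<|f))<|f) (d (e 0 1)<|d (e 1 3)<|f))<|
 d (q 51 (d r<|d (n 0 1 0)<|d (g (d (e 3 1)<|d (e 485 0)<|f))<|d (g (d (e 1 2)<|f))<|f) (d (e 0 1)<|d (e 1 3)<|f))<|f))<|
 d (e 5<|e 2 (d (q 0 (d r<|d (g (d (e 1 0)<|f))<|f) (d (e 0 1)<|f))<|
 d (q 1 (d r<|d (n 3 1 0)<|d (g (d (e 5 1)<|d (e 19 0)<|f))<|d (g (d (e 1 2)<|f))<|f) (d (e 0 1)<|d (e 1 5)<|f))<|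
 d (q 2 (d r<|d (n 0 1 0)<|d (g (d (e 22 1)<|d (e 17 0)<|f))<|d (g (d (e 1 2)<|f))<|f) (d (e 0 1)<|d (e 1 5)<|f))<|
 d (q 3 (d r<|d (n 0 1 0)<|d (g (d (e 11 1)<|d (e 19 0)<|f))<|d (g (d (e 1 2)<|f))<|f) (d (e 0 1)<|d (e 1 5)<|f))<|
 d (q 5 (d r<|d (n 0 1 0)<|d (g (d (e 17 1)<|d (e 19 0)<|f))<|d (g (d (e 1 2)<|f))<|f) (d (e 0 1)<|d (e 1 5)<|f))<|
 d (q 6 (d r<|d (n 0 1 0)<|d (g (d (e 22 1)<|d (e 17 0)<|f))<|d (g (d (e 1 2)<|f))<|f) (d (e 0 1)<|d (e 1 5)<|f))<|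
 d (q 12 (d r<|d (n 0 1 0)<|d (g (d (e 18 1)<|d (e 13 0)<|f))<|d (g (d (e 1 2)<|f))<|f) (d (e 0 1)<|d (e 1 5)<|f))<|
 d (q 13 (d r<|d (n 0 1 0)<|d (g (d (e 4 1)<|d (e 1 0)<|f))<|d (g (d (e 1 2)<|f))<|f) (d (e 0 1)<|d (e 1 5)<|f))<|
 d (q 24 (d r<|d (n 0 1 0)<|d (g (d (e 5 1)<|d (e 1 0)<|f))<|d (g (d (e 1 2)<|f))<|f) (d (e 0 1)<|d (e 1 5)<|f))<|
 d (q 25 (d r<|d (n 0 1 0)<|d (g (d (e 18 1)<|d (e 13 0)<|f))<|d (g (d (e 1 2)<|f))<|f) (d (e 0 1)<|d (e 1 5)<|f))<|f))<|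
 d (e 7<|e 2 (d (q 0 (d r<|d (n 0 1 0)<|d (g (d (e 40 1)<|d (e 33 0)<|f))<|d (g (d (e 1 2)<|f))<|f) (d (e 0 1)<|d (e 1 7)<|f))<|
 d (q 1 (d r<|d (n 1 1 0)<|d (g (d (e 23 1)<|d (e 33 0)<|f))<|d (g (d (e 1 2)<|f))<|f) (d (e 0 1)<|d (e 1 7)<|f))<|
 d (q 2 (d r<|d (n 0 1 0)<|d (g (d (e 17 1)<|d (e 10 0)<|f))<|d (g (d (e 1 2)<|f))<|f) (d (e 0 1)<|d (e 1 7)<|f))<|
 d (q 5 (d r<|d (n 0 1 0)<|d (g (d (e 7 1)<|d (e 41 0)<|f))<|d (g (d (e 1 2)<|f))<|f) (d (e 0 1)<|d (e 1 7)<|f))<|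
 d (q 6 (d r<|d (n 0 1 0)<|d (g (d (e 32 1)<|d (e 25 0)<|f))<|d (g (d (e 1 2)<|f))<|f) (d (e 0 1)<|d (e 1 7)<|f))<|
 d (q 10 (d r<|d (n 0 1 0)<|d (g (d (e 7 1)<|d (e 1 0)<|f))<|d (g (d (e 1 2)<|f))<|f) (d (e 0 1)<|d (e 1 7)<|f))<|
 d (q 11 (d r<|d (n 0 1 0)<|d (g (d (e 8 1)<|d (e 1 0)<|f))<|d (g (d (e 1 2)<|f))<|f) (d (e 0 1)<|d (e 1 7)<|f))<|f))<|
 d (e 13<|e 1 (d (q 0 (d r<|d (g (d (e 1 0)<|f))<|f) (d (e 0 1)<|f))<|f))<|
 d (e 17<|e 1 (d (q 0 (d r<|d (g (d (e 1 0)<|f))<|f) (d (e 0 1)<|f))<|f))<|f))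

/-- the constituents of `pY` -/
def rY : List (List ℤ) := [r0, r3, r5, r9, r11]

theorem okY : (beta% delta% lq2675025b5c fun _ _ d e f _ _ _ _ _ _ _ _ _ _ _ _ s t u v w x _ _ _ _ =>
 s t u (d v<|d w<|d x<|f) rY
 (d (e 69888 (d (e 1 1)<|f))<|d (e 16128 (d (e 259 0)<|d (e (-4) 1)<|d (e 35 2)<|d (e 7 3)<|d (e (-56) 4)<|f))<|d (e 23296 (d (e 455 0)<|d (e 4 1)<|d (e 39 2)<|d (e (-13) 3)<|d (e 104 4)<|f))<|d (e 768
 (d (e 254 0)<|d (e 1 1)<|d (e (-2) 2)<|d (e (-2) 3)<|d (e (-16) 4)<|f))<|d (e 4032 (d (e 2555 0)<|d (e (-5) 1)<|d (e (-5) 2)<|d (e 11 3)<|d (e 80 4)<|f))<|f)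
 (d (d (e 1 91)<|f)<|d (d (e 2 91)<|d (e (-1) 89)<|d (e (-1) 84)<|f)<|d (d (e 3 91)<|d (e (-2) 89)<|d (e 1 87)<|d (e (-2) 84)<|f)<|d (d (e 1 91)<|d (e 1 90)<|d (e (-1) 89)<|d (e (-1) 84)<|f)<|d (d (e 3 91)<|d (e 1
 90)<|d (e (-2) 89)<|d (e 1 87)<|d (e (-3) 84)<|f)<|f) :
 Bool) = true := by
  decide +kernel

/-- the constituents of `pY'` -/
def rY' : List (List ℤ) := [r0, r2, r5, r8, r10]

theorem okY' : (beta% delta% lq2675025b5c fun _ _ d e f _ _ _ _ _ _ _ _ _ _ _ _ s t _ _ _ _ y z A B =>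
 s t y (d z<|d A<|d B<|f) rY'
 (d (e 69888 (d (e 1 1)<|f))<|d (e 16128 (d (e 259 0)<|d (e (-4) 1)<|d (e 35 2)<|d (e 7 3)<|d (e (-56) 4)<|f))<|d (e 23296 (d (e 455 0)<|d (e 4 1)<|d (e 39 2)<|d (e (-13) 3)<|d (e 104 4)<|f))<|d (e 768
 (d (e 254 0)<|d (e 1 1)<|d (e (-2) 2)<|d (e (-2) 3)<|d (e (-16) 4)<|f))<|d (e 4032 (d (e 2555 0)<|d (e (-5) 1)<|d (e (-5) 2)<|d (e 11 3)<|d (e 80 4)<|f))<|f)
 (d (d (e 1 90)<|f)<|d (d (e 1 91)<|d (e 1 90)<|d (e (-1) 89)<|d (e (-1) 87)<|f)<|d (d (e 1 90)<|d (e (-1) 85)<|f)<|d (d (e 2 91)<|d (e (-1) 89)<|d (e (-1) 87)<|f)<|d (d (e 1 91)<|d (e 1 90)<|d (e (-1) 87)<|d (e (-1)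
 85)<|f)<|f) :
 Bool) = true := by
  decide +kernel

/-- the seeds -/
noncomputable def seeds : List (List ℤ) := rY.tail ++ [ntd rY' [] 1, ntd rY' [] 3, ntd rY' [] 4, pX]

theorem okC : Sm1.okC D PL CL seeds (rA ++ rB) = true := by decide +kernel

theorem okR : Sm2.okRows D rA rB = true := Pk.rows_of (by decide +kernel)

theorem ok1 : okOne D = true := by decide +kernel

/-- the table -/
noncomputable def RR : Rows := Sm2.mkRows rA rB

theorem deg_eq : RR.deg = degL := by decide +kernel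

variable {G : Type*} [Group G] {T : TD G D}

theorem Hyp.finite (h : Hyp T) : Finite G := Nat.finite_of_card_ne_zero (by rw [h.1.1]; decide)

theorem one_spec : ∀ i < D.n, (i = 0 ∨ D.ord i ≠ 1) ∧ 0 < D.cnt i := fun i hi => by
  simpa only [Bool.and_eq_true, Bool.or_eq_true, beq_iff_eq, bne_iff_ne, decide_eq_true_eq] using
    List.all_eq_true.1 ok1 i (List.mem_range.2 hi)

theorem ty_one (T : TD G D) : T.ty 1 = 0 :=
  (one_spec _ (T.lt 1)).1.resolve_right fun h => h ((T.ord 1).symm.trans orderOf_one)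

theorem Hyp.inh (h : Hyp T) : Inh T := inh_of_mass h.1 fun i hi => (one_spec i hi).2

/-- **the rows are generalized characters** -/
theorem rows_of (h : Hyp T) : ∀ r ∈ rA ++ rB, Virt T (nth r) := by
  have := h.finite
  have h1 := virt_span h.1 (ty_one T) h.inh h.2.2.1 okY
  have h2 := virt_span h.1 (ty_one T) h.inh h.2.2.2 okY'
  refine Sm1.virt_okC h.1.1 (List.forall_mem_append.2 ⟨fun r hr => h1 r (List.mem_of_mem_tail hr), ?_⟩) okC
  exact List.forall_mem_cons.2 ⟨Virt.ntd h2 1, List.forall_mem_cons.2 ⟨Virt.ntd h2 3,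
    List.forall_mem_cons.2 ⟨Virt.ntd h2 4, List.forall_mem_singleton.2 h.2.1⟩⟩⟩

/-- **the table** -/
theorem tab_of (h : Hyp T) : Tab T RR :=
  have := h.finite
  Sm2.tab_of_rows h.1 (ty_one T) (rows_of h) okR

theorem van_of (h : Hyp T) : VAN.Van3 G :=
  have := h.finite
  (tab_of h).van3 h.inh h.1.1 [(2, 24), (3, 6), (5, 2), (7, 2), (13, 1), (17, 1)] (by decide) 1 77 82
    (by decide +kernel)

theorem odd_of (h : Hyp T) : OddRat G :=
  have := h.finite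
  (tab_of h).oddRat h.inh [77] (by decide +kernel) (by decide +kernel)

theorem sig_of (h : Hyp T) : OddSig G :=
  have := h.finite
  (tab_of h).oddSig h.inh [(77, 0, 17, 6)] (by decide +kernel) [] (fun _ h => by cases h) (by decide +kernel)

theorem deg_of (h : Hyp T) : DegList G degL := deg_eq ▸ (tab_of h).degList

end Cfsg.Agent.TAB.F42
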